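import Groth.Agent.ModPair.K971.MProd
import Groth.Agent.Flat2C.TorsIdeal
import Groth.Agent.Flat2C.BlowProper
import Groth.Agent.Divis.BlowUpFormal
import Groth.Agent.S1273
import Groth.Agent.S14895

/-!
# Flattening of the closure of the generic fibre

`K971.FlatGraph.exists_flat`: `S` integral qcqs, `π : P ⟶ S` of finite type and flat finitely presented over a nonempty
quasi-compact open `U`: after a proper `b : S' ⟶ S`, `S'` integral, an isomorphism over `U`, there is a closed
subscheme of `P ×_S S'`, flat and finitely presented over `S'`, equal to `P ×_S S'` over `b⁻¹ U`.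
-/

set_option autoImplicit false
universe u
open CategoryTheory CategoryTheory.Limits AlgebraicGeometry TopologicalSpace

namespace K971.FlatGraph

open ModPair K971.Basic K971.MProd Groth.Agent.Divis.IdealComap Groth.Agent.Divis.EffCartier
  Groth.Agent.Flat2C.TorsIdeal

theorem isIntegral_of_isBlowUp {S S' : Scheme.{u}} [IsIntegral S] {𝓘 : S.IdealSheafData}
    {b : S' ⟶ S} (hb : BlowUp.IsBlowUp b 𝓘) (h𝓘 : BlowUp.IsFiniteTypeIdeal 𝓘)
    (hne : genericPoint S ∈ compl 𝓘) : IsIntegral S' := by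
  have h1 : IsIso (b ∣_ compl 𝓘) :=
    Groth.Agent.Divis.BlowUpFormal.isIso_morphismRestrict_compl_support hb _ (by
      rw [Set.disjoint_left]
      exact fun x hx hx' => hx hx')
  have h2 := isSchemeTheoreticallyDominant_compl hb.1
  have h3 := isFiniteTypeIdeal_comap h𝓘 b
  have h4 := quasiCompact_compl_ι h3
  have h5 : compl (𝓘.comap b) = b ⁻¹ᵁ compl 𝓘 := compl_comap _ _
  have : Nonempty (compl 𝓘 : S.Opens) := ⟨⟨_, hne⟩⟩
  have h6 : IsIntegral ((compl 𝓘 : S.Opens) : Scheme.{u}) := inferInstance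
  have h7 : IsIntegral ((compl (𝓘.comap b) : S'.Opens) : Scheme.{u}) := by
    rw [h5]
    have : Nonempty ↥((b ⁻¹ᵁ compl 𝓘 : S'.Opens) : Scheme.{u}) :=
      ⟨(inv (b ∣_ compl 𝓘)) (Classical.arbitrary _)⟩
    exact isIntegral_of_isOpenImmersion (b ∣_ compl 𝓘)
  exact Groth.Agent.S14895.isIntegral_of_dominant (compl (𝓘.comap b)).ι

theorem exists_flat {S P : Scheme.{u}} [IsIntegral S] [CompactSpace S] [QuasiSeparatedSpace S]
    (π : P ⟶ S) [LocallyOfFiniteType π] [QuasiCompact π] [QuasiSeparated π] (U : S.Opens)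
    (hU : IsCompact (U : Set S)) (hne : genericPoint S ∈ U) [Flat (π ∣_ U)]
    [LocallyOfFinitePresentation (π ∣_ U)] :
    ∃ (S' : Scheme.{u}) (b : S' ⟶ S) (W : Scheme.{u}) (j : W ⟶ pullback π b), IsIntegral S' ∧
      IsProper b ∧ IsIso (b ∣_ U) ∧ IsClosedImmersion j ∧ Flat (j ≫ pullback.snd π b) ∧
      LocallyOfFinitePresentation (j ≫ pullback.snd π b) ∧
      IsIso (j ∣_ (pullback.snd π b ⁻¹ᵁ b ⁻¹ᵁ U)) := by
  obtain ⟨𝓘, S', b, hb, ⟨h𝓘, hdisj⟩, H⟩ := Groth.Agent.S1273.result π U hU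
  have hle : U ≤ compl 𝓘 := fun x hx hx' => Set.disjoint_left.1 hdisj hx' hx
  have hint := isIntegral_of_isBlowUp hb h𝓘 (hle hne)
  have hiso : IsIso (b ∣_ U) :=
    Groth.Agent.Divis.BlowUpFormal.isIso_morphismRestrict_compl_support hb _ hdisj.symm
  have hprop : IsProper b := Groth.Agent.Flat2C.BlowProper.isProper_of_isBlowUp hb h𝓘
  let E := (𝓘.comap π).comap (pullback.fst π b)
  have hE : BlowUp.IsFiniteTypeIdeal E := isFiniteTypeIdeal_comap (isFiniteTypeIdeal_comap h𝓘 _) _
  have hqc : QuasiCompact (compl E).ι := quasiCompact_compl_ι hE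
  obtain ⟨h1, h2, -, -⟩ := H _ (pullback.fst π b) (pullback.snd π b)
    (IsPullback.of_hasPullback _ _) (torsIdeal E) (isTorsIdeal_torsIdeal hE)
  let j : (compl E).ι.image ⟶ pullback π b := (compl E).ι.imageι
  have h1' : Flat (j ≫ pullback.snd π b) := h1
  have h2' : LocallyOfFinitePresentation (j ≫ pullback.snd π b) := h2
  have hji : IsIso (j ∣_ compl E) := isIso_imageι_restrict _
  refine ⟨S', b, _, j, hint, hprop, hiso, inferInstanceAs (IsClosedImmersion (compl E).ι.imageι),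
    h1', h2', ?_⟩
  refine isIso_restrict_of_le (U := compl E) ?_
  have h8 : compl E = (pullback.fst π b) ⁻¹ᵁ π ⁻¹ᵁ compl 𝓘 := by
    rw [show compl E = _ from rfl, compl_comap, compl_comap]
  rw [h8, ← Scheme.Hom.comp_preimage, ← Scheme.Hom.comp_preimage, pullback.condition]
  exact Scheme.Hom.preimage_mono _ hle

end K971.FlatGraph
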