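import Groth.Agent.SSMod.K971.RestrictCurve
import Groth.Agent.Sga7.H734.NodalBC
import Groth.Agent.Cyc.K308.Split

/-!
# Base change of multipointed curves, of `NoExcComp` and of `IsEtaIso`
-/

set_option autoImplicit false
universe u
open CategoryTheory CategoryTheory.Limits AlgebraicGeometry TopologicalSpace

namespace K971.SSBaseChange

variable {S T C C' D D' CT CT' DT DT' : Scheme.{u}}

theorem isMPCurve_of_isPullback {φ : C ⟶ S} {i : D ⟶ C} (h : SSMod.IsMPCurve φ i) {t : T ⟶ S}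
    {p : CT ⟶ C} {φT : CT ⟶ T} (sq : IsPullback p φT φ t) {pD : DT ⟶ D} {iT : DT ⟶ CT}
    (sqi : IsPullback pD iT i p) : SSMod.IsMPCurve φT iT := by
  obtain ⟨h1, h2, h3, h4, h5, h6, h7, h8, h9⟩ := h
  have sq2 := sqi.paste_vert sq
  exact ⟨MorphismProperty.of_isPullback sq h1, MorphismProperty.of_isPullback sq h2,
    MorphismProperty.of_isPullback sq h3, MorphismProperty.of_isPullback sq h4,
    K308.Grp.hasRelDim_of_isPullback sq.flip h5,
    MorphismProperty.of_isPullback sqi h6,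
    MorphismProperty.of_isPullback sq2 h7, MorphismProperty.of_isPullback sq2 h8,
    K308.Grp.hasRelDim_of_isPullback sq2.flip h9⟩

theorem nonsmoothPts_of_isPullback {φ : C ⟶ S} [LocallyOfFinitePresentation φ] {t : T ⟶ S}
    {p : CT ⟶ C} {φT : CT ⟶ T} (sq : IsPullback p φT φ t) :
    DualGr.nonsmoothPts φT ⊆ p.base ⁻¹' DualGr.nonsmoothPts φ := by
  intro x hx hx'
  apply hx
  have hf : LocallyOfFinitePresentation φT := MorphismProperty.of_isPullback sq ‹_›
  obtain ⟨U, hU, hs⟩ := (Groth.Agent.UnramA.NearPoint.exists_smooth_nhd_iff φ (p x)).2 hx'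
  refine (Groth.Agent.UnramA.NearPoint.exists_smooth_nhd_iff φT x).1 ⟨p ⁻¹ᵁ U, hU, ?_⟩
  exact MorphismProperty.of_isPullback ((isPullback_morphismRestrict p U).flip.flip.paste_vert sq) hs

theorem isSemistable_of_isPullback {φ : C ⟶ S} {i : D ⟶ C} (h : SSMod.IsSemistable φ i) {t : T ⟶ S}
    {p : CT ⟶ C} {φT : CT ⟶ T} (sq : IsPullback p φT φ t) {pD : DT ⟶ D} {iT : DT ⟶ CT}
    (sqi : IsPullback pD iT i p) : SSMod.IsSemistable φT iT := by
  obtain ⟨h1, h2, h3, h4⟩ := h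
  refine ⟨isMPCurve_of_isPullback h1 sq sqi,
    Groth.Agent.Sga7.H734.NodalBC.isNodalFamily_of_isPullback sq h2,
    MorphismProperty.of_isPullback (sqi.paste_vert sq) h3, ?_⟩
  have := h1.2.1
  rw [Set.disjoint_left]
  rintro _ ⟨d, rfl⟩ hd
  refine Set.disjoint_left.1 h4 ⟨pD d, rfl⟩ ?_
  have h5 : i (pD d) = p (iT d) := by
    rw [← Scheme.Hom.comp_apply, ← Scheme.Hom.comp_apply, sqi.w]
  change i (pD d) ∈ _
  rw [h5]
  exact nonsmoothPts_of_isPullback sq hd

/-- `NoExcComp` is stable under arbitrary base change. -/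
theorem noExcComp_baseChange {φ : C ⟶ S} [LocallyOfFiniteType φ] {fC : C' ⟶ C} [IsProper fC]
    {i' : D' ⟶ C'} (h : SSMod.NoExcComp φ i' fC) {t : T ⟶ S} {p : CT ⟶ C} {φT : CT ⟶ T}
    (sq : IsPullback p φT φ t) {p' : CT' ⟶ C'} {fT : CT' ⟶ CT} (sqC : IsPullback p' fT fC p)
    {iT : DT' ⟶ CT'} (hr : Set.range iT.base = p'.base ⁻¹' Set.range i'.base) :
    SSMod.NoExcComp φT iT fT := by
  intro Ω _ _ g Z hZ hexc
  have s1 : IsPullback (pullback.fst (fT ≫ φT) g ≫ p') (pullback.snd (fT ≫ φT) g) (fC ≫ φ)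
      (g ≫ t) := by
    have h1 := (IsPullback.of_hasPullback (fT ≫ φT) g).flip.paste_vert (sqC.paste_vert sq).flip
    exact h1.flip
  have s2 : IsPullback (pullback.fst φT g ≫ p) (pullback.snd φT g) φ (g ≫ t) := by
    have h1 := (IsPullback.of_hasPullback φT g).flip.paste_vert sq.flip
    exact h1.flip
  let J' : pullback (fT ≫ φT) g ⟶ pullback (fC ≫ φ) (g ≫ t) := s1.isoPullback.hom
  have hJ'1 : J' ≫ pullback.fst (fC ≫ φ) (g ≫ t) = pullback.fst (fT ≫ φT) g ≫ p' :=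
    s1.isoPullback_hom_fst
  have hJ'2 : J' ≫ pullback.snd (fC ≫ φ) (g ≫ t) = pullback.snd (fT ≫ φT) g :=
    s1.isoPullback_hom_snd
  let J : pullback φT g ⟶ pullback φ (g ≫ t) := s2.isoPullback.hom
  have hJ1 : J ≫ pullback.fst φ (g ≫ t) = pullback.fst φT g ≫ p := s2.isoPullback_hom_fst
  have hJ2 : J ≫ pullback.snd φ (g ≫ t) = pullback.snd φT g := s2.isoPullback_hom_snd
  have hJo : IsIso J := inferInstanceAs (IsIso s2.isoPullback.hom)
  have hJo' : IsIso J' := inferInstanceAs (IsIso s1.isoPullback.hom)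
  have hcomm : J' ≫ CInt.baseChangeOver fC φ (g ≫ t) = CInt.baseChangeOver fT φT g ≫ J := by
    apply pullback.hom_ext
    · calc (J' ≫ CInt.baseChangeOver fC φ (g ≫ t)) ≫ pullback.fst φ (g ≫ t)
          = J' ≫ CInt.baseChangeOver fC φ (g ≫ t) ≫ pullback.fst φ (g ≫ t) := Category.assoc _ _ _
        _ = J' ≫ pullback.fst (fC ≫ φ) (g ≫ t) ≫ fC :=
          congrArg (J' ≫ ·) (SSRestrict.baseChangeOver_fst fC φ (g ≫ t))
        _ = (J' ≫ pullback.fst (fC ≫ φ) (g ≫ t)) ≫ fC := (Category.assoc _ _ _).symm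
        _ = (pullback.fst (fT ≫ φT) g ≫ p') ≫ fC := congrArg (· ≫ fC) hJ'1
        _ = pullback.fst (fT ≫ φT) g ≫ p' ≫ fC := Category.assoc _ _ _
        _ = pullback.fst (fT ≫ φT) g ≫ fT ≫ p := congrArg (pullback.fst (fT ≫ φT) g ≫ ·) sqC.w
        _ = (pullback.fst (fT ≫ φT) g ≫ fT) ≫ p := (Category.assoc _ _ _).symm
        _ = (CInt.baseChangeOver fT φT g ≫ pullback.fst φT g) ≫ p :=
          congrArg (· ≫ p) (SSRestrict.baseChangeOver_fst fT φT g).symm
        _ = CInt.baseChangeOver fT φT g ≫ pullback.fst φT g ≫ p := Category.assoc _ _ _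
        _ = CInt.baseChangeOver fT φT g ≫ J ≫ pullback.fst φ (g ≫ t) :=
          congrArg (CInt.baseChangeOver fT φT g ≫ ·) hJ1.symm
        _ = (CInt.baseChangeOver fT φT g ≫ J) ≫ pullback.fst φ (g ≫ t) :=
          (Category.assoc _ _ _).symm
    · rw [Category.assoc, SSRestrict.baseChangeOver_snd, hJ'2, Category.assoc, hJ2,
        SSRestrict.baseChangeOver_snd]
  have hsq : IsPullback J' (CInt.baseChangeOver fT φT g) (CInt.baseChangeOver fC φ (g ≫ t)) J :=
    IsPullback.of_horiz_isIso ⟨hcomm⟩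
  have hp : IsProper (CInt.baseChangeOver fC φ (g ≫ t)) :=
    MorphismProperty.of_isPullback (SSRestrict.isPullback_baseChangeOver fC φ (g ≫ t)) ‹IsProper fC›
  obtain ⟨h1, h2⟩ := SSRestrict.isExcComp_image (Ω := Ω) (f := CInt.baseChangeOver fC φ (g ≫ t))
    (q := pullback.snd φ (g ≫ t)) hsq (M := (pullback.fst (fT ≫ φT) g).base ⁻¹' Set.range iT.base)
    (M' := (pullback.fst (fC ≫ φ) (g ≫ t)).base ⁻¹' Set.range i'.base)
    (q' := pullback.snd (fC ≫ φ) (g ≫ t)) (qY := pullback.snd (fT ≫ φT) g) (fun y => by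
      rw [Set.mem_preimage, Set.mem_preimage, hr, Set.mem_preimage]
      have : (pullback.fst (fC ≫ φ) (g ≫ t)).base (J' y) =
          p'.base ((pullback.fst (fT ≫ φT) g).base y) := by
        have h := congrArg (fun f => f.base y) hJ'1
        simpa using h
      rw [this]) hZ hJ'2.symm hexc
  exact h Ω (g ≫ t) _ h1 h2

/-- `IsEtaIso` under a base change of the base mapping generic point to generic point. -/
theorem isEtaIso_baseChange [IsIntegral S] [IsIntegral T] {φ : C ⟶ S} {fC : C' ⟶ C}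
    (h : SSMod.IsEtaIso φ fC) {t : T ⟶ S} (ht : t (genericPoint T) = genericPoint S)
    {p : CT ⟶ C} {φT : CT ⟶ T} (w : p ≫ φ = φT ≫ t) {p' : CT' ⟶ C'} {fT : CT' ⟶ CT}
    (sqC : IsPullback p' fT fC p) : SSMod.IsEtaIso φT fT := by
  apply SSBasic.isEtaIso_of_forall
  intro Z P a q z sq b hb
  refine SSBasic.isIso_of_isEtaIso h (sq.paste_horiz sqC)
    (b ≫ Spec.map (t.stalkMap (genericPoint T)) ≫
      Spec.map (S.presheaf.stalkSpecializes (specializes_of_eq ht))) ?_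
  rw [Category.assoc, w, ← Category.assoc, hb, Category.assoc, Category.assoc, Category.assoc,
    Scheme.SpecMap_stalkSpecializes_fromSpecStalk, Scheme.SpecMap_stalkMap_fromSpecStalk]

end K971.SSBaseChange
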