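import Groth.Agent.Ega4dA.IsoFib
import Mathlib.AlgebraicGeometry.Morphisms.FlatDescent

/-!
# Being an isomorphism after base change along `t : T ⟶ S`
-/

set_option autoImplicit false
universe u
open CategoryTheory CategoryTheory.Limits AlgebraicGeometry TopologicalSpace

namespace K971

variable {X Y S T T' S' : Scheme.{u}}

/-- The `S`-morphism `f : X ⟶ Y` (`Y` over `S` by `h`) is an isomorphism after base change along `t : T ⟶ S`. -/
def IsoOver (f : X ⟶ Y) (h : Y ⟶ S) (t : T ⟶ S) : Prop :=
  IsIso (pullback.snd f (pullback.fst h t))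

namespace IsoOver

/-- `IsoOver` in terms of arbitrary pullback squares. -/
theorem iff_of_isPullback {f : X ⟶ Y} {h : Y ⟶ S} {t : T ⟶ S} {Y' X' : Scheme.{u}} {y : Y' ⟶ Y}
    {h' : Y' ⟶ T} (sq : IsPullback y h' h t) {x : X' ⟶ X} {f' : X' ⟶ Y'} (sq' : IsPullback x f' f y) :
    IsoOver f h t ↔ IsIso f' := by
  let e : Y' ≅ pullback h t := sq.isoPullback
  have he : e.hom ≫ pullback.fst h t = y := sq.isoPullback_hom_fst
  have sq2 : IsPullback x (f' ≫ e.hom) f (pullback.fst h t) := by
    refine sq'.of_iso (Iso.refl _) (Iso.refl _) e (Iso.refl _) ?_ ?_ ?_ ?_ <;> simp [he]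
  have e2 := sq2.isoPullback_hom_snd
  constructor
  · intro H
    have H : IsIso (pullback.snd f (pullback.fst h t)) := H
    have h1 : IsIso (f' ≫ e.hom) := by rw [← e2]; infer_instance
    exact IsIso.of_isIso_comp_right f' e.hom
  · intro H
    have h1 : IsIso (sq2.isoPullback.hom ≫ pullback.snd f (pullback.fst h t)) := by
      rw [e2]; infer_instance
    exact IsIso.of_isIso_comp_left sq2.isoPullback.hom _

/-- Stability under base change. -/
theorem comp {f : X ⟶ Y} {h : Y ⟶ S} {t : T ⟶ S} (H : IsoOver f h t) (u : T' ⟶ T) :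
    IsoOver f h (u ≫ t) := by
  have s1 : IsPullback (pullback.fst h t) (pullback.snd h t) h t := IsPullback.of_hasPullback _ _
  have s2 : IsPullback (pullback.fst f (pullback.fst h t)) (pullback.snd f (pullback.fst h t)) f
      (pullback.fst h t) := IsPullback.of_hasPullback _ _
  have s3 : IsPullback (pullback.fst (pullback.snd h t) u) (pullback.snd (pullback.snd h t) u)
      (pullback.snd h t) u := IsPullback.of_hasPullback _ _
  have s4 : IsPullback (pullback.fst (pullback.snd f (pullback.fst h t))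
      (pullback.fst (pullback.snd h t) u)) (pullback.snd _ _) (pullback.snd f (pullback.fst h t))
      (pullback.fst (pullback.snd h t) u) := IsPullback.of_hasPullback _ _
  rw [iff_of_isPullback (s3.flip.paste_vert s1.flip).flip (s4.paste_horiz s2)]
  have : IsIso (pullback.snd f (pullback.fst h t)) := H
  infer_instance

/-- `f'` a base change of `f` along `S' ⟶ S`. -/
theorem iff_comp {f : X ⟶ Y} {h : Y ⟶ S} {s : S' ⟶ S} {Y' X' : Scheme.{u}} {y : Y' ⟶ Y}
    {h' : Y' ⟶ S'} (sq : IsPullback y h' h s) {x : X' ⟶ X} {f' : X' ⟶ Y'}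
    (sq' : IsPullback x f' f y) (t : T ⟶ S') :
    IsoOver f' h' t ↔ IsoOver f h (t ≫ s) := by
  have s1 : IsPullback (pullback.fst h' t) (pullback.snd h' t) h' t := IsPullback.of_hasPullback _ _
  have s2 : IsPullback (pullback.fst f' (pullback.fst h' t)) (pullback.snd f' (pullback.fst h' t)) f'
      (pullback.fst h' t) := IsPullback.of_hasPullback _ _
  rw [iff_of_isPullback (s1.flip.paste_vert sq.flip).flip (s2.paste_horiz sq')]
  rfl

/-- Fpqc descent. -/
theorem descend {f : X ⟶ Y} {h : Y ⟶ S} {t : T ⟶ S} (u : T' ⟶ T) [Surjective u] [Flat u]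
    [QuasiCompact u] (H : IsoOver f h (u ≫ t)) : IsoOver f h t := by
  have s1 : IsPullback (pullback.fst h t) (pullback.snd h t) h t := IsPullback.of_hasPullback _ _
  have s2 : IsPullback (pullback.fst f (pullback.fst h t)) (pullback.snd f (pullback.fst h t)) f
      (pullback.fst h t) := IsPullback.of_hasPullback _ _
  have s3 : IsPullback (pullback.fst (pullback.snd h t) u) (pullback.snd (pullback.snd h t) u)
      (pullback.snd h t) u := IsPullback.of_hasPullback _ _
  have s4 : IsPullback (pullback.fst (pullback.snd f (pullback.fst h t))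
      (pullback.fst (pullback.snd h t) u)) (pullback.snd _ _) (pullback.snd f (pullback.fst h t))
      (pullback.fst (pullback.snd h t) u) := IsPullback.of_hasPullback _ _
  rw [iff_of_isPullback (s3.flip.paste_vert s1.flip).flip (s4.paste_horiz s2)] at H
  change MorphismProperty.isomorphisms Scheme.{u} (pullback.snd f (pullback.fst h t))
  refine MorphismProperty.of_pullback_snd_of_descendsAlong
    (P := MorphismProperty.isomorphisms Scheme.{u}) (Q := @Surjective ⊓ @Flat ⊓ @QuasiCompact)
    (f := pullback.snd f (pullback.fst h t)) (g := pullback.fst (pullback.snd h t) u) ?_ ?_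
  · exact ⟨⟨inferInstance, inferInstance⟩, inferInstance⟩
  · exact H

theorem self {f : X ⟶ Y} {h : Y ⟶ S} : IsoOver f h (𝟙 S) ↔ IsIso f := by
  have s1 : IsPullback (𝟙 Y) h h (𝟙 S) := IsPullback.of_horiz_isIso (by simp)
  have s2 : IsPullback (𝟙 X) f f (𝟙 Y) := IsPullback.of_horiz_isIso (by simp)
  exact iff_of_isPullback s1 s2

/-- Fibrewise criterion over `T`. -/
theorem of_points {f : X ⟶ Y} {h : Y ⟶ S} [LocallyOfFiniteType h] [IsProper f] (t : T ⟶ S)
    (hfl : Flat (pullback.snd (f ≫ h) t)) (hlf : LocallyOfFinitePresentation (pullback.snd (f ≫ h) t))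
    (H : ∀ x : T, IsoOver f h (T.fromSpecResidueField x ≫ t)) : IsoOver f h t := by
  have s1 : IsPullback (pullback.fst h t) (pullback.snd h t) h t := IsPullback.of_hasPullback _ _
  have s2 : IsPullback (pullback.fst f (pullback.fst h t)) (pullback.snd f (pullback.fst h t)) f
      (pullback.fst h t) := IsPullback.of_hasPullback _ _
  have s3 := (s2.flip.paste_horiz s1.flip).flip
  let e := s3.isoPullback
  have he : e.hom ≫ pullback.snd (f ≫ h) t = pullback.snd f (pullback.fst h t) ≫ pullback.snd h t :=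
    s3.isoPullback_hom_snd
  have hfl' : Flat (pullback.snd f (pullback.fst h t) ≫ pullback.snd h t) := by
    rw [← he]; infer_instance
  have hlf' : LocallyOfFinitePresentation (pullback.snd f (pullback.fst h t) ≫ pullback.snd h t) := by
    rw [← he]; infer_instance
  change IsIso (pullback.snd f (pullback.fst h t))
  refine Groth.Agent.Ega4dA.IsoFib.isIso_of_fibres _ (pullback.snd h t) fun x => ?_
  change IsoOver (pullback.snd f (pullback.fst h t)) (pullback.snd h t) (T.fromSpecResidueField x)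
  rw [iff_comp s1 s2]
  exact H x

theorem of_isIso (f : X ⟶ Y) [IsIso f] (h : Y ⟶ S) (t : T ⟶ S) : IsoOver f h t := by
  change IsIso (pullback.snd f (pullback.fst h t))
  infer_instance

theorem exists_comp {Z : Scheme.{u}} (f' : Z ⟶ X) (f : X ⟶ Y) (h : Y ⟶ S) (t : T ⟶ S) :
    ∃ (X' Z' Y' : Scheme.{u}) (a : Z' ⟶ X') (c : X' ⟶ Y'), (IsoOver f' (f ≫ h) t ↔ IsIso a) ∧
      (IsoOver f h t ↔ IsIso c) ∧ (IsoOver (f' ≫ f) h t ↔ IsIso (a ≫ c)) := by
  have s1 : IsPullback (pullback.fst h t) (pullback.snd h t) h t := IsPullback.of_hasPullback _ _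
  have s2 : IsPullback (pullback.fst f (pullback.fst h t)) (pullback.snd f (pullback.fst h t)) f
      (pullback.fst h t) := IsPullback.of_hasPullback _ _
  have s4 : IsPullback (pullback.fst f' (pullback.fst f (pullback.fst h t)))
      (pullback.snd f' (pullback.fst f (pullback.fst h t))) f'
      (pullback.fst f (pullback.fst h t)) := IsPullback.of_hasPullback _ _
  exact ⟨_, _, _, _, _, iff_of_isPullback (s2.flip.paste_horiz s1.flip).flip s4,
    iff_of_isPullback s1 s2, iff_of_isPullback s1 (s4.flip.paste_horiz s2.flip).flip⟩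

theorem comp_comp {Z : Scheme.{u}} {f' : Z ⟶ X} {f : X ⟶ Y} {h : Y ⟶ S} {t : T ⟶ S}
    (H : IsoOver f h t) (H' : IsoOver f' (f ≫ h) t) : IsoOver (f' ≫ f) h t := by
  obtain ⟨_, _, _, a, c, h1, h2, h3⟩ := exists_comp f' f h t
  have := h1.mp H'
  have := h2.mp H
  rw [h3]
  infer_instance

theorem of_comp {Z : Scheme.{u}} {f' : Z ⟶ X} {f : X ⟶ Y} {h : Y ⟶ S} {t : T ⟶ S}
    (H : IsoOver f h t) (H' : IsoOver (f' ≫ f) h t) : IsoOver f' (f ≫ h) t := by
  obtain ⟨_, _, _, a, c, h1, h2, h3⟩ := exists_comp f' f h t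
  have := h3.mp H'
  have := h2.mp H
  rw [h1]
  exact IsIso.of_isIso_comp_right a c

theorem of_comp' {Z : Scheme.{u}} {f' : Z ⟶ X} {f : X ⟶ Y} {h : Y ⟶ S} {t : T ⟶ S}
    (H : IsoOver f' (f ≫ h) t) (H' : IsoOver (f' ≫ f) h t) : IsoOver f h t := by
  obtain ⟨_, _, _, a, c, h1, h2, h3⟩ := exists_comp f' f h t
  have := h3.mp H'
  have := h1.mp H
  rw [h2]
  exact IsIso.of_isIso_comp_left a c

theorem iff_restrict (f : X ⟶ Y) (h : Y ⟶ S) (U : S.Opens) :
    IsoOver f h U.ι ↔ IsIso (f ∣_ (h ⁻¹ᵁ U)) :=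
  iff_of_isPullback (isPullback_morphismRestrict h U).flip.flip.flip
    (isPullback_morphismRestrict f (h ⁻¹ᵁ U)).flip

/-- Base change in `Y`. -/
theorem of_isPullback {f : X ⟶ Y} {h : Y ⟶ S} {t : T ⟶ S} (H : IsoOver f h t) {X' Y' : Scheme.{u}}
    {g' : X' ⟶ X} {f' : X' ⟶ Y'} {g : Y' ⟶ Y} (sq : IsPullback g' f' f g) :
    IsoOver f' (g ≫ h) t := by
  have s1 : IsPullback (pullback.fst (g ≫ h) t) (pullback.snd (g ≫ h) t) (g ≫ h) t :=
    IsPullback.of_hasPullback _ _
  have s2 : IsPullback (pullback.fst f' (pullback.fst (g ≫ h) t)) (pullback.snd _ _) f'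
      (pullback.fst (g ≫ h) t) := IsPullback.of_hasPullback _ _
  rw [iff_of_isPullback s1 s2]
  let l : pullback (g ≫ h) t ⟶ pullback h t := pullback.lift (pullback.fst _ _ ≫ g)
    (pullback.snd _ _) (by rw [Category.assoc, pullback.condition])
  have hl : l ≫ pullback.fst h t = pullback.fst (g ≫ h) t ≫ g := pullback.lift_fst _ _ _
  have s3 := s2.paste_horiz sq
  rw [← hl] at s3
  exact Groth.Agent.Ega4dA.IsoFib.isIso_of_isPullback_comp s3 H

theorem exists_residueField {K : Type u} [Field K] (x : Spec (CommRingCat.of K) ⟶ S) (s : S)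
    (hs : x (IsLocalRing.closedPoint K) = s) :
    ∃ c : S.residueField s ⟶ CommRingCat.of K, x = Spec.map c ≫ S.fromSpecResidueField s := by
  obtain ⟨⟨s', c⟩, hc⟩ := (Scheme.SpecToEquivOfField K S).symm.surjective x
  have hc' : Spec.map c ≫ S.fromSpecResidueField s' = x := hc
  have h1 : s' = s := by
    rw [← hs, ← hc', Scheme.Hom.comp_apply]
    exact (Scheme.fromSpecResidueField_apply _ _).symm
  subst h1
  exact ⟨c, hc'.symm⟩

theorem of_residueField {f : X ⟶ Y} {h : Y ⟶ S} {K : Type u} [Field K]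
    (x : Spec (CommRingCat.of K) ⟶ S) (s : S) (hs : x (IsLocalRing.closedPoint K) = s)
    (H : IsoOver f h (S.fromSpecResidueField s)) : IsoOver f h x := by
  obtain ⟨c, rfl⟩ := exists_residueField x s hs
  exact H.comp _

theorem surjective_field {K L : CommRingCat.{u}} (hK : IsField K) (hL : IsField L) (c : K ⟶ L) :
    Surjective (Spec.map c) := by
  let _ := hK.toField
  let _ := hL.toField
  have : Subsingleton ↥(Spec K) := inferInstanceAs (Subsingleton (PrimeSpectrum K))
  have : Nonempty ↥(Spec L) := inferInstanceAs (Nonempty (PrimeSpectrum L))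
  exact ⟨fun x => ⟨Classical.arbitrary _, Subsingleton.elim _ _⟩⟩

theorem residueField_of {f : X ⟶ Y} {h : Y ⟶ S} {K : Type u} [Field K]
    (x : Spec (CommRingCat.of K) ⟶ S) (s : S) (hs : x (IsLocalRing.closedPoint K) = s)
    (H : IsoOver f h x) : IsoOver f h (S.fromSpecResidueField s) := by
  obtain ⟨c, rfl⟩ := exists_residueField x s hs
  have h1 : Surjective (Spec.map c) := surjective_field (Field.toIsField (S.residueField s))
    (Field.toIsField K) c
  have h2 : Flat (Spec.map c) := by
    rw [Flat.SpecMap_iff]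
    let _ := c.hom.toAlgebra
    exact (inferInstance : Module.Flat (S.residueField s) K)
  exact H.descend _

end IsoOver

end K971
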