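import Groth.Agent.SSMod.K971.EtaNbhd
import Groth.Agent.SSMod.K971.IsoOver
import Groth.Agent.SSMod.K971.FlatGraph
import Mathlib.AlgebraicGeometry.Noetherian
import Mathlib.Topology.NoetherianSpace

/-!
# Morphisms which are isomorphisms on generic fibres are isomorphisms over an open subset of the base
-/

set_option autoImplicit false
universe u
open CategoryTheory CategoryTheory.Limits AlgebraicGeometry TopologicalSpace

namespace K971.EtaOpen

variable {S C C' : Scheme.{u}}

theorem exists_open_of_isConstructible [IrreducibleSpace S] {E : Set S}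
    (hE : Topology.IsConstructible E) :
    (∃ U : S.Opens, genericPoint S ∈ U ∧ (U : Set S) ⊆ E) ∨
      (∃ U : S.Opens, genericPoint S ∈ U ∧ (U : Set S) ⊆ Eᶜ) := by
  induction hE using Topology.IsConstructible.empty_union_induction with
  | open_retrocompact U hU hUc =>
    by_cases h : genericPoint S ∈ U
    · exact Or.inl ⟨⟨U, hU⟩, h, subset_rfl⟩
    · refine Or.inr ⟨⊤, trivial, ?_⟩
      intro x _ hx
      exact h ((genericPoint_specializes x).mem_open hU hx)
  | union s hs t ht h1 h2 =>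
    rcases h1 with ⟨U, hU, h⟩ | ⟨U, hU, h⟩
    · exact Or.inl ⟨U, hU, h.trans Set.subset_union_left⟩
    · rcases h2 with ⟨V, hV, h'⟩ | ⟨V, hV, h'⟩
      · exact Or.inl ⟨V, hV, h'.trans Set.subset_union_right⟩
      · refine Or.inr ⟨U ⊓ V, ⟨hU, hV⟩, ?_⟩
        rintro x ⟨hx, hx'⟩ (h3 | h3)
        · exact h hx h3
        · exact h' hx' h3
  | compl s hs h =>
    rcases h with h | ⟨U, hU, h⟩
    · right
      simpa only [compl_compl] using h
    · exact Or.inl ⟨U, hU, h⟩

theorem exists_preimage_le [IrreducibleSpace S] [IsNoetherian S] (φ : C ⟶ S)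
    [LocallyOfFiniteType φ] [QuasiCompact φ] (W : C.Opens)
    (hW : ∀ x : C, φ x = genericPoint S → x ∈ W) :
    ∃ U : S.Opens, genericPoint S ∈ U ∧ φ ⁻¹ᵁ U ≤ W := by
  have : IsLocallyNoetherian C := LocallyOfFiniteType.isLocallyNoetherian φ
  have : CompactSpace C := QuasiCompact.compactSpace_of_compactSpace φ
  have : IsNoetherian C := {}
  have : LocallyOfFinitePresentation φ := inferInstance
  have h1 : Topology.IsConstructible ((W : Set C)ᶜ) := by
    refine Topology.IsConstructible.compl ?_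
    exact (NoetherianSpace.isCompact _).isConstructible W.isOpen
  rcases exists_open_of_isConstructible (φ.isConstructible_image h1) with ⟨U, hU, h⟩ | ⟨U, hU, h⟩
  · obtain ⟨x, hx, hx'⟩ := h hU
    exact absurd (hW x hx') hx
  · refine ⟨U, hU, fun x hx => ?_⟩
    by_contra h2
    exact h hx ⟨x, h2, rfl⟩

theorem exists_isoOver [IsIntegral S] [IsNoetherian S] {φ : C ⟶ S} [LocallyOfFiniteType φ]
    [QuasiCompact φ] {f : C' ⟶ C} [IsProper f] (h : SSMod.IsEtaIso φ f) :
    ∃ U : S.Opens, genericPoint S ∈ U ∧ IsoOver f φ U.ι := by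
  have : IsLocallyNoetherian C := LocallyOfFiniteType.isLocallyNoetherian φ
  have : LocallyOfFinitePresentation f := inferInstance
  obtain ⟨W, hW, hi⟩ := EtaNbhd.exists_open_of_isEtaIso h
  obtain ⟨U, hU, hUW⟩ := exists_preimage_le φ W hW
  refine ⟨U, hU, ?_⟩
  rw [IsoOver.iff_restrict]
  exact K971.MProd.isIso_restrict_of_le hUW

theorem isoOver_of_le {f : C' ⟶ C} {φ : C ⟶ S} {U V : S.Opens} (h : IsoOver f φ U.ι) (hV : V ≤ U) :
    IsoOver f φ V.ι := by
  have h1 := h.comp (S.homOfLE hV)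
  rwa [Scheme.homOfLE_ι] at h1

theorem exists_fromSpecStalk (U : S.Opens) (s : S) (hs : s ∈ U) :
    ∃ m : Spec (S.presheaf.stalk s) ⟶ (U : Scheme.{u}), m ≫ U.ι = S.fromSpecStalk s := by
  refine ⟨IsOpenImmersion.lift U.ι (S.fromSpecStalk s) ?_, IsOpenImmersion.lift_fac _ _ _⟩
  rw [Scheme.Opens.range_ι, Scheme.range_fromSpecStalk]
  intro x hx
  exact (show x ⤳ s from hx).mem_open U.isOpen hs

theorem isEtaIso_of_isoOver [IsIntegral S] {f : C' ⟶ C} {φ : C ⟶ S} {U : S.Opens}
    (hU : genericPoint S ∈ U) (h : IsoOver f φ U.ι) : SSMod.IsEtaIso φ f := by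
  obtain ⟨m, hm⟩ := exists_fromSpecStalk U _ hU
  have h1 := h.comp m
  rw [hm] at h1
  exact h1

end K971.EtaOpen
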