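import Groth.Agent.SSMod.K971.Descend

/-!
# S15276 from S15273

`Fac` is the statement of S15273.
-/

set_option autoImplicit false
universe u
open CategoryTheory CategoryTheory.Limits AlgebraicGeometry TopologicalSpace Opposite

namespace K971.SSUses

/-- The statement of S15273. -/
def Fac : Prop := ∀ {S C D Cst Dst C' D' : Scheme.{u}} [IsIntegral S] [CompactSpace S]
    [QuasiSeparatedSpace S] (_ : Pi1.IsNormalScheme S) (φ : C ⟶ S) (i : D ⟶ C)
    (_ : SSMod.IsMPCurve φ i)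
    (ist : Dst ⟶ Cst) (fC : Cst ⟶ C) (fD : Dst ⟶ D) (_ : SSMod.IsStableModification φ i ist fC fD)
    (_ : SSMod.IsEtaIso φ fC) (_ : SSMod.IsEtaIso (i ≫ φ) fD)
    (i' : D' ⟶ C') (gC : C' ⟶ C) (gD : D' ⟶ D) (_ : SSMod.IsSemistableModification φ i i' gC gD)
    (_ : SSMod.IsEtaIso φ gC) (_ : SSMod.IsEtaIso (i ≫ φ) gD),
    ∃ (hC' : C' ⟶ Cst) (hD' : D' ⟶ Dst), (i' ≫ hC' = hD' ≫ ist ∧ hC' ≫ fC = gC ∧ hD' ≫ fD = gD) ∧
      ∀ (kC : C' ⟶ Cst) (kD : D' ⟶ Dst), i' ≫ kC = kD ≫ ist → kC ≫ fC = gC → kD ≫ fD = gD →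
        kC = hC' ∧ kD = hD'

section Bc

variable {S T C D C' D' : Scheme.{u}}

/-- the `D`-component of the base change of a modification -/
theorem exists_bcD {φ : C ⟶ S} {i : D ⟶ C} {i' : D' ⟶ C'} {fC : C' ⟶ C} {fD : D' ⟶ D}
    (w : i' ≫ fC = fD ≫ i) (g : T ⟶ S) :
    ∃ fDT : pullback (i' ≫ fC ≫ φ) g ⟶ pullback (i ≫ φ) g,
      fDT ≫ pullback.fst (i ≫ φ) g = pullback.fst (i' ≫ fC ≫ φ) g ≫ fD ∧
      fDT ≫ pullback.snd (i ≫ φ) g = pullback.snd (i' ≫ fC ≫ φ) g ∧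
      IsPullback (pullback.fst (i' ≫ fC ≫ φ) g) fDT fD (pullback.fst (i ≫ φ) g) ∧
      CInt.baseChangeOver i' (fC ≫ φ) g ≫ CInt.baseChangeOver fC φ g =
        fDT ≫ CInt.baseChangeOver i φ g := by
  have e : i' ≫ fC ≫ φ = fD ≫ i ≫ φ := by rw [← Category.assoc, w, Category.assoc]
  let fDT : pullback (i' ≫ fC ≫ φ) g ⟶ pullback (i ≫ φ) g :=
    pullback.lift (pullback.fst (i' ≫ fC ≫ φ) g ≫ fD) (pullback.snd (i' ≫ fC ≫ φ) g) (by
      rw [Category.assoc, ← e, pullback.condition])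
  have h1 : fDT ≫ pullback.fst (i ≫ φ) g = pullback.fst (i' ≫ fC ≫ φ) g ≫ fD :=
    pullback.lift_fst _ _ _
  have h2 : fDT ≫ pullback.snd (i ≫ φ) g = pullback.snd (i' ≫ fC ≫ φ) g :=
    pullback.lift_snd _ _ _
  refine ⟨fDT, h1, h2, ?_, ?_⟩
  · refine IsPullback.of_bot ?_ h1.symm (IsPullback.of_hasPullback (i ≫ φ) g)
    rw [h2, ← e]
    exact IsPullback.of_hasPullback _ _
  · apply pullback.hom_ext
    · calc (CInt.baseChangeOver i' (fC ≫ φ) g ≫ CInt.baseChangeOver fC φ g) ≫ pullback.fst φ g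
          = CInt.baseChangeOver i' (fC ≫ φ) g ≫ CInt.baseChangeOver fC φ g ≫ pullback.fst φ g :=
          Category.assoc _ _ _
        _ = CInt.baseChangeOver i' (fC ≫ φ) g ≫ pullback.fst (fC ≫ φ) g ≫ fC :=
          congrArg (CInt.baseChangeOver i' (fC ≫ φ) g ≫ ·) (SSRestrict.baseChangeOver_fst fC φ g)
        _ = (CInt.baseChangeOver i' (fC ≫ φ) g ≫ pullback.fst (fC ≫ φ) g) ≫ fC :=
          (Category.assoc _ _ _).symm
        _ = (pullback.fst (i' ≫ fC ≫ φ) g ≫ i') ≫ fC :=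
          congrArg (· ≫ fC) (SSRestrict.baseChangeOver_fst i' (fC ≫ φ) g)
        _ = pullback.fst (i' ≫ fC ≫ φ) g ≫ fD ≫ i := by rw [Category.assoc, w]
        _ = (fDT ≫ pullback.fst (i ≫ φ) g) ≫ i := by rw [h1, Category.assoc]
        _ = fDT ≫ CInt.baseChangeOver i φ g ≫ pullback.fst φ g := by
          rw [Category.assoc]
          exact congrArg (fDT ≫ ·) (SSRestrict.baseChangeOver_fst i φ g).symm
        _ = _ := (Category.assoc _ _ _).symm
    · calc (CInt.baseChangeOver i' (fC ≫ φ) g ≫ CInt.baseChangeOver fC φ g) ≫ pullback.snd φ g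
          = CInt.baseChangeOver i' (fC ≫ φ) g ≫ CInt.baseChangeOver fC φ g ≫ pullback.snd φ g :=
          Category.assoc _ _ _
        _ = CInt.baseChangeOver i' (fC ≫ φ) g ≫ pullback.snd (fC ≫ φ) g :=
          congrArg (CInt.baseChangeOver i' (fC ≫ φ) g ≫ ·) (SSRestrict.baseChangeOver_snd fC φ g)
        _ = pullback.snd (i' ≫ fC ≫ φ) g := SSRestrict.baseChangeOver_snd i' (fC ≫ φ) g
        _ = fDT ≫ pullback.snd (i ≫ φ) g := h2.symm
        _ = fDT ≫ CInt.baseChangeOver i φ g ≫ pullback.snd φ g :=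
          congrArg (fDT ≫ ·) (SSRestrict.baseChangeOver_snd i φ g).symm
        _ = _ := (Category.assoc _ _ _).symm

end Bc

theorem fac_after_modification (H : Fac.{u})
    {S C D Cst Dst Cb Db : Scheme.{u}} [IsIntegral S] [CompactSpace S] [QuasiSeparatedSpace S]
    (φ : C ⟶ S) (i : D ⟶ C) (hC : SSMod.IsMPCurve φ i)
    (ist : Dst ⟶ Cst) (fC : Cst ⟶ C) (fD : Dst ⟶ D) (hst : SSMod.IsStableModification φ i ist fC fD)
    (hη : SSMod.IsEtaIso φ fC) (hηD : SSMod.IsEtaIso (i ≫ φ) fD)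
    (ib : Db ⟶ Cb) (bC : Cb ⟶ C) (bD : Db ⟶ D) (hb : SSMod.IsSemistableModification φ i ib bC bD)
    (hηb : SSMod.IsEtaIso φ bC) (hηbD : SSMod.IsEtaIso (i ≫ φ) bD) :
    ∃ (S' : Scheme.{u}) (g : S' ⟶ S), SSMod.IsModification g ∧ IsFinite g ∧
      ∃ (hC' : pullback (bC ≫ φ) g ⟶ pullback (fC ≫ φ) g)
        (hD' : pullback (ib ≫ bC ≫ φ) g ⟶ pullback (ist ≫ fC ≫ φ) g),
        (CInt.baseChangeOver ib (bC ≫ φ) g ≫ hC' = hD' ≫ CInt.baseChangeOver ist (fC ≫ φ) g ∧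
          hC' ≫ CInt.baseChangeOver fC φ g = CInt.baseChangeOver bC φ g ∧
          hD' ≫ pullback.fst (ist ≫ fC ≫ φ) g ≫ fD = pullback.fst (ib ≫ bC ≫ φ) g ≫ bD ∧
          hD' ≫ pullback.snd (ist ≫ fC ≫ φ) g = pullback.snd (ib ≫ bC ≫ φ) g) ∧
        ∀ (kC : pullback (bC ≫ φ) g ⟶ pullback (fC ≫ φ) g)
          (kD : pullback (ib ≫ bC ≫ φ) g ⟶ pullback (ist ≫ fC ≫ φ) g),
          CInt.baseChangeOver ib (bC ≫ φ) g ≫ kC = kD ≫ CInt.baseChangeOver ist (fC ≫ φ) g →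
          kC ≫ CInt.baseChangeOver fC φ g = CInt.baseChangeOver bC φ g →
          kD ≫ pullback.fst (ist ≫ fC ≫ φ) g ≫ fD = pullback.fst (ib ≫ bC ≫ φ) g ≫ bD →
          kD ≫ pullback.snd (ist ≫ fC ≫ φ) g = pullback.snd (ib ≫ bC ≫ φ) g →
          kC = hC' ∧ kD = hD' := by
  have hqc0 : QuasiCompact (S.fromSpecStalk (genericPoint S)) :=
    K263.GenFibre.quasiCompact_fromSpecStalk S
  have hqs0 : QuasiSeparated (S.fromSpecStalk (genericPoint S)) := inferInstance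
  obtain ⟨hint, hnor, -, hgen, hbij⟩ := Groth.Agent.S2351.result S
  have hnint : IsIntegralHom (Curv2.normalizationι S) :=
    inferInstanceAs (IsIntegralHom (S.fromSpecStalk (genericPoint S)).fromNormalization)
  have hNc : CompactSpace (Curv2.normalization S) :=
    QuasiCompact.compactSpace_of_compactSpace (Curv2.normalizationι S)
  have hNs : QuasiSeparatedSpace (Curv2.normalization S) :=
    quasiSeparatedSpace_of_quasiSeparated (Curv2.normalizationι S)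
  have hlfp := StableBC.lfp_fC hC hst.1.1
  have hlfp1 := hlfp.1
  have hqcb : QuasiCompact (bC ≫ φ) := hb.1.2.1.2.2.1
  have hqsb : QuasiSeparated (bC ≫ φ) := hb.1.2.1.2.2.2.1
  obtain ⟨a, ha⟩ : ∃ a : pullback (bC ≫ φ) (Curv2.normalizationι S) ⟶ Cst,
      a ≫ fC = pullback.fst (bC ≫ φ) (Curv2.normalizationι S) ≫ bC := by
    obtain ⟨bDT, b1, b2, b3, b4⟩ := exists_bcD (φ := φ) hb.1.1 (Curv2.normalizationι S)
    obtain ⟨fDT, f1, f2, f3, f4⟩ := exists_bcD (φ := φ) hst.1.1.1 (Curv2.normalizationι S)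
    have sq := IsPullback.of_hasPullback φ (Curv2.normalizationι S)
    have sqi := SSRestrict.isPullback_baseChangeOver i φ (Curv2.normalizationι S)
    obtain ⟨s1, s2, s3⟩ := StableBC.isStableModification_baseChange hC hst hη hηD hgen sq sqi
      (SSRestrict.isPullback_baseChangeOver fC φ _) f3 (CInt.baseChangeOver ist (fC ≫ φ) _)
      (SSRestrict.baseChangeOver_fst ist (fC ≫ φ) _) f4
    obtain ⟨t1, t2, t3, -⟩ := StableBC.isSemistableModification_baseChange hC hb hηb hηbD hgen sq sqi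
      (SSRestrict.isPullback_baseChangeOver bC φ _) b3 (CInt.baseChangeOver ib (bC ≫ φ) _)
      (SSRestrict.baseChangeOver_fst ib (bC ≫ φ) _) b4
    obtain ⟨hN, -, ⟨-, h2, -⟩, -⟩ := H hnor _ _ (SSBaseChange.isMPCurve_of_isPullback hC sq sqi)
      _ _ _ s1 s2 s3 _ _ _ t1 t2 t3
    refine ⟨hN ≫ pullback.fst _ _, ?_⟩
    rw [Category.assoc]
    have h3 := congrArg (· ≫ pullback.fst φ (Curv2.normalizationι S)) h2
    have h4 := SSRestrict.baseChangeOver_fst fC φ (Curv2.normalizationι S)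
    have h5 := SSRestrict.baseChangeOver_fst bC φ (Curv2.normalizationι S)
    refine (congrArg (hN ≫ ·) h4).symm.trans ?_
    exact ((Category.assoc _ _ _).symm.trans h3).trans h5
  obtain ⟨S', hS', g, V, hfin, hg, hV, hVi, a', ha'⟩ := SSDescend.exists_lift_descent
    (Curv2.normalizationι S) hgen hbij (bC ≫ φ) bC fC a ha
  have hηV : genericPoint S ∈ V := ((genericPoint_spec S).mem_open_set_iff V.isOpen).2 (by
    simpa using hV)
  refine ⟨S', g, ⟨inferInstance, V,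
    EtaNbhd.isSchematicallyDense_of_generic (𝟙 S) V (fun x hx => by
      have hx' : x = genericPoint S := hx
      rw [hx']; exact hηV),
    EtaNbhd.isSchematicallyDense_of_generic (𝟙 S') _ (fun x hx => by
      have hx' : x = genericPoint S' := hx
      rw [hx']; exact (show g (genericPoint S') ∈ V by rw [hg]; exact hηV)), hVi⟩, hfin, ?_⟩
  have hcl : IsClosedImmersion ist := hst.1.1.2.1.2.2.2.2.2.1
  have hcli : IsClosedImmersion i := hC.2.2.2.2.2.1
  have hpr : IsProper fC := hst.1.1.2.2.1.1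
  have hflb : Flat (bC ≫ φ) := hb.1.2.1.1
  have hflDb : Flat (ib ≫ bC ≫ φ) := hb.1.2.1.2.2.2.2.2.2.1
  -- the `C`-component
  let hC' : pullback (bC ≫ φ) g ⟶ pullback (fC ≫ φ) g :=
    pullback.lift a' (pullback.snd (bC ≫ φ) g) (by
      rw [← Category.assoc, ha', Category.assoc, pullback.condition])
  have c1 : hC' ≫ pullback.fst (fC ≫ φ) g = a' := pullback.lift_fst _ _ _
  have c2 : hC' ≫ pullback.snd (fC ≫ φ) g = pullback.snd (bC ≫ φ) g := pullback.lift_snd _ _ _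
  have k1 := SSRestrict.baseChangeOver_fst ib (bC ≫ φ) g
  have k2 := SSRestrict.baseChangeOver_snd ib (bC ≫ φ) g
  have k3 := SSRestrict.baseChangeOver_fst ist (fC ≫ φ) g
  have k4 := SSRestrict.baseChangeOver_snd ist (fC ≫ φ) g
  have k5 := SSRestrict.baseChangeOver_fst fC φ g
  have k6 := SSRestrict.baseChangeOver_snd fC φ g
  have k7 := SSRestrict.baseChangeOver_fst bC φ g
  have k8 := SSRestrict.baseChangeOver_snd bC φ g
  -- the `D`-component
  have e2 : (CInt.baseChangeOver ib (bC ≫ φ) g ≫ a') ≫ fC =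
      (pullback.fst (ib ≫ bC ≫ φ) g ≫ bD) ≫ i := by
    calc (CInt.baseChangeOver ib (bC ≫ φ) g ≫ a') ≫ fC
        = (CInt.baseChangeOver ib (bC ≫ φ) g ≫ pullback.fst (bC ≫ φ) g) ≫ bC := by
          rw [Category.assoc, ha', Category.assoc]
      _ = (pullback.fst (ib ≫ bC ≫ φ) g ≫ ib) ≫ bC := congrArg (· ≫ bC) k1
      _ = _ := by rw [Category.assoc, hb.1.1, Category.assoc]
  obtain ⟨d, hd1, hd2⟩ := SSDescend.exists_lift_closed hst.1.1.1 hη hηD g hg
    (pullback.snd (ib ≫ bC ≫ φ) g) (pullback.fst (ib ≫ bC ≫ φ) g ≫ bD) (by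
      have e := hb.1.1
      calc (pullback.fst (ib ≫ bC ≫ φ) g ≫ bD) ≫ i ≫ φ
          = pullback.fst (ib ≫ bC ≫ φ) g ≫ (bD ≫ i) ≫ φ := by simp only [Category.assoc]
        _ = pullback.fst (ib ≫ bC ≫ φ) g ≫ ib ≫ bC ≫ φ := by rw [← e, Category.assoc]
        _ = _ := pullback.condition) _ e2
  let hD' : pullback (ib ≫ bC ≫ φ) g ⟶ pullback (ist ≫ fC ≫ φ) g :=
    pullback.lift d (pullback.snd (ib ≫ bC ≫ φ) g) (by
      calc d ≫ ist ≫ fC ≫ φ = (d ≫ ist) ≫ fC ≫ φ := (Category.assoc _ _ _).symm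
        _ = (CInt.baseChangeOver ib (bC ≫ φ) g ≫ a') ≫ fC ≫ φ := by rw [hd1]
        _ = ((CInt.baseChangeOver ib (bC ≫ φ) g ≫ a') ≫ fC) ≫ φ := (Category.assoc _ _ _).symm
        _ = ((pullback.fst (ib ≫ bC ≫ φ) g ≫ bD) ≫ i) ≫ φ := by rw [e2]
        _ = pullback.fst (ib ≫ bC ≫ φ) g ≫ (bD ≫ i) ≫ φ := by simp only [Category.assoc]
        _ = pullback.fst (ib ≫ bC ≫ φ) g ≫ ib ≫ bC ≫ φ := by rw [← hb.1.1, Category.assoc]
        _ = _ := pullback.condition)
  have d1 : hD' ≫ pullback.fst (ist ≫ fC ≫ φ) g = d := pullback.lift_fst _ _ _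
  have d2 : hD' ≫ pullback.snd (ist ≫ fC ≫ φ) g = pullback.snd (ib ≫ bC ≫ φ) g :=
    pullback.lift_snd _ _ _
  have r1 : CInt.baseChangeOver ib (bC ≫ φ) g ≫ hC' =
      hD' ≫ CInt.baseChangeOver ist (fC ≫ φ) g := by
    apply pullback.hom_ext
    · calc (CInt.baseChangeOver ib (bC ≫ φ) g ≫ hC') ≫ pullback.fst (fC ≫ φ) g
          = CInt.baseChangeOver ib (bC ≫ φ) g ≫ a' := by rw [Category.assoc, c1]
        _ = d ≫ ist := hd1.symm
        _ = (hD' ≫ pullback.fst (ist ≫ fC ≫ φ) g) ≫ ist := by rw [d1]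
        _ = hD' ≫ pullback.fst (ist ≫ fC ≫ φ) g ≫ ist := Category.assoc _ _ _
        _ = hD' ≫ CInt.baseChangeOver ist (fC ≫ φ) g ≫ pullback.fst (fC ≫ φ) g :=
          congrArg (hD' ≫ ·) k3.symm
        _ = _ := (Category.assoc _ _ _).symm
    · calc (CInt.baseChangeOver ib (bC ≫ φ) g ≫ hC') ≫ pullback.snd (fC ≫ φ) g
          = CInt.baseChangeOver ib (bC ≫ φ) g ≫ pullback.snd (bC ≫ φ) g := by
            rw [Category.assoc, c2]
        _ = pullback.snd (ib ≫ bC ≫ φ) g := k2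
        _ = hD' ≫ pullback.snd (ist ≫ fC ≫ φ) g := d2.symm
        _ = hD' ≫ CInt.baseChangeOver ist (fC ≫ φ) g ≫ pullback.snd (fC ≫ φ) g :=
          congrArg (hD' ≫ ·) k4.symm
        _ = _ := (Category.assoc _ _ _).symm
  have r2 : hC' ≫ CInt.baseChangeOver fC φ g = CInt.baseChangeOver bC φ g := by
    apply pullback.hom_ext
    · calc (hC' ≫ CInt.baseChangeOver fC φ g) ≫ pullback.fst φ g
          = hC' ≫ CInt.baseChangeOver fC φ g ≫ pullback.fst φ g := Category.assoc _ _ _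
        _ = hC' ≫ pullback.fst (fC ≫ φ) g ≫ fC := congrArg (hC' ≫ ·) k5
        _ = a' ≫ fC := by rw [← Category.assoc, c1]
        _ = pullback.fst (bC ≫ φ) g ≫ bC := ha'
        _ = _ := k7.symm
    · calc (hC' ≫ CInt.baseChangeOver fC φ g) ≫ pullback.snd φ g
          = hC' ≫ CInt.baseChangeOver fC φ g ≫ pullback.snd φ g := Category.assoc _ _ _
        _ = hC' ≫ pullback.snd (fC ≫ φ) g := congrArg (hC' ≫ ·) k6
        _ = pullback.snd (bC ≫ φ) g := c2
        _ = _ := k8.symm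
  refine ⟨hC', hD', ⟨r1, r2, ?_, d2⟩, ?_⟩
  · exact ((Category.assoc _ _ _).symm.trans (congrArg (· ≫ fD) d1)).trans hd2
  · intro kC kD hk1 hk2 hk3 hk4
    have hkC : kC = hC' := by
      have q1 : (kC ≫ pullback.fst (fC ≫ φ) g) ≫ fC = pullback.fst (bC ≫ φ) g ≫ bC := by
        calc (kC ≫ pullback.fst (fC ≫ φ) g) ≫ fC
            = kC ≫ CInt.baseChangeOver fC φ g ≫ pullback.fst φ g := by
              rw [Category.assoc]; exact congrArg (kC ≫ ·) k5.symm
          _ = CInt.baseChangeOver bC φ g ≫ pullback.fst φ g := by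
              rw [← Category.assoc]; exact congrArg (· ≫ pullback.fst φ g) hk2
          _ = _ := k7
      have q2 : kC ≫ pullback.snd (fC ≫ φ) g = pullback.snd (bC ≫ φ) g := by
        calc kC ≫ pullback.snd (fC ≫ φ) g
            = kC ≫ CInt.baseChangeOver fC φ g ≫ pullback.snd φ g := congrArg (kC ≫ ·) k6.symm
          _ = CInt.baseChangeOver bC φ g ≫ pullback.snd φ g := by
              rw [← Category.assoc]; exact congrArg (· ≫ pullback.snd φ g) hk2
          _ = _ := k8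
      have hη' : IsIso (pullback.snd fC (pullback.fst φ (S.fromSpecStalk (genericPoint S)))) := hη
      apply pullback.hom_ext
      · exact K263.EtaUniq.hom_ext φ fC inferInstance g hg (pullback.snd (bC ≫ φ) g)
          (pullback.fst (bC ≫ φ) g ≫ bC) (by rw [Category.assoc, pullback.condition]) _ _ q1
          (by rw [c1]; exact ha')
      · exact q2.trans c2.symm
    refine ⟨hkC, ?_⟩
    have hm : IsClosedImmersion (CInt.baseChangeOver ist (fC ≫ φ) g) :=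
      MorphismProperty.of_isPullback (SSRestrict.isPullback_baseChangeOver ist (fC ≫ φ) g) hcl
    rw [← cancel_mono (CInt.baseChangeOver ist (fC ≫ φ) g), ← hk1, hkC, r1]

end K971.SSUses
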