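import Groth.Agent.SSMod.K971.SsLocus
import Groth.Agent.SSMod.K971.FacDescend

/-!
# S15274 from S15273
-/

set_option autoImplicit false
universe u
open CategoryTheory CategoryTheory.Limits AlgebraicGeometry TopologicalSpace

namespace K971.SSUses

theorem uniq_of_fac (H : Fac.{u}) : Uniq.{u} := by
  intro S C D Cst Dst Cst' Dst' _ _ _ hS φ i hC ist fC fD hst hη hηD ist' fC' fD' hst' hη' hηD'
  obtain ⟨a, b, ⟨h1, h2, h3⟩, h4⟩ := H hS φ i hC ist' fC' fD' hst' hη' hηD' ist fC fD hst.1 hη hηD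
  obtain ⟨a', b', ⟨h1', h2', h3'⟩, -⟩ :=
    H hS φ i hC ist fC fD hst hη hηD ist' fC' fD' hst'.1 hη' hηD'
  have key : ∀ {X DX : Scheme.{u}} (iX : DX ⟶ X) (f : X ⟶ C) (g : DX ⟶ D)
      (_ : SSMod.IsStableModification φ i iX f g) (_ : SSMod.IsEtaIso φ f)
      (_ : SSMod.IsEtaIso (i ≫ φ) g) (p : X ⟶ X) (q : DX ⟶ DX) (_ : iX ≫ p = q ≫ iX)
      (_ : p ≫ f = f) (_ : q ≫ g = g), p = 𝟙 X ∧ q = 𝟙 DX := by
    intro X DX iX f g hX hf hg p q e1 e2 e3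
    obtain ⟨u, v, -, huv⟩ := H hS φ i hC iX f g hX hf hg iX f g hX.1 hf hg
    obtain ⟨r1, r2⟩ := huv p q e1 e2 e3
    obtain ⟨r3, r4⟩ := huv (𝟙 X) (𝟙 DX) (by simp) (by simp) (by simp)
    exact ⟨r1.trans r3.symm, r2.trans r4.symm⟩
  obtain ⟨k1, k2⟩ := key ist fC fD hst hη hηD (a ≫ a') (b ≫ b')
    (by rw [← Category.assoc, h1, Category.assoc, h1', Category.assoc])
    (by rw [Category.assoc, h2', h2]) (by rw [Category.assoc, h3', h3])
  obtain ⟨k3, k4⟩ := key ist' fC' fD' hst' hη' hηD' (a' ≫ a) (b' ≫ b)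
    (by rw [← Category.assoc, h1', Category.assoc, h1, Category.assoc])
    (by rw [Category.assoc, h2, h2']) (by rw [Category.assoc, h3, h3'])
  exact ⟨a, b, ⟨a', k1, k3⟩, ⟨b', k2, k4⟩, ⟨h1, h2, h3⟩, h4⟩

end K971.SSUses
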