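import Groth.Prelude.Def_SSMod
import Groth.Agent.S3843
import Groth.Agent.AlgSp.K598.DensSch

/-!
# Modifications and morphisms which are isomorphisms on generic fibres

Base change of `SSMod.IsModification` along flat morphisms locally of finite presentation, and the calculus of
`SSMod.IsEtaIso`.
-/

set_option autoImplicit false
universe u
open CategoryTheory CategoryTheory.Limits AlgebraicGeometry TopologicalSpace

namespace K971.SSBasic

section Restrict

variable {X' X Y' Y : Scheme.{u}}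

/-- If `f` is an isomorphism over the open `U`, so is a base change of `f` over the preimage of `U`. -/
theorem isIso_restrict_of_isPullback {g' : Y' ⟶ X'} {f' : Y' ⟶ Y} {f : X' ⟶ X} {g : Y ⟶ X}
    (sq : IsPullback g' f' f g) (U : X.Opens) [IsIso (f ∣_ U)] : IsIso (f' ∣_ (g ⁻¹ᵁ U)) := by
  have h1 := isPullback_morphismRestrict f' (g ⁻¹ᵁ U)
  have h2 := isPullback_morphismRestrict f U
  have h3 : IsPullback ((f' ⁻¹ᵁ g ⁻¹ᵁ U).ι ≫ g') (f' ∣_ (g ⁻¹ᵁ U)) f ((g ⁻¹ᵁ U).ι ≫ g) :=
    h1.flip.paste_horiz sq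
  have h4 : (g ⁻¹ᵁ U).ι ≫ g = (g ∣_ U) ≫ U.ι := (morphismRestrict_ι g U).symm
  rw [h4] at h3
  have h5 := IsPullback.of_right' h3 h2.flip
  exact (MorphismProperty.isomorphisms Scheme.{u}).of_isPullback h5
    (inferInstanceAs (IsIso (f ∣_ U)))

theorem isModification_of_isPullback {g' : Y' ⟶ X'} {f' : Y' ⟶ Y} {f : X' ⟶ X} {g : Y ⟶ X}
    (sq : IsPullback g' f' f g) [Flat g] [LocallyOfFinitePresentation g]
    (h : SSMod.IsModification f) : SSMod.IsModification f' := by
  obtain ⟨hp, U, hU, hU', hi⟩ := h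
  have : Flat g' := MorphismProperty.of_isPullback sq.flip ‹Flat g›
  have : LocallyOfFinitePresentation g' :=
    MorphismProperty.of_isPullback sq.flip ‹LocallyOfFinitePresentation g›
  refine ⟨MorphismProperty.of_isPullback sq hp, g ⁻¹ᵁ U, Groth.Agent.S3843.result g U hU, ?_,
    isIso_restrict_of_isPullback sq U⟩
  have h1 := Groth.Agent.S3843.result g' _ hU'
  have h2 : g' ⁻¹ᵁ f ⁻¹ᵁ U = f' ⁻¹ᵁ g ⁻¹ᵁ U := by
    rw [← Scheme.Hom.comp_preimage, ← Scheme.Hom.comp_preimage, sq.w]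
  rw [h2] at h1
  exact h1

theorem isModification_id (X : Scheme.{u}) : SSMod.IsModification (𝟙 X) :=
  ⟨inferInstance, ⊤, K598.DensSch.isSchematicallyDense_top,
    K598.DensSch.isSchematicallyDense_top, inferInstance⟩

end Restrict

section EtaIso

variable {S C C' : Scheme.{u}} [IsIntegral S]

theorem isIso_of_isEtaIso {φ : C ⟶ S} {f : C' ⟶ C} (h : SSMod.IsEtaIso φ f)
    {T P : Scheme.{u}} {p : P ⟶ C'} {q : P ⟶ T} {t : T ⟶ C} (sq : IsPullback p q f t)
    (a : T ⟶ Spec (S.presheaf.stalk (genericPoint S)))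
    (ha : t ≫ φ = a ≫ S.fromSpecStalk (genericPoint S)) : IsIso q := by
  let l : T ⟶ pullback φ (S.fromSpecStalk (genericPoint S)) := pullback.lift t a ha
  have hl : l ≫ pullback.fst φ (S.fromSpecStalk (genericPoint S)) = t := pullback.lift_fst _ _ _
  rw [← hl] at sq
  have h1 := IsPullback.of_right' sq (IsPullback.of_hasPullback f
    (pullback.fst φ (S.fromSpecStalk (genericPoint S))))
  exact (MorphismProperty.isomorphisms Scheme.{u}).of_isPullback h1 h

theorem isEtaIso_of_forall {φ : C ⟶ S} {f : C' ⟶ C}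
    (h : ∀ {T P : Scheme.{u}} (p : P ⟶ C') (q : P ⟶ T) (t : T ⟶ C) (_ : IsPullback p q f t)
      (a : T ⟶ Spec (S.presheaf.stalk (genericPoint S)))
      (_ : t ≫ φ = a ≫ S.fromSpecStalk (genericPoint S)), IsIso q) : SSMod.IsEtaIso φ f :=
  h _ _ _ (IsPullback.of_hasPullback f (pullback.fst φ (S.fromSpecStalk (genericPoint S))))
    (pullback.snd φ _) pullback.condition

/-- Being an isomorphism on generic fibres, for a base change along `g : Y ⟶ C`. -/
theorem isEtaIso_of_isPullback {Y Y' : Scheme.{u}} {φ : C ⟶ S} {f : C' ⟶ C}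
    (h : SSMod.IsEtaIso φ f) {g' : Y' ⟶ C'} {f' : Y' ⟶ Y} {g : Y ⟶ C}
    (sq : IsPullback g' f' f g) : SSMod.IsEtaIso (g ≫ φ) f' := by
  apply isEtaIso_of_forall
  intro T P p q t sq' a ha
  exact isIso_of_isEtaIso h (sq'.paste_horiz sq) a (by rw [Category.assoc, ha])

theorem isEtaIso_id (φ : C ⟶ S) : SSMod.IsEtaIso φ (𝟙 C) := by
  apply isEtaIso_of_forall
  intro T P p q t sq a ha
  exact (MorphismProperty.isomorphisms Scheme.{u}).of_isPullback sq
    (inferInstanceAs (IsIso (𝟙 C)))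

theorem isEtaIso_comp {C'' : Scheme.{u}} {φ : C ⟶ S} {f : C' ⟶ C} {f' : C'' ⟶ C'}
    (h : SSMod.IsEtaIso φ f) (h' : SSMod.IsEtaIso (f ≫ φ) f') : SSMod.IsEtaIso φ (f' ≫ f) := by
  apply isEtaIso_of_forall
  intro T P p q t sq a ha
  have sq2 := IsPullback.of_hasPullback f t
  have h2 : IsIso (pullback.snd f t) := isIso_of_isEtaIso h sq2 a ha
  let l : P ⟶ pullback f t := pullback.lift (p ≫ f') q (by rw [Category.assoc]; exact sq.w)
  have hl : l ≫ pullback.snd f t = q := pullback.lift_snd _ _ _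
  have hl1 : l ≫ pullback.fst f t = p ≫ f' := pullback.lift_fst _ _ _
  have sq3 : IsPullback p l f' (pullback.fst f t) :=
    IsPullback.of_bot (by rw [hl]; exact sq) hl1.symm sq2
  have h3 : IsIso l := by
    refine isIso_of_isEtaIso h' sq3 (pullback.snd f t ≫ a) ?_
    rw [← Category.assoc, pullback.condition, Category.assoc, ha, Category.assoc]
  rw [← hl]
  infer_instance

end EtaIso

end K971.SSBasic
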