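import Groth.Agent.SSMod.K971.EtaNbhd
import Groth.Agent.AlgSp.K616.FibField
import Groth.Agent.AlgSp.K616.DimInv
import Groth.Agent.AlgSp.K624.QFCodim1
import Groth.Agent.S2516
import Groth.Agent.S2260
import Groth.Agent.CurvesC.SpreadIso
import Groth.Agent.S1535
import Groth.Agent.S0558
import Groth.Agent.S14895
import Groth.Agent.ValPrufer.K832.FiniteSpec

/-!
# Modifications of smooth curves over a field are isomorphisms

and modifications of multipointed curves with smooth generic fibre over a valuation ring with finite spectrum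
are isomorphisms on generic fibres.
-/

set_option autoImplicit false
universe u
open CategoryTheory CategoryTheory.Limits AlgebraicGeometry TopologicalSpace

namespace K971.SmoothEta

theorem ringKrullDim_stalk_le {K : Type u} [Field K] {X : Scheme.{u}}
    (q : X ⟶ Spec (CommRingCat.of K)) [LocallyOfFiniteType q] {d : ℕ} (h : Cyc.HasRelDim q d)
    (x : X) : ringKrullDim (X.presheaf.stalk x) ≤ d := by
  have h1 := K616.DimInv.fibreDimAt_eq_add q x
  rw [(K582.FibRelDim.hasRelDim_iff q d).1 h x] at h1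
  have h2 := K616.FibField.isIso_fiberι q (q x)
  have h3 : ringKrullDim (X.presheaf.stalk x) =
      ringKrullDim ↥((q.fiber (q x)).presheaf.stalk (q.asFiber x)) := by
    have h4 : ∀ y : X, y = x → ringKrullDim (X.presheaf.stalk y) =
        ringKrullDim (X.presheaf.stalk x) := by rintro _ rfl; rfl
    rw [← h4 _ (q.fiberι_asFiber x)]
    exact ringKrullDim_eq_of_ringEquiv
      (asIso ((q.fiberι (q x)).stalkMap (q.asFiber x))).commRingCatIsoToRingEquiv
  rw [h3, h1]
  exact le_add_of_nonneg_right (by exact_mod_cast zero_le)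

theorem isIso_of_nbhd {X Y : Scheme.{u}} (f : X ⟶ Y)
    (h : ∀ y : Y, ∃ V : Y.Opens, y ∈ V ∧ IsIso (f ∣_ V)) : IsIso f := by
  choose V hV hi using h
  refine IsZariskiLocalAtTarget.of_iSup_eq_top (P := MorphismProperty.isomorphisms Scheme.{u})
    V ?_ hi
  rw [eq_top_iff]
  intro y _
  exact Opens.mem_iSup.2 ⟨y, hV y⟩

theorem isIso_of_isModification {X X' : Scheme.{u}} [IsLocallyNoetherian X] (f : X' ⟶ X)
    (hf : SSMod.IsModification f)
    (hX : ∀ x : X, IsDomain (X.presheaf.stalk x) ∧ IsIntegrallyClosed (X.presheaf.stalk x))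
    (hv : ∀ x : X, PreValuationRing (X.presheaf.stalk x)) :
    IsIso f := by
  apply isIso_of_nbhd
  intro x
  have hdx := (hX x).1
  obtain ⟨V, hxV, hVi⟩ := Groth.Agent.S2260.result X x
  have sq := (isPullback_morphismRestrict f V).flip
  obtain ⟨hp, U, hU, hU', hi⟩ := SSBasic.isModification_of_isPullback sq hf
  have hln : IsLocallyNoetherian V.toScheme := inferInstance
  have hln' : IsLocallyNoetherian (f ⁻¹ᵁ V).toScheme :=
    LocallyOfFiniteType.isLocallyNoetherian (f ∣_ V)
  have hd1 := Groth.Agent.Ega4dB.SchDense.isSchemeTheoreticallyDominant_ι U hU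
  have hd2 := Groth.Agent.Ega4dB.SchDense.isSchemeTheoreticallyDominant_ι _ hU'
  have hgenU : genericPoint V.toScheme ∈ U := by
    have hne : (U : Set V.toScheme).Nonempty := by
      obtain ⟨_, y, rfl⟩ := (show Dense (Set.range U.ι) from Scheme.Hom.denseRange U.ι).nonempty
      exact ⟨U.ι y, y.2⟩
    exact ((genericPoint_spec V.toScheme).mem_open_set_iff U.isOpen).mpr (by simpa using hne)
  have hUi : IsIntegral ((f ∣_ V) ⁻¹ᵁ U).toScheme := by
    have : Nonempty U.toScheme := ⟨⟨_, hgenU⟩⟩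
    have h1 : IsIntegral U.toScheme := inferInstance
    obtain ⟨z, -⟩ := ((f ∣_ V) ∣_ U).surjective ⟨_, hgenU⟩
    have : Nonempty ((f ∣_ V) ⁻¹ᵁ U).toScheme := ⟨z⟩
    exact isIntegral_of_isOpenImmersion ((f ∣_ V) ∣_ U)
  have hInt' : IsIntegral (f ⁻¹ᵁ V).toScheme :=
    Groth.Agent.S14895.isIntegral_of_dominant ((f ∣_ V) ⁻¹ᵁ U).ι
  have hbir := Groth.Agent.S14895.isBir_of_isIso_restrict (f ∣_ V) U hgenU hi
  have hst : ∀ w : V.toScheme, Nonempty (X.presheaf.stalk (V.ι w) ≅ V.toScheme.presheaf.stalk w) :=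
    fun w => ⟨asIso (V.ι.stalkMap w)⟩
  obtain ⟨V₁, hxV₁, hV₁⟩ := Groth.Agent.CurvesC.SpreadIso.exists_isIso hbir (fun w => by
    obtain ⟨e⟩ := hst w
    have := (hX (V.ι w)).2
    have := (hX (V.ι w)).1
    exact IsIntegrallyClosed.of_equiv e.commRingCatIsoToRingEquiv) ⟨x, hxV⟩ (by
    obtain ⟨e⟩ := hst ⟨x, hxV⟩
    have h := hv (V.ι ⟨x, hxV⟩)
    have h2 := Function.Surjective.preValuationRing
      (MulEquiv.toMulHom e.commRingCatIsoToRingEquiv.toMulEquiv)
      e.commRingCatIsoToRingEquiv.surjective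
    exact {})
  refine ⟨V.ι ''ᵁ V₁, ⟨⟨x, hxV⟩, hxV₁, rfl⟩, ?_⟩
  exact ((MorphismProperty.isomorphisms Scheme.{u}).arrow_mk_iso_iff
    (morphismRestrictRestrict f V V₁)).1 hV₁

theorem isIso_of_smoothCurve {K : Type u} [Field K] {X X' : Scheme.{u}}
    (q : X ⟶ Spec (CommRingCat.of K)) [Smooth q] (h : Cyc.HasRelDim q 1) (f : X' ⟶ X)
    (hf : SSMod.IsModification f) : IsIso f := by
  have hln : IsLocallyNoetherian X := LocallyOfFiniteType.isLocallyNoetherian q
  have hreg : ∀ x : X, IsRegularLocalRing (X.presheaf.stalk x) := fun x => by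
    let : X.Over (Spec (CommRingCat.of K)) := ⟨q⟩
    have : Smooth (X ↘ Spec (CommRingCat.of K)) := ‹Smooth q›
    exact Groth.Agent.S1535.result K X x
  have hd : ∀ x : X, IsDomain (X.presheaf.stalk x) := fun x => by
    have := hreg x
    exact Groth.Agent.S0558.result _
  have hv : ∀ x : X, ∃ _ : IsDomain (X.presheaf.stalk x), ValuationRing (X.presheaf.stalk x) :=
    fun x => by
    have h1 := hreg x
    have h2 := hd x
    have h3 := ringKrullDim_stalk_le q h x
    exact ⟨h2, Groth.Agent.S2516.valuationRing_of_regular _ (by exact_mod_cast h3)⟩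
  refine isIso_of_isModification f hf (fun x => ⟨hd x, ?_⟩) (fun x => by
    obtain ⟨h1, h2⟩ := hv x
    infer_instance)
  obtain ⟨h1, h2⟩ := hv x
  infer_instance

section

variable {S C C' : Scheme.{u}} [IsIntegral S]

theorem isEtaIso_of_open {φ : C ⟶ S} {f : C' ⟶ C} (W : C.Opens)
    (hW : ∀ x : C, φ x = genericPoint S → x ∈ W) [IsIso (f ∣_ W)] : SSMod.IsEtaIso φ f := by
  apply SSBasic.isEtaIso_of_forall
  intro T P p q t sq a ha
  have hr : Set.range t ⊆ Set.range W.ι := by
    rintro _ ⟨z, rfl⟩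
    rw [Scheme.Opens.range_ι]
    apply hW
    rw [← Scheme.Hom.comp_apply, ha, Scheme.Hom.comp_apply]
    exact K263.GenFibre.apply_fromSpecStalk S _
  have hl : IsOpenImmersion.lift W.ι t hr ≫ W.ι = t := IsOpenImmersion.lift_fac _ _ _
  rw [← hl] at sq
  exact (MorphismProperty.isomorphisms Scheme.{u}).of_isPullback
    (IsPullback.of_right' sq (isPullback_morphismRestrict f W).flip)
    (inferInstanceAs (IsIso (f ∣_ W)))

/-- A modification of a scheme over an integral `S` with discrete generic fibre is an isomorphism on generic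
fibres. -/
theorem isEtaIso_of_hasRelDim_zero {φ : C ⟶ S} [Flat φ] [LocallyOfFiniteType φ]
    (h0 : Cyc.HasRelDim φ 0) {f : C' ⟶ C} (hf : SSMod.IsModification f) :
    SSMod.IsEtaIso φ f := by
  obtain ⟨hp, U, hU, hU', hi⟩ := hf
  refine isEtaIso_of_open U fun x hx => ?_
  have h1 : φ.QuasiFiniteAt x := by
    rw [K624.QFCodim1.quasiFiniteAt_iff_fibreDimAt]
    exact_mod_cast (K582.FibRelDim.hasRelDim_iff φ 0).1 h0 x
  rw [Scheme.Hom.quasiFiniteAt_iff_isOpen_singleton_asFiber] at h1
  obtain ⟨W, hW, hW'⟩ := (φ.fiberι (φ x)).isEmbedding.isInducing.isOpen_iff.1 h1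
  have hxW : x ∈ W := by
    have h2 : φ.asFiber x ∈ (φ.fiberι (φ x)).base ⁻¹' W := by
      rw [hW']; exact rfl
    have h3 : φ.fiberι (φ x) (φ.asFiber x) ∈ W := h2
    rwa [φ.fiberι_asFiber x] at h3
  have huniq : ∀ y ∈ W, φ y = φ x → y = x := by
    intro y hy hyx
    have h4 : y ∈ Set.range (φ.fiberι (φ x)) := by
      rw [Scheme.Hom.range_fiberι]; exact hyx
    obtain ⟨z, rfl⟩ := h4
    have h5 : z ∈ (φ.fiberι (φ x)).base ⁻¹' W := hy
    rw [hW'] at h5
    have h6 : z = φ.asFiber x := h5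
    rw [h6, φ.fiberι_asFiber x]
  -- `W` meets `U`
  obtain ⟨y, hyW, hyU⟩ : ∃ y, y ∈ W ∧ y ∈ U := by
    by_contra hne
    push Not at hne
    have h7 : (⟨W, hW⟩ : C.Opens) ⊓ U = ⊥ := by
      ext z
      exact ⟨fun h => (hne z h.1 h.2).elim, fun h => h.elim⟩
    have h8 := hU ⟨W, hW⟩
    have h9 : Subsingleton Γ(C, (⟨W, hW⟩ : C.Opens) ⊓ U) := by
      rw [h7]; infer_instance
    have h10 : Subsingleton Γ(C, (⟨W, hW⟩ : C.Opens)) := h8.subsingleton
    have h11 : (1 : Γ(C, (⟨W, hW⟩ : C.Opens))) = 0 := Subsingleton.elim _ _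
    have h12 := congrArg (C.presheaf.germ ⟨W, hW⟩ x hxW).hom h11
    rw [map_one, map_zero] at h12
    exact one_ne_zero h12
  obtain ⟨y', hy', hφ⟩ := Flat.generalizingMap φ (show genericPoint S ⤳ φ y from genericPoint_specializes _)
  have h12 : y' ∈ W := hy'.mem_open hW hyW
  have h13 : y' ∈ U := hy'.mem_open U.isOpen hyU
  have h14 : y' = x := huniq y' h12 (hφ.trans hx.symm)
  exact h14 ▸ h13

end

/-- `Spec K ⟶ Spec R` is an open immersion for a domain `R` with finite spectrum. -/
theorem isOpenImmersion_fractionRing (R : Type u) [CommRing R] [IsDomain R]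
    [Finite (PrimeSpectrum R)] :
    IsOpenImmersion (Spec.map (CommRingCat.ofHom (algebraMap R (FractionRing R)))) := by
  obtain ⟨b, hb, h⟩ := K832.FiniteSpec.exists_isLocalization_atPrime_away (⊥ : Ideal R)
  have h1 : IsFractionRing R (Localization.Away b) := by
    have : (⊥ : Ideal R).primeCompl = nonZeroDivisors R := by
      ext r
      rw [mem_nonZeroDivisors_iff_ne_zero]
      exact Iff.rfl
    rw [IsFractionRing, ← this]
    exact h
  have h2 : IsLocalization.Away b (FractionRing R) :=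
    IsLocalization.isLocalization_of_algEquiv _
      (IsLocalization.algEquiv (nonZeroDivisors R) (Localization.Away b) (FractionRing R))
  exact IsOpenImmersion.of_isLocalization b

theorem isEtaIso_of_smooth (R : Type u) [CommRing R] [IsDomain R] [Finite (PrimeSpectrum R)]
    {C C' : Scheme.{u}} (φ : C ⟶ Spec (CommRingCat.of R)) [LocallyOfFiniteType φ]
    (hr : Cyc.HasRelDim φ 1)
    (hK : Smooth (pullback.snd φ (Spec.map (CommRingCat.ofHom (algebraMap R (FractionRing R))))))
    (f : C' ⟶ C) (hf : SSMod.IsModification f) : SSMod.IsEtaIso φ f := by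
  have ho := isOpenImmersion_fractionRing R
  let s : Spec (CommRingCat.of (FractionRing R)) ⟶ Spec (CommRingCat.of R) :=
    Spec.map (CommRingCat.ofHom (algebraMap R (FractionRing R)))
  let j : pullback φ s ⟶ C := pullback.fst φ s
  have hj : IsOpenImmersion j := inferInstance
  have hrK : Cyc.HasRelDim (pullback.snd φ s) 1 :=
    K308.Grp.hasRelDim_of_isPullback (IsPullback.of_hasPullback φ s).flip hr
  have h1 : IsIso (pullback.snd f j) :=
    isIso_of_smoothCurve (pullback.snd φ s) hrK (pullback.snd f j)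
      (SSBasic.isModification_of_isPullback (IsPullback.of_hasPullback f j) hf)
  have h2 : IsIso (f ∣_ j.opensRange) := by
    have sq := (isPullback_morphismRestrict f j.opensRange).flip
    have e : j.opensRange.ι = j.isoOpensRange.inv ≫ j := by
      rw [Iso.eq_inv_comp, Scheme.Hom.isoOpensRange_hom_ι]
    rw [e] at sq
    exact (MorphismProperty.isomorphisms Scheme.{u}).of_isPullback
      (IsPullback.of_right' sq (IsPullback.of_hasPullback f j)) h1
  refine isEtaIso_of_open j.opensRange fun x hx => ?_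
  have h3 : Set.range j = φ ⁻¹' Set.range s := Scheme.Pullback.range_fst φ s
  change x ∈ Set.range j
  rw [h3]
  change φ x ∈ Set.range s
  rw [hx]
  exact ⟨genericPoint (Spec (CommRingCat.of (FractionRing R))), genericPoint_eq_of_isOpenImmersion s⟩

end K971.SmoothEta
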