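import Groth.Agent.SSMod.K971.Restrict

/-!
# Restriction of multipointed curves and (semi)stable modifications to opens of the target
-/

set_option autoImplicit false
universe u
open CategoryTheory CategoryTheory.Limits AlgebraicGeometry TopologicalSpace

namespace K971.SSRestrict

theorem hasRelDim_comp_isOpenImmersion {X S V : Scheme.{u}} {f : X ⟶ S} [LocallyOfFiniteType f]
    {n : ℕ} (h : Cyc.HasRelDim f n) (j : V ⟶ X) [IsOpenImmersion j] :
    Cyc.HasRelDim (j ≫ f) n := by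
  rw [K582.FibRelDim.hasRelDim_iff] at h ⊢
  intro x
  rw [K582.FibRelDim.fibreDimAt_comp_isOpenImmersion]
  exact h _

variable {S C C' D D' V V' DV DV' : Scheme.{u}}

theorem isMPCurve_restrict {φ : C ⟶ S} {i : D ⟶ C} (h : SSMod.IsMPCurve φ i) {j : V ⟶ C}
    [IsOpenImmersion j] {jD : DV ⟶ D} {iV : DV ⟶ V} (sq : IsPullback jD iV i j)
    (hc : QuasiCompact (j ≫ φ)) (hs : QuasiSeparated (j ≫ φ)) : SSMod.IsMPCurve (j ≫ φ) iV := by
  obtain ⟨h1, h2, h3, h4, h5, h6, h7, h8, h9⟩ := h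
  have hj : IsOpenImmersion jD := MorphismProperty.of_isPullback sq.flip ‹IsOpenImmersion j›
  have e : iV ≫ j ≫ φ = jD ≫ i ≫ φ := by rw [← Category.assoc, ← sq.w, Category.assoc]
  refine ⟨inferInstance, inferInstance, hc, hs, hasRelDim_comp_isOpenImmersion h5 j,
    MorphismProperty.of_isPullback sq h6, ?_, ?_, ?_⟩
  · rw [e]; infer_instance
  · rw [e]; infer_instance
  · rw [e]; exact hasRelDim_comp_isOpenImmersion h9 jD

theorem isSemistable_restrict {φ : C ⟶ S} {i : D ⟶ C} (h : SSMod.IsSemistable φ i) {j : V ⟶ C}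
    [IsOpenImmersion j] {jD : DV ⟶ D} {iV : DV ⟶ V} (sq : IsPullback jD iV i j)
    (hc : QuasiCompact (j ≫ φ)) (hs : QuasiSeparated (j ≫ φ)) : SSMod.IsSemistable (j ≫ φ) iV := by
  obtain ⟨h1, h2, h3, h4⟩ := h
  have hj : IsOpenImmersion jD := MorphismProperty.of_isPullback sq.flip ‹IsOpenImmersion j›
  have e : iV ≫ j ≫ φ = jD ≫ i ≫ φ := by rw [← Category.assoc, ← sq.w, Category.assoc]
  refine ⟨isMPCurve_restrict h1 sq hc hs, Groth.Agent.CurvesB.NodalEtale.isNodalFamily_precomp_etale _ _ h2,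
    ?_, ?_⟩
  · rw [e]; infer_instance
  · rw [Set.disjoint_left]
    rintro _ ⟨d, rfl⟩ hd
    refine Set.disjoint_left.1 h4 ⟨jD d, rfl⟩ ?_
    have h5 : i (jD d) = j (iV d) := by
      rw [← Scheme.Hom.comp_apply, ← Scheme.Hom.comp_apply, sq.w]
    change i (jD d) ∈ _
    rw [h5]
    exact (not_congr (Groth.Agent.UnramA.NearPoint.stalkMap_comp_of_isOpenImmersion_formallySmooth
      j φ (iV d))).1 hd

theorem exists_restrict_isStableModification {φ : C ⟶ S} {i : D ⟶ C} (hC : SSMod.IsMPCurve φ i)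
    {i' : D' ⟶ C'} {fC : C' ⟶ C} {fD : D' ⟶ D} (h : SSMod.IsStableModification φ i i' fC fD)
    {j : V ⟶ C} [IsOpenImmersion j] (hc : QuasiCompact (j ≫ φ)) (hs : QuasiSeparated (j ≫ φ))
    {jD : DV ⟶ D} {iV : DV ⟶ V} (sq : IsPullback jD iV i j)
    {j' : V' ⟶ C'} {fV : V' ⟶ V} (sqC : IsPullback j' fV fC j)
    {jD' : DV' ⟶ D'} {fDV : DV' ⟶ DV} (sqD : IsPullback jD' fDV fD jD) :
    ∃ iV' : DV' ⟶ V', SSMod.IsStableModification (j ≫ φ) iV iV' fV fDV := by
  obtain ⟨⟨⟨hw, hMP, hm1, hm2⟩, hss⟩, hexc⟩ := h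
  have hft : LocallyOfFinitePresentation φ := hC.2.1
  have hj' : IsOpenImmersion j' := MorphismProperty.of_isPullback sqC.flip ‹IsOpenImmersion j›
  have hjD : IsOpenImmersion jD := MorphismProperty.of_isPullback sq.flip ‹IsOpenImmersion j›
  have e1 : (jD' ≫ i') ≫ fC = (fDV ≫ iV) ≫ j := by
    rw [Category.assoc, hw, ← Category.assoc, sqD.w, Category.assoc, sq.w, Category.assoc]
  let iV' : DV' ⟶ V' := sqC.lift (jD' ≫ i') (fDV ≫ iV) e1
  have h1 : iV' ≫ j' = jD' ≫ i' := sqC.lift_fst _ _ _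
  have h2 : iV' ≫ fV = fDV ≫ iV := sqC.lift_snd _ _ _
  have hbig : IsPullback jD' (iV' ≫ fV) (i' ≫ fC) j := by
    rw [h2, hw]
    exact sqD.paste_vert sq
  have sqD' : IsPullback jD' iV' i' j' := IsPullback.of_bot hbig h1.symm sqC
  have hp : IsProper fC := hm1.1
  have hpV : IsProper fV := MorphismProperty.of_isPullback sqC hp
  have e2 : fV ≫ j ≫ φ = j' ≫ fC ≫ φ := by rw [← Category.assoc, ← sqC.w, Category.assoc]
  have hc' : QuasiCompact (j' ≫ fC ≫ φ) := by rw [← e2]; infer_instance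
  have hs' : QuasiSeparated (j' ≫ fC ≫ φ) := by rw [← e2]; infer_instance
  refine ⟨iV', ⟨⟨h2, ?_, isModification_of sqC hm1, isModification_of sqD hm2⟩, ?_⟩, ?_⟩
  · rw [e2]
    exact isMPCurve_restrict hMP sqD' hc' hs'
  · rw [e2]
    exact isSemistable_restrict hss sqD' hc' hs'
  · refine noExcComp_of_isPullback hexc sqC ?_
    exact range_of_isPullback sqD'.flip
where
  isModification_of {A B A' B' : Scheme.{u}} {a : A' ⟶ A} {b : A' ⟶ B'} {c : A ⟶ B} {d : B' ⟶ B}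
      [IsOpenImmersion d] (sq : IsPullback a b c d) (h : SSMod.IsModification c) :
      SSMod.IsModification b := K971.SSBasic.isModification_of_isPullback sq h

end K971.SSRestrict
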