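import Groth.Agent.SSMod.K971.RestrictCurve
import Groth.Agent.ModPair.K971.Decomp
import Groth.Agent.S10829

/-!
# Consequences of the uniqueness of stable modifications

`Uniq` is the statement of S15274.  From it: a stable modification (iso on generic fibres, normal base) is an
isomorphism over the semistable locus (S15275), and automorphisms lift (S15278).
-/

set_option autoImplicit false
universe u
open CategoryTheory CategoryTheory.Limits AlgebraicGeometry TopologicalSpace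

namespace K971.SSUses

/-- The statement of S15274. -/
def Uniq : Prop := ∀ {S C D Cst Dst Cst' Dst' : Scheme.{u}} [IsIntegral S] [CompactSpace S]
    [QuasiSeparatedSpace S] (_ : Pi1.IsNormalScheme S) (φ : C ⟶ S) (i : D ⟶ C)
    (_ : SSMod.IsMPCurve φ i)
    (ist : Dst ⟶ Cst) (fC : Cst ⟶ C) (fD : Dst ⟶ D) (_ : SSMod.IsStableModification φ i ist fC fD)
    (_ : SSMod.IsEtaIso φ fC) (_ : SSMod.IsEtaIso (i ≫ φ) fD)
    (ist' : Dst' ⟶ Cst') (fC' : Cst' ⟶ C) (fD' : Dst' ⟶ D)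
    (_ : SSMod.IsStableModification φ i ist' fC' fD')
    (_ : SSMod.IsEtaIso φ fC') (_ : SSMod.IsEtaIso (i ≫ φ) fD'),
    ∃ (eC : Cst ⟶ Cst') (eD : Dst ⟶ Dst'), IsIso eC ∧ IsIso eD ∧
      (ist ≫ eC = eD ≫ ist' ∧ eC ≫ fC' = fC ∧ eD ≫ fD' = fD) ∧
      ∀ (kC : Cst ⟶ Cst') (kD : Dst ⟶ Dst'), ist ≫ kC = kD ≫ ist' → kC ≫ fC' = fC → kD ≫ fD' = fD →
        kC = eC ∧ kD = eD

theorem not_subsingleton_projLine (Ω : Type u) [Field Ω] :
    ¬ Subsingleton (CohB1.ProjSpace 1 Ω : Scheme.{u}) := by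
  intro h
  have h1 := Groth.Agent.S10829.result Ω 1
  have h2 : Subsingleton (IrreducibleCloseds (CohB1.ProjSpace 1 Ω : Scheme.{u})) := by
    constructor
    intro a b
    apply IrreducibleCloseds.ext
    obtain ⟨x, hx⟩ := a.isIrreducible.1
    obtain ⟨y, hy⟩ := b.isIrreducible.1
    ext z
    rw [Subsingleton.elim z x]
    constructor
    · intro _
      rw [Subsingleton.elim x y]
      exact hy
    · intro _
      exact hx
  have h3 : topologicalKrullDim (CohB1.ProjSpace 1 Ω : Scheme.{u}) ≤ 0 :=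
    Order.krullDim_nonpos_of_subsingleton
  rw [h1] at h3
  exact absurd h3 (by norm_num)

/-- The image of an exceptional component under an injective map is not a point. -/
theorem not_isExcComp_of_injective (Ω : Type u) [Field Ω] {X' X : Scheme.{u}} {f : X' ⟶ X}
    {q : X' ⟶ Spec (CommRingCat.of Ω)} {M Z : Set X'} (hf : Function.Injective f.base) :
    ¬ SSMod.IsExcComp Ω f q M Z := by
  rintro ⟨⟨e, he, -, hr⟩, -, hsub⟩
  apply not_subsingleton_projLine Ω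
  constructor
  intro a b
  apply e.isEmbedding.injective
  apply hf
  exact hsub ⟨e a, hr ▸ ⟨a, rfl⟩, rfl⟩ ⟨e b, hr ▸ ⟨b, rfl⟩, rfl⟩

theorem isStableModification_id {S C D : Scheme.{u}} {φ : C ⟶ S} {i : D ⟶ C}
    (h : SSMod.IsSemistable φ i) : SSMod.IsStableModification φ i i (𝟙 C) (𝟙 D) := by
  refine ⟨⟨⟨by simp, ?_, SSBasic.isModification_id C, SSBasic.isModification_id D⟩, ?_⟩, ?_⟩
  · rw [Category.id_comp]; exact h.1
  · rw [Category.id_comp]; exact h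
  · intro Ω _ _ g Z _
    apply not_isExcComp_of_injective
    have h1 : IsIso (CInt.baseChangeOver (𝟙 C) φ g) :=
      (MorphismProperty.isomorphisms Scheme.{u}).of_isPullback
        (SSRestrict.isPullback_baseChangeOver (𝟙 C) φ g) (inferInstanceAs (IsIso (𝟙 C)))
    exact (CInt.baseChangeOver (𝟙 C) φ g).homeomorph.injective

theorem isIso_ssLocus (H : Uniq.{u})
    {S C D Cst Dst : Scheme.{u}} [IsIntegral S] [CompactSpace S] [QuasiSeparatedSpace S]
    (hS : Pi1.IsNormalScheme S) (φ : C ⟶ S) (i : D ⟶ C) (hC : SSMod.IsMPCurve φ i)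
    (ist : Dst ⟶ Cst) (fC : Cst ⟶ C) (fD : Dst ⟶ D) (hst : SSMod.IsStableModification φ i ist fC fD)
    (hη : SSMod.IsEtaIso φ fC) (hηD : SSMod.IsEtaIso (i ≫ φ) fD) :
    IsIso (fC ∣_ SSMod.ssLocus φ i) ∧ IsIso (fD ∣_ (i ⁻¹ᵁ SSMod.ssLocus φ i)) := by
  have key : ∀ V : {V : C.Opens // SSMod.IsSemistable (V.ι ≫ φ) (i ∣_ V)},
      IsIso (fC ∣_ V.1) ∧ IsIso (fD ∣_ (i ⁻¹ᵁ V.1)) := by
    rintro ⟨V, hV⟩
    have sq := (isPullback_morphismRestrict i V).flip
    have sqC := (isPullback_morphismRestrict fC V).flip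
    have sqD := (isPullback_morphismRestrict fD (i ⁻¹ᵁ V)).flip
    obtain ⟨iV', hV'⟩ := SSRestrict.exists_restrict_isStableModification hC hst
      hV.1.2.2.1 hV.1.2.2.2.1 sq sqC sqD
    have hη1 := SSBasic.isEtaIso_of_isPullback hη sqC
    have hη2 : SSMod.IsEtaIso (i ∣_ V ≫ V.ι ≫ φ) (fD ∣_ (i ⁻¹ᵁ V)) := by
      have h := SSBasic.isEtaIso_of_isPullback hηD sqD
      have e : (i ⁻¹ᵁ V).ι ≫ i ≫ φ = i ∣_ V ≫ V.ι ≫ φ := by
        rw [← Category.assoc, ← sq.w.symm, Category.assoc]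
      rw [e] at h
      exact h
    obtain ⟨eC, eD, hC1, hD1, ⟨-, h2, h3⟩, -⟩ := H hS (V.ι ≫ φ) (i ∣_ V) hV.1 iV' (fC ∣_ V)
      (fD ∣_ (i ⁻¹ᵁ V)) hV' hη1 hη2 (i ∣_ V) (𝟙 _) (𝟙 _) (isStableModification_id hV)
      (SSBasic.isEtaIso_id _) (SSBasic.isEtaIso_id _)
    rw [Category.comp_id] at h2 h3
    exact ⟨h2 ▸ hC1, h3 ▸ hD1⟩
  have e1 : SSMod.ssLocus φ i =
      ⨆ V : {V : C.Opens // SSMod.IsSemistable (V.ι ≫ φ) (i ∣_ V)}, V.1 := sSup_eq_iSup' _
  have e2 : i ⁻¹ᵁ SSMod.ssLocus φ i =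
      ⨆ V : {V : C.Opens // SSMod.IsSemistable (V.ι ≫ φ) (i ∣_ V)}, i ⁻¹ᵁ V.1 := by
    rw [e1, Scheme.Hom.preimage_iSup]
  constructor
  · rw [e1]
    exact K971.Decomp.isIso_restrict_iSup _ fun V => (key V).1
  · rw [e2]
    exact K971.Decomp.isIso_restrict_iSup _ fun V => (key V).2

end K971.SSUses
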