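import Groth.Agent.SSMod.K971.SsLocus
import Groth.Agent.SSMod.K971.BaseChange

/-!
# Automorphisms lift to the stable modification (S15278), from uniqueness (S15274)
-/

set_option autoImplicit false
universe u
open CategoryTheory CategoryTheory.Limits AlgebraicGeometry TopologicalSpace

namespace K971.SSUses

theorem auto_lift (H : Uniq.{u})
    {S C D Cst Dst : Scheme.{u}} [IsIntegral S] [CompactSpace S] [QuasiSeparatedSpace S]
    (hS : Pi1.IsNormalScheme S) (φ : C ⟶ S) (i : D ⟶ C) (hC : SSMod.IsMPCurve φ i)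
    (ist : Dst ⟶ Cst) (fC : Cst ⟶ C) (fD : Dst ⟶ D) (hst : SSMod.IsStableModification φ i ist fC fD)
    (hη : SSMod.IsEtaIso φ fC) (hηD : SSMod.IsEtaIso (i ≫ φ) fD)
    (σ : S ≅ S) (τC : C ≅ C) (τD : D ≅ D) (hτ : τC.hom ≫ φ = φ ≫ σ.hom)
    (hτD : i ≫ τC.hom = τD.hom ≫ i) :
    ∃ (θC : Cst ⟶ Cst) (θD : Dst ⟶ Dst), IsIso θC ∧ IsIso θD ∧
      (ist ≫ θC = θD ≫ ist ∧ θC ≫ fC = fC ≫ τC.hom ∧ θD ≫ fD = fD ≫ τD.hom) ∧
      ∀ (kC : Cst ⟶ Cst) (kD : Dst ⟶ Dst), ist ≫ kC = kD ≫ ist → kC ≫ fC = fC ≫ τC.hom →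
        kD ≫ fD = fD ≫ τD.hom → kC = θC ∧ kD = θD := by
  have w1 : τC.inv ≫ φ = φ ≫ σ.inv := by
    rw [Iso.inv_comp_eq, ← Category.assoc, hτ, Category.assoc, Iso.hom_inv_id, Category.comp_id]
  have w2 : τD.inv ≫ i = i ≫ τC.inv := by
    rw [Iso.inv_comp_eq, ← Category.assoc, ← hτD, Category.assoc, Iso.hom_inv_id,
      Category.comp_id]
  have w3 : 𝟙 Cst ≫ fC = (fC ≫ τC.hom) ≫ τC.inv := by simp
  have w4 : 𝟙 Dst ≫ fD = (fD ≫ τD.hom) ≫ τD.inv := by simp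
  have w5 : 𝟙 Cst ≫ fC ≫ φ = ((fC ≫ τC.hom) ≫ φ) ≫ σ.inv := by
    rw [Category.assoc, Category.assoc, ← w1]; simp
  have sq : IsPullback τC.inv φ φ σ.inv := IsPullback.of_horiz_isIso ⟨w1⟩
  have sqi : IsPullback τD.inv i i τC.inv := IsPullback.of_horiz_isIso ⟨w2⟩
  have sqC : IsPullback (𝟙 Cst) (fC ≫ τC.hom) fC τC.inv := IsPullback.of_horiz_isIso ⟨w3⟩
  have sqD : IsPullback (𝟙 Dst) (fD ≫ τD.hom) fD τD.inv := IsPullback.of_horiz_isIso ⟨w4⟩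
  have sq' : IsPullback (𝟙 Cst) ((fC ≫ τC.hom) ≫ φ) (fC ≫ φ) σ.inv :=
    IsPullback.of_horiz_isIso ⟨w5⟩
  have sqi' : IsPullback (𝟙 Dst) ist ist (𝟙 Cst) := IsPullback.of_horiz_isIso ⟨by simp⟩
  have ht : σ.inv (genericPoint S) = genericPoint S :=
    genericPoint_eq_of_isOpenImmersion σ.inv
  have hft : LocallyOfFinitePresentation φ := hC.2.1
  have hpr : IsProper fC := hst.1.1.2.2.1.1
  refine H hS φ i hC ist (fC ≫ τC.hom) (fD ≫ τD.hom) ⟨⟨⟨?_, ?_, ?_, ?_⟩, ?_⟩, ?_⟩ ?_ ?_ ist fC fD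
    hst hη hηD
  · rw [← Category.assoc, hst.1.1.1, Category.assoc, hτD, Category.assoc]
  · exact SSBaseChange.isMPCurve_of_isPullback hst.1.1.2.1 sq' sqi'
  · exact SSBasic.isModification_of_isPullback sqC hst.1.1.2.2.1
  · exact SSBasic.isModification_of_isPullback sqD hst.1.1.2.2.2
  · exact SSBaseChange.isSemistable_of_isPullback hst.1.2 sq' sqi'
  · exact SSBaseChange.noExcComp_baseChange hst.2 sq sqC (by simp)
  · exact SSBaseChange.isEtaIso_baseChange hη ht w1 sqC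
  · refine SSBaseChange.isEtaIso_baseChange hηD ht (p := τD.inv) ?_ sqD
    rw [← Category.assoc, w2, Category.assoc, w1, Category.assoc]

end K971.SSUses
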