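import Groth.Agent.SSMod.K971.SmoothEta
import Groth.Agent.SSMod.K971.FacDescend
import Groth.Agent.Lefpen.H416.NormalBase

/-!
# S15279 from S15273
-/

set_option autoImplicit false
universe u
open CategoryTheory CategoryTheory.Limits AlgebraicGeometry TopologicalSpace

namespace K971.SSUses

theorem val_fac (H : Fac.{u})
    (R : Type u) [CommRing R] [IsDomain R] [ValuationRing R] [Finite (PrimeSpectrum R)]
    {C D Cst Dst C' D' : Scheme.{u}} (φ : C ⟶ Spec (CommRingCat.of R)) (i : D ⟶ C)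
    (hC : SSMod.IsMPCurve φ i)
    (hK : Smooth (pullback.snd φ (Spec.map (CommRingCat.ofHom (algebraMap R (FractionRing R))))))
    (ist : Dst ⟶ Cst) (fC : Cst ⟶ C) (fD : Dst ⟶ D) (hst : SSMod.IsStableModification φ i ist fC fD)
    (i' : D' ⟶ C') (gC : C' ⟶ C) (gD : D' ⟶ D)
    (hss : SSMod.IsSemistableModification φ i i' gC gD) :
    ∃ hC' : C' ⟶ Cst, hC' ≫ fC = gC := by
  have hlf : LocallyOfFinitePresentation φ := hC.2.1
  have hlf' : LocallyOfFinitePresentation (i ≫ φ) := hC.2.2.2.2.2.2.2.1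
  have hfl : Flat (i ≫ φ) := hC.2.2.2.2.2.2.1
  have hr : Cyc.HasRelDim φ 1 := hC.2.2.2.2.1
  have hr0 : Cyc.HasRelDim (i ≫ φ) 0 := hC.2.2.2.2.2.2.2.2
  have hn : Pi1.IsNormalScheme (Spec (CommRingCat.of R)) :=
    Groth.Agent.Lefpen.H416.NormalBase.isNormalScheme_spec R
  obtain ⟨hC', -, ⟨-, h, -⟩, -⟩ := H hn φ i hC ist fC fD hst
    (SmoothEta.isEtaIso_of_smooth R φ hr hK fC hst.1.1.2.2.1)
    (SmoothEta.isEtaIso_of_hasRelDim_zero hr0 hst.1.1.2.2.2) i' gC gD hss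
    (SmoothEta.isEtaIso_of_smooth R φ hr hK gC hss.1.2.2.1)
    (SmoothEta.isEtaIso_of_hasRelDim_zero hr0 hss.1.2.2.2)
  exact ⟨hC', h⟩

end K971.SSUses
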