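import Groth.Agent.SSMod.K971.EtaNbhd
import Groth.Agent.Ega43.FPOfComp

/-!
# Base change of (semi)stable modifications which are isomorphisms on generic fibres

along dominant morphisms `t : T ⟶ S` of integral schemes.
-/

set_option autoImplicit false
universe u
open CategoryTheory CategoryTheory.Limits AlgebraicGeometry TopologicalSpace

namespace K971.StableBC

variable {S T C C' D D' CT CT' DT DT' : Scheme.{u}} [IsIntegral S] [IsIntegral T]

theorem lfp_fC {φ : C ⟶ S} {i : D ⟶ C} (hC : SSMod.IsMPCurve φ i)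
    {i' : D' ⟶ C'} {fC : C' ⟶ C} {fD : D' ⟶ D} (h : SSMod.IsMPModification φ i i' fC fD) :
    LocallyOfFinitePresentation fC ∧ LocallyOfFinitePresentation fD := by
  have h1 : LocallyOfFinitePresentation φ := hC.2.1
  have h2 : LocallyOfFinitePresentation (i ≫ φ) := hC.2.2.2.2.2.2.2.1
  have h3 : LocallyOfFinitePresentation (fC ≫ φ) := h.2.1.2.1
  have h4 : LocallyOfFinitePresentation (fD ≫ i ≫ φ) := by
    have h5 := h.2.1.2.2.2.2.2.2.2.1
    have h6 : i' ≫ fC ≫ φ = fD ≫ i ≫ φ := by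
      rw [← Category.assoc, h.1, Category.assoc]
    rwa [h6] at h5
  exact ⟨Groth.Agent.Ega43.FPOfComp.locallyOfFinitePresentation_of_comp fC φ,
    Groth.Agent.Ega43.FPOfComp.locallyOfFinitePresentation_of_comp fD (i ≫ φ)⟩

theorem isSemistableModification_baseChange {φ : C ⟶ S} {i : D ⟶ C} (hC : SSMod.IsMPCurve φ i)
    {i' : D' ⟶ C'} {fC : C' ⟶ C} {fD : D' ⟶ D}
    (h : SSMod.IsSemistableModification φ i i' fC fD) (hη : SSMod.IsEtaIso φ fC)
    (hηD : SSMod.IsEtaIso (i ≫ φ) fD) {t : T ⟶ S} (ht : t (genericPoint T) = genericPoint S)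
    {p : CT ⟶ C} {φT : CT ⟶ T} (sq : IsPullback p φT φ t) {pD : DT ⟶ D} {iT : DT ⟶ CT}
    (sqi : IsPullback pD iT i p) {p' : CT' ⟶ C'} {fT : CT' ⟶ CT} (sqC : IsPullback p' fT fC p)
    {pD' : DT' ⟶ D'} {fDT : DT' ⟶ DT} (sqD : IsPullback pD' fDT fD pD)
    (iT' : DT' ⟶ CT') (h1 : iT' ≫ p' = pD' ≫ i') (h2 : iT' ≫ fT = fDT ≫ iT) :
    SSMod.IsSemistableModification φT iT iT' fT fDT ∧ SSMod.IsEtaIso φT fT ∧
      SSMod.IsEtaIso (iT ≫ φT) fDT ∧ IsPullback pD' iT' i' p' := by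
  obtain ⟨⟨hw, hMP, hm1, hm2⟩, hss⟩ := h
  have hlfp := lfp_fC hC ⟨hw, hMP, hm1, hm2⟩
  have hlfp1 := hlfp.1
  have hlfp2 := hlfp.2
  have hpr1 : IsProper fC := hm1.1
  have hpr2 : IsProper fD := hm2.1
  have hfl1 : Flat φ := hC.1
  have hfl2 : Flat (i ≫ φ) := hC.2.2.2.2.2.2.1
  have hfl3 : Flat (fC ≫ φ) := hMP.1
  have e : i' ≫ fC ≫ φ = fD ≫ i ≫ φ := by rw [← Category.assoc, hw, Category.assoc]
  have hfl4 : Flat (fD ≫ i ≫ φ) := e ▸ hMP.2.2.2.2.2.2.1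
  have sqi' : IsPullback pD' iT' i' p' := by
    refine IsPullback.of_bot ?_ h1.symm sqC
    rw [h2, hw]
    exact sqD.paste_vert sqi
  refine ⟨⟨⟨h2, SSBaseChange.isMPCurve_of_isPullback hMP (sqC.paste_vert sq) sqi',
    EtaNbhd.isModification_baseChange hη ht sq sqC,
    EtaNbhd.isModification_baseChange hηD ht (sqi.paste_vert sq) sqD⟩,
    SSBaseChange.isSemistable_of_isPullback hss (sqC.paste_vert sq) sqi'⟩,
    SSBaseChange.isEtaIso_baseChange hη ht sq.w sqC,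
    SSBaseChange.isEtaIso_baseChange hηD ht (sqi.paste_vert sq).w sqD, sqi'⟩

theorem isStableModification_baseChange {φ : C ⟶ S} {i : D ⟶ C} (hC : SSMod.IsMPCurve φ i)
    {i' : D' ⟶ C'} {fC : C' ⟶ C} {fD : D' ⟶ D}
    (h : SSMod.IsStableModification φ i i' fC fD) (hη : SSMod.IsEtaIso φ fC)
    (hηD : SSMod.IsEtaIso (i ≫ φ) fD) {t : T ⟶ S} (ht : t (genericPoint T) = genericPoint S)
    {p : CT ⟶ C} {φT : CT ⟶ T} (sq : IsPullback p φT φ t) {pD : DT ⟶ D} {iT : DT ⟶ CT}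
    (sqi : IsPullback pD iT i p) {p' : CT' ⟶ C'} {fT : CT' ⟶ CT} (sqC : IsPullback p' fT fC p)
    {pD' : DT' ⟶ D'} {fDT : DT' ⟶ DT} (sqD : IsPullback pD' fDT fD pD)
    (iT' : DT' ⟶ CT') (h1 : iT' ≫ p' = pD' ≫ i') (h2 : iT' ≫ fT = fDT ≫ iT) :
    SSMod.IsStableModification φT iT iT' fT fDT ∧ SSMod.IsEtaIso φT fT ∧
      SSMod.IsEtaIso (iT ≫ φT) fDT := by
  obtain ⟨h3, h4, h5, h6⟩ :=
    isSemistableModification_baseChange hC h.1 hη hηD ht sq sqi sqC sqD iT' h1 h2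
  have hft : LocallyOfFinitePresentation φ := hC.2.1
  have hpr1 : IsProper fC := h.1.1.2.2.1.1
  exact ⟨⟨h3, SSBaseChange.noExcComp_baseChange h.2 sq sqC (SSRestrict.range_of_isPullback h6.flip)⟩,
    h4, h5⟩

end K971.StableBC
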