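import Groth.Agent.SSMod.K971.BaseChange
import Groth.Agent.FinCond.K653.LocalIso
import Groth.Agent.FlatMor.K263.EtaUniq
import Groth.Agent.ModPair.K971.Decomp

/-!
# Spreading out isomorphisms from the generic fibre

* `isIso_stalkMap_of_pullback`: if `f` is an isomorphism over `Spec O_{Y, f x}` then `f.stalkMap x` is an isomorphism.
* `exists_isIso_restrict`: for `f` proper and locally of finite presentation, an isomorphism over `Spec O_{Y,y}` is an
  isomorphism over an open neighbourhood of `y`.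
* `exists_open_of_isEtaIso`: a proper finitely presented morphism which is an isomorphism on generic fibres is an
  isomorphism over an open containing the generic fibre.
* `isModification_baseChange`: base change of modifications which are isomorphisms on generic fibres.
-/

set_option autoImplicit false
universe u
open CategoryTheory CategoryTheory.Limits AlgebraicGeometry TopologicalSpace IsLocalRing

namespace K971.EtaNbhd

variable {X Y : Scheme.{u}}

theorem exists_fac_fromSpecStalk {R : CommRingCat.{u}} [IsLocalRing R] (g : Spec R ⟶ X) (x : X)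
    (h : g (closedPoint R) = x) : ∃ m : Spec R ⟶ Spec (X.presheaf.stalk x),
      m ≫ X.fromSpecStalk x = g := by
  subst h
  exact ⟨Spec.map (Scheme.stalkClosedPointTo g), Scheme.Spec_stalkClosedPointTo_fromSpecStalk g⟩

theorem fibre_of_isIso (f : X ⟶ Y) (y : Y) [IsIso (pullback.snd f (Y.fromSpecStalk y))] :
    ∃ x : X, ∀ x' : X, f x' = y ↔ x' = x := by
  let σ : Spec (Y.presheaf.stalk y) ⟶ X := inv (pullback.snd f (Y.fromSpecStalk y)) ≫ pullback.fst f _
  have hσ : σ ≫ f = Y.fromSpecStalk y := by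
    rw [Category.assoc, IsIso.inv_comp_eq]
    exact pullback.condition
  refine ⟨σ (closedPoint _), fun x' => ⟨fun h => ?_, ?_⟩⟩
  · have h1 : x' ∈ Set.range (pullback.fst f (Y.fromSpecStalk y)) := by
      rw [Scheme.Pullback.range_fst]
      exact ⟨closedPoint _, by rw [Scheme.fromSpecStalk_closedPoint, h]⟩
    obtain ⟨z, rfl⟩ := h1
    have h2 : Y.fromSpecStalk y (pullback.snd f (Y.fromSpecStalk y) z) =
        Y.fromSpecStalk y (closedPoint _) := by
      rw [Scheme.fromSpecStalk_closedPoint, ← Scheme.Hom.comp_apply, ← pullback.condition,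
        Scheme.Hom.comp_apply, h]
    have h3 := (Y.fromSpecStalk y).isEmbedding.injective h2
    rw [← h3, ← Scheme.Hom.comp_apply]
    have : pullback.snd f (Y.fromSpecStalk y) ≫ σ = pullback.fst f (Y.fromSpecStalk y) := by
      simp [σ]
    rw [this]
  · rintro rfl
    rw [← Scheme.Hom.comp_apply, hσ, Scheme.fromSpecStalk_closedPoint]

theorem isIso_stalkMap_of_pullback (f : X ⟶ Y) (x : X)
    [IsIso (pullback.snd f (Y.fromSpecStalk (f x)))] : IsIso (f.stalkMap x) := by
  obtain ⟨x₀, hx₀⟩ := fibre_of_isIso f (f x)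
  have hx : x = x₀ := (hx₀ x).1 rfl
  let σ : Spec (Y.presheaf.stalk (f x)) ⟶ X :=
    inv (pullback.snd f (Y.fromSpecStalk (f x))) ≫ pullback.fst f _
  have hσ : σ ≫ f = Y.fromSpecStalk (f x) := by
    rw [Category.assoc, IsIso.inv_comp_eq]
    exact pullback.condition
  have hσf : f (σ (closedPoint _)) = f x := by
    rw [← Scheme.Hom.comp_apply, hσ, Scheme.fromSpecStalk_closedPoint]
  have hσx : σ (closedPoint _) = x := ((hx₀ _).1 hσf).trans hx.symm
  obtain ⟨m, hm⟩ := exists_fac_fromSpecStalk σ x hσx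
  have h1 : m ≫ Spec.map (f.stalkMap x) = 𝟙 _ := by
    rw [← cancel_mono (Y.fromSpecStalk (f x)), Category.assoc,
      Scheme.SpecMap_stalkMap_fromSpecStalk, ← Category.assoc, hm, hσ, Category.id_comp]
  have h2 : Spec.map (f.stalkMap x) ≫ m = 𝟙 _ := by
    rw [← cancel_mono (X.fromSpecStalk x), Category.assoc, hm, Category.id_comp]
    let l : Spec (X.presheaf.stalk x) ⟶ pullback f (Y.fromSpecStalk (f x)) :=
      pullback.lift (X.fromSpecStalk x) (Spec.map (f.stalkMap x))
        (Scheme.SpecMap_stalkMap_fromSpecStalk f).symm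
    have hl1 : l ≫ pullback.fst f (Y.fromSpecStalk (f x)) = X.fromSpecStalk x :=
      pullback.lift_fst _ _ _
    have hl2 : l ≫ pullback.snd f (Y.fromSpecStalk (f x)) = Spec.map (f.stalkMap x) :=
      pullback.lift_snd _ _ _
    rw [← hl2, Category.assoc]
    change l ≫ pullback.snd f _ ≫ inv (pullback.snd f _) ≫ pullback.fst f _ = _
    rw [IsIso.hom_inv_id_assoc, hl1]
  have h3 : IsIso (Spec.map (f.stalkMap x)) := ⟨m, h2, h1⟩
  exact (ConcreteCategory.isIso_iff_bijective _).2 (isIso_SpecMap_iff.1 h3)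

theorem exists_isIso_restrict (f : X ⟶ Y) [IsProper f] [LocallyOfFinitePresentation f] (y : Y)
    [IsIso (pullback.snd f (Y.fromSpecStalk y))] : ∃ U : Y.Opens, y ∈ U ∧ IsIso (f ∣_ U) := by
  obtain ⟨x, hx⟩ := fibre_of_isIso f y
  have hfx : f x = y := (hx x).2 rfl
  subst hfx
  have h1 := isIso_stalkMap_of_pullback f x
  obtain ⟨U, hxU, hU⟩ := K653.LocalIso.exists_isOpenImmersion f x
  let V : Y.Opens := ⟨(f.base '' (U : Set X)ᶜ)ᶜ, (f.isClosedMap _ U.isOpen.isClosed_compl).isOpen_compl⟩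
  have hV : f ⁻¹ᵁ V ≤ U := by
    intro z hz
    by_contra hzU
    exact hz ⟨z, hzU, rfl⟩
  have hxV : f x ∈ V := by
    rintro ⟨z, hz, hzx⟩
    exact hz ((hx z).1 hzx ▸ hxU)
  have h2 : IsOpenImmersion (f ∣_ V) := by
    have h3 : IsOpenImmersion ((f ∣_ V) ≫ V.ι) := by
      rw [morphismRestrict_ι]
      have h4 : (f ⁻¹ᵁ V).ι = X.homOfLE hV ≫ U.ι := (Scheme.homOfLE_ι _ _).symm
      rw [h4, Category.assoc]
      infer_instance
    exact IsOpenImmersion.of_comp (f ∣_ V) V.ι
  let W : Y.Opens := V.ι ''ᵁ (f ∣_ V).opensRange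
  refine ⟨W, ⟨⟨f x, hxV⟩, ⟨⟨x, hxV⟩, ?_⟩, rfl⟩, ?_⟩
  · apply Subtype.ext
    change ((f ∣_ V) ≫ V.ι) _ = _
    rw [morphismRestrict_ι]
    rfl
  · have h5 : IsOpenImmersion (f ∣_ W) := by
      have hWV : W ≤ V := by
        rintro _ ⟨z, _, rfl⟩
        exact z.2
      have h3 : IsOpenImmersion ((f ∣_ W) ≫ W.ι) := by
        rw [morphismRestrict_ι]
        have h4 : (f ⁻¹ᵁ W).ι = X.homOfLE (fun z hz => hV (hWV hz)) ≫ U.ι :=
          (Scheme.homOfLE_ι _ _).symm
        rw [h4, Category.assoc]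
        infer_instance
      exact IsOpenImmersion.of_comp (f ∣_ W) W.ι
    have h6 : Surjective (f ∣_ W) := by
      constructor
      rintro ⟨w, ⟨v, ⟨z, hz⟩, hv⟩⟩
      have hz2 : f ((f ⁻¹ᵁ V).ι z) = w := by
        rw [← Scheme.Hom.comp_apply, ← morphismRestrict_ι, Scheme.Hom.comp_apply, hz]
        exact hv
      refine ⟨⟨(f ⁻¹ᵁ V).ι z, ?_⟩, ?_⟩
      · change f ((f ⁻¹ᵁ V).ι z) ∈ W
        rw [hz2]
        exact ⟨v, ⟨z, hz⟩, hv⟩
      · apply Subtype.ext
        change ((f ∣_ W) ≫ W.ι) _ = _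
        rw [morphismRestrict_ι]
        exact hz2
    have : Epi (f ∣_ W).base := (TopCat.epi_iff_surjective _).2 h6.surj
    exact IsOpenImmersion.isIso _

section Eta

variable {S C C' : Scheme.{u}} [IsIntegral S]

theorem isIso_snd_of_isEtaIso {φ : C ⟶ S} {f : C' ⟶ C} (h : SSMod.IsEtaIso φ f) (x : C)
    (hx : φ x = genericPoint S) : IsIso (pullback.snd f (C.fromSpecStalk x)) := by
  refine SSBasic.isIso_of_isEtaIso h (IsPullback.of_hasPullback f (C.fromSpecStalk x))
    (Spec.map (φ.stalkMap x) ≫ Spec.map (S.presheaf.stalkSpecializes (specializes_of_eq hx))) ?_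
  rw [Category.assoc, Scheme.SpecMap_stalkSpecializes_fromSpecStalk,
    Scheme.SpecMap_stalkMap_fromSpecStalk]

theorem exists_open_of_isEtaIso {φ : C ⟶ S} {f : C' ⟶ C} [IsProper f]
    [LocallyOfFinitePresentation f] (h : SSMod.IsEtaIso φ f) :
    ∃ W : C.Opens, (∀ x : C, φ x = genericPoint S → x ∈ W) ∧ IsIso (f ∣_ W) := by
  have key : ∀ x : {x : C // φ x = genericPoint S}, ∃ U : C.Opens, x.1 ∈ U ∧ IsIso (f ∣_ U) :=
    fun x => by
      have := isIso_snd_of_isEtaIso h x.1 x.2
      exact exists_isIso_restrict f x.1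
  choose U hU hi using key
  exact ⟨⨆ x, U x, fun x hx => Opens.mem_iSup.2 ⟨⟨x, hx⟩, hU ⟨x, hx⟩⟩,
    K971.Decomp.isIso_restrict_iSup U hi⟩

/-- An open of a flat scheme over an integral base containing the generic fibre is schematically
dense. -/
theorem isSchematicallyDense_of_generic (φ : C ⟶ S) [Flat φ] (W : C.Opens)
    (hW : ∀ x : C, φ x = genericPoint S → x ∈ W) : CInt.IsSchematicallyDense W := by
  have hdom : IsSchemeTheoreticallyDominant (pullback.fst φ (S.fromSpecStalk (genericPoint S))) :=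
    K263.GenFibre.dominant_of_flat (IsPullback.of_hasPullback _ _)
  have hqc0 := K263.GenFibre.quasiCompact_fromSpecStalk S
  have hqc : QuasiCompact (pullback.fst φ (S.fromSpecStalk (genericPoint S))) := inferInstance
  let a := pullback.fst φ (S.fromSpecStalk (genericPoint S))
  have hr : ∀ z, a z ∈ W := fun z => by
    apply hW
    change φ (pullback.fst φ (S.fromSpecStalk (genericPoint S)) z) = _
    rw [← Scheme.Hom.comp_apply, pullback.condition, Scheme.Hom.comp_apply]
    exact K263.GenFibre.apply_fromSpecStalk S _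
  intro V
  rw [injective_iff_map_eq_zero]
  intro s hs
  apply Scheme.Hom.app_injective a V
  rw [map_zero]
  have h1 : a ⁻¹ᵁ V = a ⁻¹ᵁ (V ⊓ W) := by
    ext z
    exact ⟨fun h => ⟨h, hr z⟩, fun h => h.1⟩
  have h2 : a.app V ≫ (pullback φ (S.fromSpecStalk (genericPoint S))).presheaf.map
      (homOfLE h1.ge).op = C.presheaf.map (homOfLE (inf_le_left : V ⊓ W ≤ V)).op ≫
        a.app (V ⊓ W) := (a.naturality (homOfLE (inf_le_left : V ⊓ W ≤ V)).op).symm
  have h3 : IsIso ((pullback φ (S.fromSpecStalk (genericPoint S))).presheaf.map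
      (homOfLE h1.ge).op) := by
    have : (homOfLE h1.ge) = eqToHom h1.symm := rfl
    rw [this]; infer_instance
  apply (ConcreteCategory.bijective_of_isIso ((pullback φ (S.fromSpecStalk (genericPoint S))).presheaf.map
      (homOfLE h1.ge).op)).1
  rw [map_zero, ← CommRingCat.comp_apply]
  have h4 := congrArg (fun r => r.hom s) h2
  refine h4.trans ?_
  change (a.app (V ⊓ W)).hom ((C.presheaf.map (homOfLE (inf_le_left : V ⊓ W ≤ V)).op).hom s) = 0
  rw [show (C.presheaf.map (homOfLE (inf_le_left : V ⊓ W ≤ V)).op).hom s = 0 from hs, map_zero]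

/-- Base change of modifications which are isomorphisms on generic fibres, along a dominant
morphism of integral schemes. -/
theorem isModification_baseChange {T CT CT' : Scheme.{u}} [IsIntegral T] {φ : C ⟶ S} [Flat φ]
    {f : C' ⟶ C} [Flat (f ≫ φ)] [IsProper f] [LocallyOfFinitePresentation f]
    (h : SSMod.IsEtaIso φ f) {t : T ⟶ S} (ht : t (genericPoint T) = genericPoint S)
    {p : CT ⟶ C} {φT : CT ⟶ T} (sq : IsPullback p φT φ t) {p' : CT' ⟶ C'} {fT : CT' ⟶ CT}
    (sqC : IsPullback p' fT f p) : SSMod.IsModification fT := by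
  obtain ⟨W, hW, hi⟩ := exists_open_of_isEtaIso h
  have hφT : Flat φT := MorphismProperty.of_isPullback sq ‹Flat φ›
  have hφT' : Flat (fT ≫ φT) := MorphismProperty.of_isPullback (sqC.paste_vert sq) ‹_›
  have key : ∀ x : CT, φT x = genericPoint T → x ∈ p ⁻¹ᵁ W := fun x hx => by
    apply hW
    rw [← Scheme.Hom.comp_apply, sq.w, Scheme.Hom.comp_apply, hx, ht]
  refine ⟨MorphismProperty.of_isPullback sqC ‹IsProper f›, p ⁻¹ᵁ W,
    isSchematicallyDense_of_generic φT _ key,
    isSchematicallyDense_of_generic (fT ≫ φT) _ fun x hx => key _ ?_,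
    SSBasic.isIso_restrict_of_isPullback sqC W⟩
  rw [← hx, Scheme.Hom.comp_apply]

end Eta

end K971.EtaNbhd
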