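import Groth.Agent.SSMod.K971.Basic
import Groth.Agent.UnramA.NearPoint
import Groth.Agent.FibDim.K582.RelDim
import Groth.Agent.CurvesB.NodalEtale

/-!
# Restriction of (semi)stable modifications to opens of the target

Base change of multipointed curves, semistable modifications and of `SSMod.NoExcComp` along an open immersion
`j : V ⟶ C` of curves over the same base.
-/

set_option autoImplicit false
universe u
open CategoryTheory CategoryTheory.Limits AlgebraicGeometry TopologicalSpace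

namespace K971.SSRestrict

section Top

variable {X Y : Type*} [TopologicalSpace X] [TopologicalSpace Y]

theorem image_mem_irreducibleComponents {j : Y → X} (hj : Topology.IsOpenEmbedding j) {Z : Set Y}
    (hZ : Z ∈ irreducibleComponents Y) (hc : IsClosed (j '' Z)) :
    j '' Z ∈ irreducibleComponents X := by
  have hirr : IsIrreducible Z := hZ.1
  have hirr' : IsIrreducible (j '' Z) := hirr.image j hj.continuous.continuousOn
  obtain ⟨u, hu, hsub⟩ := exists_mem_irreducibleComponents_subset_of_isIrreducible _ hirr'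
  have hne : (u ∩ Set.range j).Nonempty := by
    obtain ⟨z, hz⟩ := hirr.1
    exact ⟨j z, hsub ⟨z, hz, rfl⟩, ⟨z, rfl⟩⟩
  have h1 := preimage_mem_irreducibleComponents hu hj hne
  have h2 : Z ⊆ j ⁻¹' u := fun z hz => hsub ⟨z, hz, rfl⟩
  have h3 : Z = j ⁻¹' u := Set.Subset.antisymm h2 (hZ.2 h1.1 h2)
  have h4 : u ∩ Set.range j = j '' Z := by
    rw [h3, Set.image_preimage_eq_inter_range]
  have h5 : u ⊆ closure (u ∩ Set.range j) :=
    subset_closure_inter_of_isPreirreducible_of_isOpen hu.1.2 hj.isOpen_range hne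
  have h6 : u ⊆ j '' Z := by
    rw [h4, hc.closure_eq] at h5
    exact h5
  rwa [← Set.Subset.antisymm h6 hsub]

/-- `Z` closed in the open `Y` and contained in a closed set `K ⊆ Y` of `X` is closed in `X`. -/
theorem isClosed_image {j : Y → X} (hj : Topology.IsOpenEmbedding j) {Z : Set Y}
    (hZ : IsClosed Z) {K : Set X} (hK : IsClosed K) (hKj : K ⊆ Set.range j) (hZK : j '' Z ⊆ K) :
    IsClosed (j '' Z) := by
  obtain ⟨F, hF, rfl⟩ := hj.isInducing.isClosed_iff.1 hZ
  have : j '' (j ⁻¹' F) = F ∩ K := by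
    ext x
    constructor
    · rintro ⟨y, hy, rfl⟩
      exact ⟨hy, hZK ⟨y, hy, rfl⟩⟩
    · rintro ⟨hx, hxK⟩
      obtain ⟨y, rfl⟩ := hKj hxK
      exact ⟨y, hx, rfl⟩
  rw [this]
  exact hF.inter hK

end Top

section Exc

theorem range_of_isPullback {P X Y S : Scheme.{u}} {p : P ⟶ X} {q : P ⟶ Y} {f : X ⟶ S} {g : Y ⟶ S}
    (sq : IsPullback p q f g) : Set.range p.base = f.base ⁻¹' Set.range g.base := by
  have h1 : p = sq.isoPullback.hom ≫ pullback.fst f g := (sq.isoPullback_hom_fst).symm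
  have h2 : Set.range p.base = Set.range (pullback.fst f g).base := by
    rw [h1]
    exact (sq.isoPullback.hom.homeomorph.surjective).range_comp _
  rw [h2]
  exact Scheme.Pullback.range_fst f g

/-- Transport of exceptional components along open immersions of the source and the target. -/
theorem isExcComp_image {Ω : Type u} [Field Ω] {X' X Y' Y : Scheme.{u}} {f : X' ⟶ X}
    {q : X ⟶ Spec (CommRingCat.of Ω)} [LocallyOfFiniteType q] [IsProper f] {J' : Y' ⟶ X'}
    {fY : Y' ⟶ Y} {J : Y ⟶ X} [IsOpenImmersion J] (sq : IsPullback J' fY f J)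
    {M Z : Set Y'} {M' : Set X'} (hM : ∀ y, y ∈ M ↔ J' y ∈ M') (hZ : Z ∈ irreducibleComponents Y')
    {q' : X' ⟶ Spec (CommRingCat.of Ω)} {qY : Y' ⟶ Spec (CommRingCat.of Ω)}
    (hqY : qY = J' ≫ q') (h : SSMod.IsExcComp Ω fY qY M Z) :
    J'.base '' Z ∈ irreducibleComponents X' ∧ SSMod.IsExcComp Ω f q' M' (J'.base '' Z) := by
  subst hqY
  have hJ' : IsOpenImmersion J' := MorphismProperty.of_isPullback sq.flip ‹IsOpenImmersion J›
  have hfY : IsProper fY := MorphismProperty.of_isPullback sq ‹IsProper f›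
  obtain ⟨⟨e, he, heq, hr⟩, hcard, hsub⟩ := h
  have hJac : JacobsonSpace X := LocallyOfFiniteType.jacobsonSpace q
  have hZc : IsClosed Z := isClosed_of_mem_irreducibleComponents Z hZ
  obtain ⟨z₀, hz₀⟩ : Z.Nonempty := hZ.1.1
  have him : fY.base '' Z = {fY z₀} := by
    apply Set.Subset.antisymm
    · intro x hx
      exact hsub hx ⟨z₀, hz₀, rfl⟩
    · rintro _ rfl
      exact ⟨z₀, hz₀, rfl⟩
  have hcl : IsClosed ({fY z₀} : Set Y) := him ▸ fY.isClosedMap _ hZc
  have hcl2 : IsClosed ({J (fY z₀)} : Set X) := by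
    apply isClosed_singleton_of_isLocallyClosed_singleton
    rw [← Set.image_singleton (f := J.base)]
    obtain ⟨F, hF, hF'⟩ := J.isOpenEmbedding.isInducing.isClosed_iff.1 hcl
    have : J.base '' {fY z₀} = Set.range J.base ∩ F := by
      rw [← hF', Set.image_preimage_eq_inter_range, Set.inter_comm]
    rw [this]
    exact J.isOpenEmbedding.isOpen_range.isLocallyClosed.inter hF.isLocallyClosed
  have hK : IsClosed (f.base ⁻¹' {J (fY z₀)}) := hcl2.preimage f.continuous
  have hrange : Set.range J'.base = f.base ⁻¹' Set.range J.base := range_of_isPullback sq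
  have hw : ∀ y, f (J' y) = J (fY y) := fun y => by
    rw [← Scheme.Hom.comp_apply, ← Scheme.Hom.comp_apply, sq.w]
  have hclosed : IsClosed (J'.base '' Z) := by
    refine isClosed_image J'.isOpenEmbedding hZc hK ?_ ?_
    · rw [hrange]
      exact Set.preimage_mono (by rintro _ rfl; exact ⟨_, rfl⟩)
    · rintro _ ⟨z, hz, rfl⟩
      have : fY z = fY z₀ := by
        have h := him.subset ⟨z, hz, rfl⟩
        exact h
      change f (J' z) = J (fY z₀)
      rw [hw, this]
  refine ⟨image_mem_irreducibleComponents J'.isOpenEmbedding hZ hclosed, ⟨e ≫ J', ?_, ?_, ?_⟩,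
    ?_, ?_⟩
  · apply IsClosedImmersion.of_isPreimmersion
    have : Set.range (e ≫ J').base = J'.base '' Z := by
      rw [← hr, ← Set.range_comp]
      rfl
    exact this ▸ hclosed
  · rw [Category.assoc, heq]
  · rw [← hr, ← Set.range_comp]
    rfl
  · have : J'.base '' Z ∩ (M' ∪ DualGr.nonsmoothPts q') =
        J'.base '' (Z ∩ (M ∪ DualGr.nonsmoothPts (J' ≫ q'))) := by
      have hiff : ∀ z, J' z ∈ M' ∪ DualGr.nonsmoothPts q' ↔
          z ∈ M ∪ DualGr.nonsmoothPts (J' ≫ q') := fun z => by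
        rw [Set.mem_union, Set.mem_union, hM z]
        refine or_congr Iff.rfl ?_
        exact not_congr
          (Groth.Agent.UnramA.NearPoint.stalkMap_comp_of_isOpenImmersion_formallySmooth J' q' z).symm
      ext x
      constructor
      · rintro ⟨⟨z, hz, rfl⟩, hx⟩
        exact ⟨z, ⟨hz, (hiff z).1 hx⟩, rfl⟩
      · rintro ⟨z, ⟨hz, hz2⟩, rfl⟩
        exact ⟨⟨z, hz, rfl⟩, (hiff z).2 hz2⟩
    rw [this, Set.InjOn.encard_image (J'.isOpenEmbedding.injective.injOn)]
    exact hcard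
  · rintro _ ⟨_, ⟨z, hz, rfl⟩, rfl⟩ _ ⟨_, ⟨z', hz', rfl⟩, rfl⟩
    rw [hw, hw, hsub ⟨z, hz, rfl⟩ ⟨z', hz', rfl⟩]

end Exc

section Squares

variable {X X' S S₁ : Scheme.{u}}

theorem baseChangeOver_snd (b : X' ⟶ X) (g : X ⟶ S) (s : S₁ ⟶ S) :
    CInt.baseChangeOver b g s ≫ pullback.snd g s = pullback.snd (b ≫ g) s :=
  (pullback.lift_snd _ _ _).trans (Category.comp_id _)

theorem baseChangeOver_fst (b : X' ⟶ X) (g : X ⟶ S) (s : S₁ ⟶ S) :
    CInt.baseChangeOver b g s ≫ pullback.fst g s = pullback.fst (b ≫ g) s ≫ b :=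
  pullback.lift_fst _ _ _

theorem isPullback_baseChangeOver (b : X' ⟶ X) (g : X ⟶ S) (s : S₁ ⟶ S) :
    IsPullback (pullback.fst (b ≫ g) s) (CInt.baseChangeOver b g s) b (pullback.fst g s) := by
  refine IsPullback.of_bot (v₂₁ := pullback.snd g s) (v₂₂ := g) (h₃₁ := s) ?_ ?_
    (IsPullback.of_hasPullback g s)
  · rw [baseChangeOver_snd]
    exact IsPullback.of_hasPullback (b ≫ g) s
  · exact (baseChangeOver_fst b g s).symm

end Squares

section Curves

variable {S C C' D D' V V' DV DV' : Scheme.{u}}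

theorem noExcComp_of_isPullback {φ : C ⟶ S} [LocallyOfFiniteType φ] {fC : C' ⟶ C} [IsProper fC]
    {i' : D' ⟶ C'} (h : SSMod.NoExcComp φ i' fC) {j : V ⟶ C} [IsOpenImmersion j] {j' : V' ⟶ C'}
    {fV : V' ⟶ V} (sq : IsPullback j' fV fC j) {iV : DV ⟶ V'}
    (hr : Set.range iV.base = j'.base ⁻¹' Set.range i'.base) : SSMod.NoExcComp (j ≫ φ) iV fV := by
  intro Ω _ _ g Z hZ hexc
  have e1 : (fV ≫ j ≫ φ) ≫ 𝟙 S = j' ≫ fC ≫ φ := by
    rw [Category.comp_id, ← Category.assoc, ← sq.w, Category.assoc]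
  let J' : pullback (fV ≫ j ≫ φ) g ⟶ pullback (fC ≫ φ) g :=
    pullback.map (fV ≫ j ≫ φ) g (fC ≫ φ) g j' (𝟙 _) (𝟙 _) e1 (by simp)
  have hJ'1 : J' ≫ pullback.fst (fC ≫ φ) g = pullback.fst (fV ≫ j ≫ φ) g ≫ j' :=
    pullback.lift_fst _ _ _
  have hJ'2 : J' ≫ pullback.snd (fC ≫ φ) g = pullback.snd (fV ≫ j ≫ φ) g :=
    (pullback.lift_snd _ _ _).trans (Category.comp_id _)
  let J : pullback (j ≫ φ) g ⟶ pullback φ g := CInt.baseChangeOver j φ g
  have hJ1 : J ≫ pullback.fst φ g = pullback.fst (j ≫ φ) g ≫ j := baseChangeOver_fst j φ g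
  have hJ2 : J ≫ pullback.snd φ g = pullback.snd (j ≫ φ) g := baseChangeOver_snd j φ g
  have hJo : IsOpenImmersion J :=
    MorphismProperty.of_isPullback (isPullback_baseChangeOver j φ g) ‹IsOpenImmersion j›
  have hsq : IsPullback J' (CInt.baseChangeOver fV (j ≫ φ) g) (CInt.baseChangeOver fC φ g) J := by
    have h1 := (isPullback_baseChangeOver fV (j ≫ φ) g).paste_horiz sq
    rw [← hJ'1, ← hJ1] at h1
    refine IsPullback.of_right h1 ?_ (isPullback_baseChangeOver fC φ g)
    apply pullback.hom_ext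
    · calc (J' ≫ CInt.baseChangeOver fC φ g) ≫ pullback.fst φ g
          = J' ≫ CInt.baseChangeOver fC φ g ≫ pullback.fst φ g := Category.assoc _ _ _
        _ = J' ≫ pullback.fst (fC ≫ φ) g ≫ fC := congrArg (J' ≫ ·) (baseChangeOver_fst fC φ g)
        _ = (J' ≫ pullback.fst (fC ≫ φ) g) ≫ fC := (Category.assoc _ _ _).symm
        _ = (pullback.fst (fV ≫ j ≫ φ) g ≫ j') ≫ fC := congrArg (· ≫ fC) hJ'1
        _ = pullback.fst (fV ≫ j ≫ φ) g ≫ j' ≫ fC := Category.assoc _ _ _
        _ = pullback.fst (fV ≫ j ≫ φ) g ≫ fV ≫ j := congrArg (pullback.fst (fV ≫ j ≫ φ) g ≫ ·) sq.w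
        _ = (pullback.fst (fV ≫ j ≫ φ) g ≫ fV) ≫ j := (Category.assoc _ _ _).symm
        _ = (CInt.baseChangeOver fV (j ≫ φ) g ≫ pullback.fst (j ≫ φ) g) ≫ j :=
          congrArg (· ≫ j) (baseChangeOver_fst fV (j ≫ φ) g).symm
        _ = CInt.baseChangeOver fV (j ≫ φ) g ≫ pullback.fst (j ≫ φ) g ≫ j := Category.assoc _ _ _
        _ = CInt.baseChangeOver fV (j ≫ φ) g ≫ J ≫ pullback.fst φ g :=
          congrArg (CInt.baseChangeOver fV (j ≫ φ) g ≫ ·) hJ1.symm
        _ = (CInt.baseChangeOver fV (j ≫ φ) g ≫ J) ≫ pullback.fst φ g :=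
          (Category.assoc _ _ _).symm
    · rw [Category.assoc, baseChangeOver_snd, hJ'2, Category.assoc, hJ2, baseChangeOver_snd]
  have hp : IsProper (CInt.baseChangeOver fC φ g) :=
    MorphismProperty.of_isPullback (isPullback_baseChangeOver fC φ g) ‹IsProper fC›
  obtain ⟨h1, h2⟩ := isExcComp_image (Ω := Ω) (f := CInt.baseChangeOver fC φ g)
    (q := pullback.snd φ g) hsq (M := (pullback.fst (fV ≫ j ≫ φ) g).base ⁻¹' Set.range iV.base)
    (M' := (pullback.fst (fC ≫ φ) g).base ⁻¹' Set.range i'.base)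
    (q' := pullback.snd (fC ≫ φ) g) (qY := pullback.snd (fV ≫ j ≫ φ) g) (fun y => by
      rw [Set.mem_preimage, Set.mem_preimage, hr, Set.mem_preimage]
      have : (pullback.fst (fC ≫ φ) g).base (J' y) = j'.base ((pullback.fst (fV ≫ j ≫ φ) g).base y) := by
        have h := congrArg (fun f => f.base y) hJ'1
        simpa using h
      rw [this]) hZ hJ'2.symm hexc
  exact h Ω g _ h1 h2

end Curves

end K971.SSRestrict
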