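import Groth.Agent.Etcore.FGLim
import Groth.Agent.Etcore.PullbackLim
import Groth.Agent.EtpbcB.LocAcycDesc
import Groth.Agent.Lefpen.H416.NormalBase

/-!
# A normal domain is the directed union of its finitely generated normal subrings
-/

set_option autoImplicit false
set_option linter.unusedSectionVars false
universe u
open CategoryTheory CategoryTheory.Limits AlgebraicGeometry TopologicalSpace Opposite

namespace K971.NormLim

open Groth.Agent.Etcore.PullbackLim

/-- The finitely generated normal subrings. -/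
abbrev NSub (A : Type u) [CommRing A] : Type u :=
  {B : Subring A // (∃ T : Finset A, Subring.closure (T : Set A) = B) ∧ IsNoetherianRing B ∧
    IsIntegrallyClosed B}

/-- The system. -/
def nSys (A : Type u) [CommRing A] : NSub A ⥤ CommRingCat.{u} where
  obj B := CommRingCat.of B.1
  map h := CommRingCat.ofHom (Subring.inclusion h.le)
  map_id _ := rfl
  map_comp _ _ := rfl

/-- The cocone with point the whole ring. -/
def nCocone (A : Type u) [CommRing A] : Cocone (nSys A) where
  pt := CommRingCat.of A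
  ι :=
    { app := fun B => CommRingCat.ofHom B.1.subtype
      naturality := fun _ _ _ => rfl }

variable (A : Type u) [CommRing A] [IsDomain A] [IsIntegrallyClosed A]

theorem exists_ge (T : Finset A) : ∃ B : NSub A, (T : Set A) ⊆ B.1 := by
  obtain ⟨A₁, h1, -, h2, h3, h4, -⟩ := Groth.Agent.EtpbcB.LocAcycDesc.exists_normal
    (Subring.closure (T : Set A)) T rfl ∅ (by simp)
  exact ⟨⟨A₁, h2, h3, h4⟩, Subring.subset_closure.trans h1⟩

instance : IsDirected (NSub A) (· ≤ ·) where
  directed B₁ B₂ := by
    classical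
    obtain ⟨⟨T₁, h₁⟩, -⟩ := B₁.2
    obtain ⟨⟨T₂, h₂⟩, -⟩ := B₂.2
    obtain ⟨B, hB⟩ := exists_ge A (T₁ ∪ T₂)
    rw [Finset.coe_union, Set.union_subset_iff] at hB
    refine ⟨B, ?_, ?_⟩
    · change B₁.1 ≤ B.1
      rw [← h₁, Subring.closure_le]
      exact hB.1
    · change B₂.1 ≤ B.1
      rw [← h₂, Subring.closure_le]
      exact hB.2

instance : Nonempty (NSub A) := ⟨(exists_ge A ∅).choose⟩

theorem nonempty_isColimit_nCocone : Nonempty (IsColimit (nCocone A)) := by
  apply Groth.Agent.Etcore.FGLim.nonempty_isColimit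
  · intro (x : A)
    obtain ⟨B, hB⟩ := exists_ge A {x}
    exact ⟨B, ⟨x, hB (by simp)⟩, rfl⟩
  · intro B y z h
    exact ⟨B, 𝟙 B, congrArg _ (Subtype.ext h)⟩

/-- The system of spectra. -/
noncomputable abbrev D : (NSub A)ᵒᵖ ⥤ Scheme.{u} := specSys (nSys A)

/-- The cone of spectra. -/
noncomputable abbrev cone : Cone (D A) := specCone (nSys A) (nCocone A)

/-- It is a limit cone. -/
noncomputable def isLimit : IsLimit (cone A) :=
  isLimitSpecCone (nSys A) (nCocone A) (nonempty_isColimit_nCocone A).some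

instance (i : (NSub A)ᵒᵖ) : IsDomain (i.unop.1 : Subring A) := inferInstance

instance isIntegral_obj (i : (NSub A)ᵒᵖ) : AlgebraicGeometry.IsIntegral ((D A).obj i) :=
  inferInstanceAs (AlgebraicGeometry.IsIntegral (Spec (CommRingCat.of i.unop.1)))

instance isNoetherian_obj (i : (NSub A)ᵒᵖ) : AlgebraicGeometry.IsNoetherian ((D A).obj i) := by
  have : IsNoetherianRing i.unop.1 := i.unop.2.2.1
  exact inferInstanceAs (AlgebraicGeometry.IsNoetherian (Spec (CommRingCat.of i.unop.1)))

theorem isNormalScheme_obj (i : (NSub A)ᵒᵖ) : Pi1.IsNormalScheme ((D A).obj i) := by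
  have : IsIntegrallyClosed i.unop.1 := i.unop.2.2.2
  exact Groth.Agent.Lefpen.H416.NormalBase.isNormalScheme_spec i.unop.1

theorem map_genericPoint (i : (NSub A)ᵒᵖ) :
    (cone A).π.app i (genericPoint (Spec (CommRingCat.of A))) = genericPoint ((D A).obj i) := by
  have h1 : genericPoint (Spec (CommRingCat.of A)) = (⟨⊥, Ideal.isPrime_bot⟩ : PrimeSpectrum A) :=
    genericPoint_eq_bot_of_affine (CommRingCat.of A)
  have h2 : genericPoint (Spec (CommRingCat.of i.unop.1)) =
      (⟨⊥, Ideal.isPrime_bot⟩ : PrimeSpectrum i.unop.1) :=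
    genericPoint_eq_bot_of_affine (CommRingCat.of i.unop.1)
  change Spec.map (CommRingCat.ofHom i.unop.1.subtype) _ = genericPoint (Spec (CommRingCat.of i.unop.1))
  rw [h1, h2]
  apply PrimeSpectrum.ext
  change (⊥ : Ideal A).comap i.unop.1.subtype = ⊥
  rw [← RingHom.ker_eq_comap_bot]
  exact (RingHom.injective_iff_ker_eq_bot _).1 Subtype.val_injective

end K971.NormLim
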