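import Groth.Agent.SSMod.K971.Ev
import Groth.Agent.SSMod.K971.NormLim
import Groth.Prelude.Def_SSMod

/-!
# Semistable modifications at a finite stage
-/

set_option autoImplicit false
set_option backward.isDefEq.respectTransparency false
set_option backward.defeqAttrib.useBackward true
set_option linter.unusedSectionVars false
universe u v w
open CategoryTheory AlgebraicGeometry Limits

namespace K971.Spread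

open Groth.Agent Groth.Agent.CalgA.LimFP Groth.Agent.Ega43.LimitDescend Groth.Agent.Ega43.LimRed
  K115.MdlProp K971.Evt

/-- A semistable multipointed curve, without the disjointness condition. -/
def PreSS {C D S : Scheme.{u}} (φ : C ⟶ S) (i : D ⟶ C) : Prop :=
  SSMod.IsMPCurve φ i ∧ Curv2.IsNodalFamily φ ∧ Etale (i ≫ φ)

variable {I : Type u} [SmallCategory I] [IsCofiltered I] {E : I ⥤ Scheme.{u}} {c : Cone E}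
  [∀ (i j : I) (f : i ⟶ j), IsAffineHom (E.map f)]
  [∀ i, CompactSpace (E.obj i)] [∀ i, QuasiSeparatedSpace (E.obj i)]

theorem exists_models (hc : IsLimit c) {C D Cs Ds C' D' : Scheme.{u}} (φ : C ⟶ c.pt) (i : D ⟶ C)
    (hC : SSMod.IsMPCurve φ i)
    (fC : Cs ⟶ C) (is : Ds ⟶ Cs) (fD : Ds ⟶ D) (hf : is ≫ fC = fD ≫ i) (hs : PreSS (fC ≫ φ) is)
    (gC : C' ⟶ C) (i' : D' ⟶ C') (gD : D' ⟶ D) (hg : i' ≫ gC = gD ≫ i) (hs' : PreSS (gC ≫ φ) i') :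
    ∃ (k : I) (M : Mdl φ k) (MD : Mdl (i ≫ φ) k) (Ms : Mdl (fC ≫ φ) k) (MDs : Mdl (is ≫ fC ≫ φ) k)
      (M' : Mdl (gC ≫ φ) k) (MD' : Mdl (i' ≫ gC ≫ φ) k),
      Nonempty (Mdl.Hom i MD M) ∧ Nonempty (Mdl.Hom fC Ms M) ∧ Nonempty (Mdl.Hom is MDs Ms) ∧
      Nonempty (Mdl.Hom fD MDs MD) ∧ Nonempty (Mdl.Hom gC M' M) ∧ Nonempty (Mdl.Hom i' MD' M') ∧
      Nonempty (Mdl.Hom gD MD' MD) := by
  have a1 : LocallyOfFinitePresentation φ := hC.2.1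
  have a2 : QuasiCompact φ := hC.2.2.1
  have a3 : QuasiSeparated φ := hC.2.2.2.1
  have a4 : IsClosedImmersion i := hC.2.2.2.2.2.1
  have a5 : LocallyOfFinitePresentation (i ≫ φ) := hC.2.2.2.2.2.2.2.1
  have b1 : LocallyOfFinitePresentation (fC ≫ φ) := hs.1.2.1
  have b2 : QuasiCompact (fC ≫ φ) := hs.1.2.2.1
  have b3 : QuasiSeparated (fC ≫ φ) := hs.1.2.2.2.1
  have b4 : IsClosedImmersion is := hs.1.2.2.2.2.2.1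
  have b5 : LocallyOfFinitePresentation (is ≫ fC ≫ φ) := hs.1.2.2.2.2.2.2.2.1
  have c1 : LocallyOfFinitePresentation (gC ≫ φ) := hs'.1.2.1
  have c2 : QuasiCompact (gC ≫ φ) := hs'.1.2.2.1
  have c3 : QuasiSeparated (gC ≫ φ) := hs'.1.2.2.2.1
  have c4 : IsClosedImmersion i' := hs'.1.2.2.2.2.2.1
  have c5 : LocallyOfFinitePresentation (i' ≫ gC ≫ φ) := hs'.1.2.2.2.2.2.2.2.1
  obtain ⟨k, ⟨⟨M⟩, ⟨MD⟩⟩, ⟨⟨Ms⟩, ⟨MDs⟩⟩, ⟨M'⟩, ⟨MD'⟩⟩ :=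
    (((ev_mdl hc φ).and (ev_mdl hc (i ≫ φ))).and
      (((ev_mdl hc (fC ≫ φ)).and (ev_mdl hc (is ≫ fC ≫ φ))).and
        ((ev_mdl hc (gC ≫ φ)).and (ev_mdl hc (i' ≫ gC ≫ φ))))).ex
  obtain ⟨j, h1, ⟨h2, h3, h4⟩, h5, h6, h7⟩ :=
    ((ev_hom hc MD M i rfl).and (((ev_hom hc Ms M fC rfl).and ((ev_hom hc MDs Ms is rfl).and
      (ev_hom hc MDs MD fD (by rw [← Category.assoc, ← hf, Category.assoc])))).and
      ((ev_hom hc M' M gC rfl).and ((ev_hom hc MD' M' i' rfl).and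
      (ev_hom hc MD' MD gD (by rw [← Category.assoc, ← hg, Category.assoc])))))).ex
  exact ⟨j.left, M.bc j.hom, MD.bc j.hom, Ms.bc j.hom, MDs.bc j.hom, M'.bc j.hom, MD'.bc j.hom,
    h1, h2, h3, h4, h5, h6, h7⟩

/-- A model of the whole situation over `S₁`. -/
structure Model {S C D Cs Ds C' D' : Scheme.{u}} (φ : C ⟶ S) (i : D ⟶ C) (fC : Cs ⟶ C)
    (is : Ds ⟶ Cs) (fD : Ds ⟶ D) (gC : C' ⟶ C) (i' : D' ⟶ C') (gD : D' ⟶ D) (S₁ : Scheme.{u})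
    (t : S ⟶ S₁) where
  /-- schemes -/
  C₁ : Scheme.{u}
  D₁ : Scheme.{u}
  Cs₁ : Scheme.{u}
  Ds₁ : Scheme.{u}
  C₁' : Scheme.{u}
  D₁' : Scheme.{u}
  /-- morphisms -/
  φ₁ : C₁ ⟶ S₁
  i₁ : D₁ ⟶ C₁
  f₁ : Cs₁ ⟶ C₁
  is₁ : Ds₁ ⟶ Cs₁
  fD₁ : Ds₁ ⟶ D₁
  g₁ : C₁' ⟶ C₁
  i₁' : D₁' ⟶ C₁'
  gD₁ : D₁' ⟶ D₁
  /-- projections -/
  p : C ⟶ C₁
  pD : D ⟶ D₁
  ps : Cs ⟶ Cs₁
  pDs : Ds ⟶ Ds₁
  p' : C' ⟶ C₁'
  pD' : D' ⟶ D₁'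
  sq : IsPullback p φ φ₁ t
  sqi : IsPullback pD i i₁ p
  sqf : IsPullback ps fC f₁ p
  sqis : IsPullback pDs is is₁ ps
  sqg : IsPullback p' gC g₁ p
  sqi' : IsPullback pD' i' i₁' p'
  sqfD : IsPullback pDs fD fD₁ pD
  sqgD : IsPullback pD' gD gD₁ pD
  wf : is₁ ≫ f₁ = fD₁ ≫ i₁
  wg : i₁' ≫ g₁ = gD₁ ≫ i₁
  aff : IsAffineHom φ₁
  mp : SSMod.IsMPCurve φ₁ i₁
  ssf : PreSS (f₁ ≫ φ₁) is₁
  ssg : PreSS (g₁ ≫ φ₁) i₁'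
  pf : IsProper f₁
  pg : IsProper g₁

theorem bc_comp {A' B' C' : Scheme.{u}} {f' : A' ⟶ c.pt} {g' : B' ⟶ c.pt} {h' : C' ⟶ c.pt} {i : I}
    {φ' : A' ⟶ B'} {ψ' : B' ⟶ C'} {M : Mdl f' i} {N : Mdl g' i} {P : Mdl h' i}
    (u : Mdl.Hom φ' M N) (v : Mdl.Hom ψ' N P) {j : I} (a : j ⟶ i) :
    ((u.comp v).bc a).φ = (u.bc a).φ ≫ (v.bc a).φ := by
  apply pullback.hom_ext <;> simp

theorem comp_eq {A' B₁' B₂' C' : Scheme.{u}} {f' : A' ⟶ c.pt} {g₁' : B₁' ⟶ c.pt} {g₂' : B₂' ⟶ c.pt}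
    {h' : C' ⟶ c.pt} {i : I}
    {φ₁ : A' ⟶ B₁'} {ψ₁ : B₁' ⟶ C'} {φ₂ : A' ⟶ B₂'} {ψ₂ : B₂' ⟶ C'} {M : Mdl f' i} {N₁ : Mdl g₁' i}
    {N₂ : Mdl g₂' i} {P : Mdl h' i} (u₁ : Mdl.Hom φ₁ M N₁) (v₁ : Mdl.Hom ψ₁ N₁ P)
    (u₂ : Mdl.Hom φ₂ M N₂) (v₂ : Mdl.Hom ψ₂ N₂ P) (w : φ₂ ≫ ψ₂ = φ₁ ≫ ψ₁) {j : I} (a : j ⟶ i)
    (h : ((u₁.comp v₁).bc a).φ = (((u₂.comp v₂).cast w).bc a).φ) :
    (u₁.bc a).φ ≫ (v₁.bc a).φ = (u₂.bc a).φ ≫ (v₂.bc a).φ := by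
  rw [← bc_comp, ← bc_comp]
  exact h

/-- The model obtained from models of the schemes and morphisms. -/
noncomputable def Model.mk' {C D Cs Ds C' D' : Scheme.{u}} {φ : C ⟶ c.pt} {i : D ⟶ C}
    {fC : Cs ⟶ C} {is : Ds ⟶ Cs} {fD : Ds ⟶ D}
    {gC : C' ⟶ C} {i' : D' ⟶ C'} {gD : D' ⟶ D} {k : I} (M : Mdl φ k) (MD : Mdl (i ≫ φ) k)
    (Ms : Mdl (fC ≫ φ) k) (MDs : Mdl (is ≫ fC ≫ φ) k)
    (M' : Mdl (gC ≫ φ) k) (MD' : Mdl (i' ≫ gC ≫ φ) k) (ui : Mdl.Hom i MD M) (uf : Mdl.Hom fC Ms M)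
    (uis : Mdl.Hom is MDs Ms) (ufD : Mdl.Hom fD MDs MD) (ug : Mdl.Hom gC M' M)
    (ui' : Mdl.Hom i' MD' M') (ugD : Mdl.Hom gD MD' MD)
    (e1 : IsClosedImmersion ui.φ) (e2 : IsProper uf.φ) (e3 : IsClosedImmersion uis.φ)
    (e4 : IsProper ug.φ) (e5 : IsClosedImmersion ui'.φ) (e6 : uis.φ ≫ uf.φ = ufD.φ ≫ ui.φ)
    (e7 : ui'.φ ≫ ug.φ = ugD.φ ≫ ui.φ) (e8 : IsAffineHom M.f) (e9 : Flat M.f)
    (e10 : Cyc.HasRelDim M.f 1) (e11 : Flat MD.f) (e12 : Cyc.HasRelDim MD.f 0)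
    (e13 : Curv2.IsNodalFamily Ms.f) (e14 : Cyc.HasRelDim Ms.f 1) (e15 : Etale MDs.f)
    (e16 : Cyc.HasRelDim MDs.f 0) (e17 : Curv2.IsNodalFamily M'.f) (e18 : Cyc.HasRelDim M'.f 1)
    (e19 : Etale MD'.f) (e20 : Cyc.HasRelDim MD'.f 0) :
    Model φ i fC is fD gC i' gD (E.obj k) (c.π.app k) where
  C₁ := M.A
  D₁ := MD.A
  Cs₁ := Ms.A
  Ds₁ := MDs.A
  C₁' := M'.A
  D₁' := MD'.A
  φ₁ := M.f
  i₁ := ui.φ
  f₁ := uf.φ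
  is₁ := uis.φ
  fD₁ := ufD.φ
  g₁ := ug.φ
  i₁' := ui'.φ
  gD₁ := ugD.φ
  p := M.p
  pD := MD.p
  ps := Ms.p
  pDs := MDs.p
  p' := M'.p
  pD' := MD'.p
  sq := M.h
  sqi := ui.isPullback
  sqf := uf.isPullback
  sqis := uis.isPullback
  sqg := ug.isPullback
  sqi' := ui'.isPullback
  sqfD := ufD.isPullback
  sqgD := ugD.isPullback
  wf := e6
  wg := e7
  aff := e8
  mp := by
    refine ⟨e9, M.lfp, M.qc, M.qs, e10, e1, ?_, ?_, ?_⟩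
    · rw [ui.w]; exact e11
    · rw [ui.w]; exact MD.lfp
    · rw [ui.w]; exact e12
  ssf := by
    refine ⟨⟨?_, ?_, ?_, ?_, ?_, e3, ?_, ?_, ?_⟩, ?_, ?_⟩
    · rw [uf.w]; exact e13.1
    · rw [uf.w]; exact Ms.lfp
    · rw [uf.w]; exact Ms.qc
    · rw [uf.w]; exact Ms.qs
    · rw [uf.w]; exact e14
    · rw [uf.w, uis.w]; infer_instance
    · rw [uf.w, uis.w]; infer_instance
    · rw [uf.w, uis.w]; exact e16
    · rw [uf.w]; exact e13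
    · rw [uf.w, uis.w]; exact e15
  ssg := by
    refine ⟨⟨?_, ?_, ?_, ?_, ?_, e5, ?_, ?_, ?_⟩, ?_, ?_⟩
    · rw [ug.w]; exact e17.1
    · rw [ug.w]; exact M'.lfp
    · rw [ug.w]; exact M'.qc
    · rw [ug.w]; exact M'.qs
    · rw [ug.w]; exact e18
    · rw [ug.w, ui'.w]; infer_instance
    · rw [ug.w, ui'.w]; infer_instance
    · rw [ug.w, ui'.w]; exact e20
    · rw [ug.w]; exact e17
    · rw [ug.w, ui'.w]; exact e19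
  pf := e2
  pg := e4

theorem exists_stage (hc : IsLimit c) {C D Cs Ds C' D' : Scheme.{u}} (φ : C ⟶ c.pt) (i : D ⟶ C)
    (haff : IsAffineHom φ) (hC : SSMod.IsMPCurve φ i)
    (fC : Cs ⟶ C) (is : Ds ⟶ Cs) (fD : Ds ⟶ D) (hf : is ≫ fC = fD ≫ i) (hs : PreSS (fC ≫ φ) is)
    (gC : C' ⟶ C) (i' : D' ⟶ C') (gD : D' ⟶ D) (hg : i' ≫ gC = gD ≫ i) (hs' : PreSS (gC ≫ φ) i')
    [hfp : IsProper fC] [hgp : IsProper gC] :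
    ∃ k : I, Nonempty (Model φ i fC is fD gC i' gD (E.obj k) (c.π.app k)) := by
  obtain ⟨k, M, MD, Ms, MDs, M', MD', ⟨ui⟩, ⟨uf⟩, ⟨uis⟩, ⟨ufD⟩, ⟨ug⟩, ⟨ui'⟩, ⟨ugD⟩⟩ :=
    exists_models hc φ i hC fC is fD hf hs gC i' gD hg hs'
  have q1 : QuasiSeparated φ := hC.2.2.2.1
  have q2 : QuasiSeparated (fC ≫ φ) := hs.1.2.2.2.1
  have q3 : QuasiSeparated (gC ≫ φ) := hs'.1.2.2.2.1
  have hcl : DescendsLim @IsClosedImmersion.{u} :=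
    Groth.Agent.Ega43.LimitDescendClosed.descendsLim_isClosedImmersion
  have hpr : DescendsLim @IsProper.{u} := K286.Desc.descendsLim_isProper
  have hfl : DescendsLim @Flat.{u} := Groth.Agent.Sga3.H515.LimSmooth.descendsLim_flat
  have hah : DescendsLim @IsAffineHom.{u} := K286.Desc.descendsLim_isAffineHom
  have het : DescendsLim @Etale.{u} := K973.EtaleDesc.descendsLim_etale
  have e1 := ev_prop_hom ui hc hcl hC.2.2.2.2.2.1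
  have e2 := ev_prop_hom uf hc hpr hfp
  have e3 := ev_prop_hom uis hc hcl hs.1.2.2.2.2.2.1
  have e4 := ev_prop_hom ug hc hpr hgp
  have e5 := ev_prop_hom ui' hc hcl hs'.1.2.2.2.2.2.1
  have e6 := ev_eq (uis.comp uf) ((ufD.comp ui).cast hf.symm) hc
  have e7 := ev_eq (ui'.comp ug) ((ugD.comp ui).cast hg.symm) hc
  have e8 := ev_prop_mdl hc hah M haff
  have e9 := ev_prop_mdl hc hfl M hC.1
  have e10 := ev_prop_one hc (descendsOne_relDim 1) M ⟨by have := hC.2.1; infer_instance, hC.2.2.2.2.1⟩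
  have e11 := ev_prop_mdl hc hfl MD hC.2.2.2.2.2.2.1
  have e12 := ev_prop_one hc (descendsOne_relDim 0) MD
    ⟨by have := hC.2.2.2.2.2.2.2.1; infer_instance, hC.2.2.2.2.2.2.2.2⟩
  have e13 := ev_prop_one hc K563.NodLim.descendsOne_nod Ms ((K563.NodLim.pNod_iff _).2 hs.2.1)
  have e14 := ev_prop_one hc (descendsOne_relDim 1) Ms
    ⟨by have := hs.1.2.1; infer_instance, hs.1.2.2.2.2.1⟩
  have e15 := ev_prop_mdl hc het MDs hs.2.2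
  have e16 := ev_prop_one hc (descendsOne_relDim 0) MDs
    ⟨by have := hs.1.2.2.2.2.2.2.2.1; infer_instance, hs.1.2.2.2.2.2.2.2.2⟩
  have e17 := ev_prop_one hc K563.NodLim.descendsOne_nod M' ((K563.NodLim.pNod_iff _).2 hs'.2.1)
  have e18 := ev_prop_one hc (descendsOne_relDim 1) M'
    ⟨by have := hs'.1.2.1; infer_instance, hs'.1.2.2.2.2.1⟩
  have e19 := ev_prop_mdl hc het MD' hs'.2.2
  have e20 := ev_prop_one hc (descendsOne_relDim 0) MD'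
    ⟨by have := hs'.1.2.2.2.2.2.2.2.1; infer_instance, hs'.1.2.2.2.2.2.2.2.2⟩
  obtain ⟨j, ⟨e1, e2, e3, e4, e5⟩, ⟨e6, e7⟩, ⟨e8, e9, e10⟩, ⟨e11, e12⟩, ⟨e13, e14⟩, ⟨e15, e16⟩,
    ⟨e17, e18⟩, e19, e20⟩ :=
    ((e1.and (e2.and (e3.and (e4.and e5)))).and ((e6.and e7).and ((e8.and (e9.and e10)).and
      ((e11.and e12).and ((e13.and e14).and ((e15.and e16).and ((e17.and e18).and
        (e19.and e20)))))))).ex
  have r1 := (Ms.bc j.hom).qs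
  have r2 := (M'.bc j.hom).qs
  exact ⟨j.left, ⟨Model.mk' (M.bc j.hom) (MD.bc j.hom) (Ms.bc j.hom) (MDs.bc j.hom) (M'.bc j.hom)
    (MD'.bc j.hom) (ui.bc j.hom) (uf.bc j.hom) (uis.bc j.hom) (ufD.bc j.hom) (ug.bc j.hom)
    (ui'.bc j.hom) (ugD.bc j.hom) e1 e2 e3 e4 e5 (comp_eq _ _ _ _ _ _ e6) (comp_eq _ _ _ _ _ _ e7)
    e8 e9 e10.2 e11 e12.2 ((K563.NodLim.pNod_iff _).1 e13) e14.2 e15 e16.2
    ((K563.NodLim.pNod_iff _).1 e17) e18.2 e19 e20.2⟩⟩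

end K971.Spread
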