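import Groth.Agent.SSMod.K971.Rigid
import Groth.Agent.SSMod.K971.SmoothEta
import Groth.Agent.S2346
import Groth.Agent.S9389

/-!
# Finite fibres everywhere
-/

set_option autoImplicit false
universe u
open CategoryTheory CategoryTheory.Limits AlgebraicGeometry TopologicalSpace

namespace K971.FinFib

theorem quasiFiniteAt_comp {X Y Z : Scheme.{u}} {f : X ⟶ Y} {g : Y ⟶ Z} {x : X}
    (hf : f.QuasiFiniteAt x) (hg : g.QuasiFiniteAt (f x)) : (f ≫ g).QuasiFiniteAt x := by
  have h6 : ((f ≫ g).stalkMap x).hom = (f.stalkMap x).hom.comp (g.stalkMap (f x)).hom :=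
    congrArg CommRingCat.Hom.hom (Scheme.Hom.stalkMap_comp f g x)
  change ((f ≫ g).stalkMap x).hom.QuasiFinite
  rw [h6]
  exact RingHom.QuasiFinite.comp hf hg

/-- generic points of a Noetherian scheme are finite in number -/
theorem finite_generic (Z : Type*) [TopologicalSpace Z] [NoetherianSpace Z] [T0Space Z]
    [QuasiSober Z] : {z : Z | ∀ ξ, ξ ⤳ z → ξ = z}.Finite := by
  refine Set.Finite.of_injOn (f := fun z => closure ({z} : Set Z)) (t := irreducibleComponents Z)
    ?_ ?_ NoetherianSpace.finite_irreducibleComponents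
  · intro z hz
    have h1 : closure ({z} : Set Z) ⊆ irreducibleComponent z :=
      isClosed_irreducibleComponent.closure_subset_iff.2
        (Set.singleton_subset_iff.2 mem_irreducibleComponent)
    obtain ⟨ξ, hξ⟩ := QuasiSober.sober (isIrreducible_irreducibleComponent (x := z))
      isClosed_irreducibleComponent
    have h2 : ξ = z := hz ξ (by
      rw [specializes_iff_mem_closure, hξ.def]
      exact mem_irreducibleComponent)
    subst h2
    change closure ({ξ} : Set Z) ∈ irreducibleComponents Z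
    rw [hξ.def]
    exact irreducibleComponent_mem_irreducibleComponents ξ
  · intro z _ z' _ h
    have h1 : closure ({z} : Set Z) = closure {z'} := h
    exact (inseparable_iff_closure_eq.2 h1).eq

/-- a closed subset all of whose points are closed is finite -/
theorem finite_of_isClosed (Y : Type*) [TopologicalSpace Y] [NoetherianSpace Y] [QuasiSober Y]
    (S : Set Y) (hS : IsClosed S) (h : ∀ y ∈ S, IsClosed ({y} : Set Y)) : S.Finite := by
  obtain ⟨A, hA, hAc, hAi, rfl⟩ := NoetherianSpace.exists_finite_set_isClosed_irreducible hS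
  refine hA.sUnion fun T hT => ?_
  obtain ⟨η, hη⟩ := QuasiSober.sober (hAi T hT) (hAc T hT)
  have h1 : η ∈ ⋃₀ A := ⟨T, hT, hη.mem⟩
  have h2 : T = {η} := by
    rw [← hη.def, (h η h1).closure_eq]
  rw [h2]
  exact Set.finite_singleton η

section Field

variable {K : Type u} [Field K] {X Y Z W : Scheme.{u}}

/-- Over a field: `Z ⟶ Y` with `Z` of pure dimension one has finite fibres over the nonclosed points. -/
theorem finite_of_not_isClosed (sY : Y ⟶ Spec (CommRingCat.of K)) [LocallyOfFiniteType sY]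
    (f : Z ⟶ Y) [LocallyOfFiniteType f] [IsNoetherian Z] (hZ : Cyc.HasRelDim (f ≫ sY) 1) (y : Y)
    (hy : ¬ IsClosed ({y} : Set Y)) : (f ⁻¹' {y}).Finite := by
  have : JacobsonSpace Y := LocallyOfFiniteType.jacobsonSpace sY
  refine (finite_generic Z).subset ?_
  rintro z hz ξ hξ
  have hz' : f z = y := hz
  have hzc : ¬ IsClosed ({z} : Set Z) := by
    intro h
    apply hy
    rw [← hz']
    exact f.closePoints_subset_preimage_closedPoints h
  obtain ⟨z', h1, h2⟩ : ∃ z', z ⤳ z' ∧ z ≠ z' := by
    by_contra hcon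
    push Not at hcon
    apply hzc
    rw [← closure_eq_iff_isClosed]
    apply Set.Subset.antisymm
    · intro z' hz'
      exact (hcon z' (specializes_iff_mem_closure.2 hz')).symm
    · exact subset_closure
  have h3 := SmoothEta.ringKrullDim_stalk_le (f ≫ sY) hZ z'
  rcases Groth.Agent.S2346.eq_or_eq_of_specializes Z ξ z z' hξ h1 (by exact_mod_cast h3) with h | h
  · exact h
  · exact absurd h h2

theorem finite_everywhere (sY : Y ⟶ Spec (CommRingCat.of K)) [LocallyOfFiniteType sY]
    [IsNoetherian Y] (g : X ⟶ Y) (f : Z ⟶ Y) [IsProper f] [IsNoetherian Z]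
    (hZ : Cyc.HasRelDim (f ≫ sY) 1) (i : W ⟶ pullback g f) [IsClosedImmersion i]
    (hK : IsClopen {x : X | ((i ≫ pullback.fst g f) ⁻¹' {x}).Finite})
    (NC : ∀ (T : Set X) (_ : IsClopen T) (y : Y), (∀ x ∈ T, g x = y) → T = ∅) (x : X) :
    ((i ≫ pullback.fst g f) ⁻¹' {x}).Finite := by
  let G : Set Y := {y | (f ⁻¹' {y}).Finite}
  have hG : IsOpen G := Rigid.isOpen_finite f
  have hG1 : ∀ y ∈ Gᶜ, IsClosed ({y} : Set Y) := by
    intro y hy
    by_contra h
    exact hy (finite_of_not_isClosed sY f hZ y h)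
  have hG2 : (Gᶜ : Set Y).Finite := finite_of_isClosed Y _ hG.isClosed_compl hG1
  let U : Set X := {x : X | ((i ≫ pullback.fst g f) ⁻¹' {x}).Finite}ᶜ
  have hU : IsClopen U := hK.compl
  have hUG : ∀ x ∈ U, g x ∈ Gᶜ := by
    intro x hx hxG
    apply hx
    change ((i ≫ pullback.fst g f) ⁻¹' {x}).Finite
    rw [Rigid.finite_iff]
    intro w hw
    have h1 : f.QuasiFiniteAt (pullback.snd g f (i w)) := by
      refine (Rigid.finite_iff f (g x)).1 hxG _ ?_
      rw [← hw, Scheme.Hom.comp_apply, ← Scheme.Hom.comp_apply (pullback.fst g f),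
        pullback.condition, Scheme.Hom.comp_apply]
    have h2 := Groth.Agent.S9389.result f g _ _ (IsPullback.of_hasPullback g f).flip
    have h3 : i w ∈ {x' : ↥(pullback g f) | (pullback.fst g f).QuasiFiniteAt x'} := by
      rw [h2]
      exact h1
    exact quasiFiniteAt_comp (i.quasiFiniteAt w) h3
  by_contra hx
  have hxU : x ∈ U := hx
  have h4 : IsClopen (U ∩ g ⁻¹' {g x}) := by
    constructor
    · exact hU.1.inter ((hG1 _ (hUG x hxU)).preimage g.continuous)
    · have h5 : U ∩ g ⁻¹' {g x} = U ∩ (g ⁻¹' (Gᶜ \ {g x}))ᶜ := by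
        ext z
        constructor
        · rintro ⟨h1, h2⟩
          exact ⟨h1, fun h3 => h3.2 h2⟩
        · rintro ⟨h1, h2⟩
          refine ⟨h1, ?_⟩
          by_contra h3
          exact h2 ⟨hUG z h1, h3⟩
      rw [h5]
      refine hU.2.inter (IsClosed.isOpen_compl (self := ?_))
      refine IsClosed.preimage g.continuous ?_
      have h6 : (Gᶜ \ {g x} : Set Y).Finite := hG2.subset Set.sdiff_subset
      rw [← Set.biUnion_of_singleton (Gᶜ \ {g x})]
      exact h6.isClosed_biUnion fun y hy => hG1 y hy.1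
  have h7 := NC _ h4 (g x) (fun z hz => hz.2)
  have h8 : x ∈ U ∩ g ⁻¹' {g x} := ⟨hxU, rfl⟩
  rw [h7] at h8
  exact h8

end Field

end K971.FinFib
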