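import Groth.Agent.SSMod.K971.FacDescend

/-!
# The discrete valuation ring case of S15273

`K971.SSUses.FacDVR`: existence of the factorization over a complete discrete valuation ring with algebraically
closed residue field, `C` affine.
-/

set_option autoImplicit false
universe u
open CategoryTheory CategoryTheory.Limits AlgebraicGeometry TopologicalSpace Opposite

namespace K971.SSUses

/-- S15273 (existence of the `C`-component) for `S = Spec R`, `R` a complete discrete valuation ring with
algebraically closed residue field, and `C` affine. -/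
def FacDVR : Prop := ∀ (R : Type u) [CommRing R] [IsDomain R] [IsDiscreteValuationRing R]
    [IsAdicComplete (IsLocalRing.maximalIdeal R) R] [IsAlgClosed (IsLocalRing.ResidueField R)]
    {C D Cst Dst C' D' : Scheme.{u}} [IsAffine C]
    (φ : C ⟶ Spec (CommRingCat.of R)) (i : D ⟶ C) (_ : SSMod.IsMPCurve φ i)
    (ist : Dst ⟶ Cst) (fC : Cst ⟶ C) (fD : Dst ⟶ D) (_ : SSMod.IsStableModification φ i ist fC fD)
    (_ : SSMod.IsEtaIso φ fC) (_ : SSMod.IsEtaIso (i ≫ φ) fD)
    (i' : D' ⟶ C') (gC : C' ⟶ C) (gD : D' ⟶ D) (_ : SSMod.IsSemistableModification φ i i' gC gD)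
    (_ : SSMod.IsEtaIso φ gC) (_ : SSMod.IsEtaIso (i ≫ φ) gD),
    ∃ hC' : C' ⟶ Cst, hC' ≫ fC = gC

end K971.SSUses
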