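import Groth.Agent.SSMod.K971.FinFibres
import Groth.Agent.SSMod.K971.EtaOpen
import Groth.Agent.FlatMor.K263.EtaRed
import Mathlib.AlgebraicGeometry.ZariskisMainTheorem

/-!
# The local factorization over a Noetherian normal base
-/

set_option autoImplicit false
universe u
open CategoryTheory CategoryTheory.Limits AlgebraicGeometry TopologicalSpace

namespace K971

theorem IsoOver.of_mono {X Y Z S T : Scheme.{u}} {f' : Z ⟶ X} {f : X ⟶ Y} [Mono f] {h : Y ⟶ S}
    {t : T ⟶ S} (H : IsoOver (f' ≫ f) h t) : IsoOver f h t := by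
  have s1 : IsPullback (pullback.fst h t) (pullback.snd h t) h t := IsPullback.of_hasPullback _ _
  have s2 : IsPullback (pullback.fst f (pullback.fst h t)) (pullback.snd f (pullback.fst h t)) f
      (pullback.fst h t) := IsPullback.of_hasPullback _ _
  have s4 : IsPullback (pullback.fst f' (pullback.fst f (pullback.fst h t)))
      (pullback.snd f' (pullback.fst f (pullback.fst h t))) f'
      (pullback.fst f (pullback.fst h t)) := IsPullback.of_hasPullback _ _
  have h1 := (IsoOver.iff_of_isPullback s1 (s4.flip.paste_horiz s2.flip).flip).1 H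
  change IsIso (pullback.snd f (pullback.fst h t))
  have h2 : (inv (pullback.snd f' (pullback.fst f (pullback.fst h t)) ≫
      pullback.snd f (pullback.fst h t)) ≫ pullback.snd f' (pullback.fst f (pullback.fst h t))) ≫
        pullback.snd f (pullback.fst h t) = 𝟙 _ := by
    rw [Category.assoc, IsIso.inv_hom_id]
  have : IsSplitEpi (pullback.snd f (pullback.fst h t)) := ⟨⟨⟨_, h2⟩⟩⟩
  exact isIso_of_mono_of_isSplitEpi _

theorem IsoOver.baseChangeOver {X Y S S' T : Scheme.{u}} {f : X ⟶ Y} {h : Y ⟶ S} {b : S' ⟶ S}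
    {t : T ⟶ S'} (H : IsoOver f h (t ≫ b)) :
    IsoOver (CInt.baseChangeOver f h b) (pullback.snd h b) t :=
  (IsoOver.iff_comp (IsPullback.of_hasPullback h b) (SSRestrict.isPullback_baseChangeOver f h b)
    t).2 H

theorem surjective_toImage {X Y : Scheme.{u}} (f : X ⟶ Y) [IsProper f] : Surjective f.toImage := by
  constructor
  rw [← Set.range_eq_univ]
  have h1 : IsClosed (Set.range f.toImage) := f.toImage.isClosedMap.isClosed_range
  have h2 : DenseRange f.toImage := f.toImage.denseRange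
  rw [← h1.closure_eq]
  exact h2.closure_range

namespace Core

open K971.SSRestrict K971.DvrGraph

theorem exists_local_hom {S C C' Cst : Scheme.{u}} [IsIntegral S] [IsNoetherian S]
    (hS : Pi1.IsNormalScheme S) (φ : C ⟶ S) [LocallyOfFiniteType φ] [QuasiCompact φ]
    [QuasiSeparated φ] (gC : C' ⟶ C) (fC : Cst ⟶ C) [IsProper gC] [IsProper fC] [Flat (gC ≫ φ)]
    (hgeom : ∀ x, Groth.Agent.Ega43.GeomAt.GeomAt (fun R _ => _root_.IsReduced R) (gC ≫ φ) x)
    (hd : Cyc.HasRelDim (gC ≫ φ) 1) (hdst : Cyc.HasRelDim (fC ≫ φ) 1)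
    (hη : SSMod.IsEtaIso φ gC) (hη' : SSMod.IsEtaIso φ fC) (s₀ : S) (H : DvrHom φ gC fC s₀)
    (x : C') (hx : (gC ≫ φ) x = s₀) :
    ∃ V : C'.Opens, x ∈ V ∧ ∃ h : (V : Scheme.{u}) ⟶ Cst, h ≫ fC = V.ι ≫ gC := by
  have iC : IsLocallyNoetherian C := LocallyOfFiniteType.isLocallyNoetherian φ
  have iC' : IsLocallyNoetherian C' := LocallyOfFiniteType.isLocallyNoetherian gC
  have ilf : LocallyOfFinitePresentation (gC ≫ φ) := inferInstance
  obtain ⟨U, hU, hUi⟩ := EtaOpen.exists_isoOver hη'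
  let π : pullback gC fC ⟶ S := pullback.fst gC fC ≫ gC ≫ φ
  have hfst : IsoOver (pullback.fst gC fC) (gC ≫ φ) U.ι :=
    hUi.of_isPullback (IsPullback.of_hasPullback gC fC).flip
  have hrest : IsIso (pullback.fst gC fC ∣_ ((gC ≫ φ) ⁻¹ᵁ U)) := (IsoOver.iff_restrict _ _ _).1 hfst
  have hπ : π ∣_ U = (pullback.fst gC fC ∣_ ((gC ≫ φ) ⁻¹ᵁ U)) ≫ ((gC ≫ φ) ∣_ U) :=
    morphismRestrict_comp _ _ _
  have hfU : Flat (π ∣_ U) := by
    rw [hπ]
    exact MorphismProperty.comp_mem _ _ _ (inferInstanceAs (Flat (pullback.fst gC fC ∣_ _)))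
      (inferInstanceAs (Flat ((gC ≫ φ) ∣_ U)))
  have hlU : LocallyOfFinitePresentation (π ∣_ U) := by
    rw [hπ]
    exact MorphismProperty.comp_mem _ _ _
      (inferInstanceAs (LocallyOfFinitePresentation (pullback.fst gC fC ∣_ _)))
      (inferInstanceAs (LocallyOfFinitePresentation ((gC ≫ φ) ∣_ U)))
  have hπft : LocallyOfFiniteType π := inferInstance
  have hπqc : QuasiCompact π := inferInstance
  have hπqs : QuasiSeparated π := inferInstance
  obtain ⟨S', b, W, j, _, _, hbU, _, hfl, hlf, hji⟩ := FlatGraph.exists_flat π U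
    (NoetherianSpace.isCompact _) hU
  have hb := (ConnFib.map_genericPoint b U hU).1
  have hU' : genericPoint S' ∈ b ⁻¹ᵁ U := by
    change b _ ∈ U
    rw [hb]
    exact hU
  have hj1 : IsoOver j (pullback.snd π b) (b ⁻¹ᵁ U).ι := (IsoOver.iff_restrict _ _ _).2 hji
  have hj : SSMod.IsEtaIso (pullback.snd π b) j := EtaOpen.isEtaIso_of_isoOver hU' hj1
  have hq1 : IsoOver (toFst φ gC fC b j) (pullback.snd (gC ≫ φ) b) (b ⁻¹ᵁ U).ι := by
    refine IsoOver.comp_comp (IsoOver.baseChangeOver ?_) ?_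
    · rw [← morphismRestrict_ι]
      exact hfst.comp _
    · rw [baseChangeOver_snd]
      exact hj1
  have hq := EtaOpen.isEtaIso_of_isoOver hU' hq1
  -- the image
  let w : W ⟶ pullback gC fC := j ≫ pullback.fst π b
  have hwp : IsProper w := inferInstance
  have hsur := surjective_toImage w
  have hfin := FinFibres.finite_fibres hS φ gC fC hgeom hd hdst hη b U hU j hfl hlf hj hq
    w.imageι w.toImage w.toImage_imageι s₀ H x hx
  -- generic isomorphism
  have hbo : IsoOver b (𝟙 S) U.ι := (IsoOver.iff_restrict _ _ _).2 hbU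
  have h1 : IsoOver (pullback.fst π b) π U.ι := by
    have := hbo.of_isPullback (IsPullback.of_hasPullback π b).flip
    rwa [Category.comp_id] at this
  have h2 : IsoOver j (pullback.fst π b ≫ π) U.ι := by
    rw [pullback.condition, IsoOver.iff_restrict]
    exact hji
  have h3 : IsoOver w π U.ι := h1.comp_comp h2
  have h4 : IsoOver w.imageι π U.ι := by
    rw [← w.toImage_imageι] at h3
    exact h3.of_mono
  have h5 : IsoOver (w.imageι ≫ pullback.fst gC fC) (gC ≫ φ) U.ι := hfst.comp_comp h4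
  have h6 : SSMod.IsEtaIso (gC ≫ φ) (w.imageι ≫ pullback.fst gC fC) :=
    EtaOpen.isEtaIso_of_isoOver hU h5
  obtain ⟨V, hxV, hVf⟩ := exists_isFinite_morphismRestrict_of_finite_preimage_singleton
    (w.imageι ≫ pullback.fst gC fC) x hfin
  refine ⟨V, hxV, ?_⟩
  have h7 : SSMod.IsEtaIso (V.ι ≫ gC ≫ φ) ((w.imageι ≫ pullback.fst gC fC) ∣_ V) :=
    SSBasic.isEtaIso_of_isPullback h6 (isPullback_morphismRestrict _ V).flip
  have hgV : ∀ y, Groth.Agent.Ega43.GeomAt.GeomAt (fun R _ => _root_.IsReduced R)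
      (V.ι ≫ gC ≫ φ) y := by
    intro y
    rw [Groth.Agent.Ega43.GeomAt.geomAt_comp_openImmersion K263.EtaRed.isoClosed]
    exact hgeom _
  obtain ⟨a, ha⟩ := K263.EtaUniq.exists_hom hS (V.ι ≫ gC ≫ φ)
    ((w.imageι ≫ pullback.fst gC fC) ∣_ V) h7 (𝟙 S) rfl (V.ι ≫ gC ≫ φ) hgV (𝟙 _)
    (by rw [Category.id_comp, Category.comp_id])
  refine ⟨a ≫ Scheme.Opens.ι _ ≫ w.imageι ≫ pullback.snd gC fC, ?_⟩
  have h8 := morphismRestrict_ι (w.imageι ≫ pullback.fst gC fC) V
  rw [Category.assoc, Category.assoc, Category.assoc, ← pullback.condition,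
    ← Category.assoc w.imageι, ← Category.assoc (Scheme.Opens.ι _), ← h8, ← Category.assoc,
    ← Category.assoc, ha, Category.id_comp]

end Core

end K971
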