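import Groth.Agent.SSMod.K971.Spread

/-!
# Models over Noetherian normal schemes
-/

set_option autoImplicit false
set_option linter.unusedSectionVars false
universe u v w
open CategoryTheory AlgebraicGeometry Limits

namespace K971.Spread

theorem exists_normal_model (A : Type u) [CommRing A] [IsDomain A]
    [IsIntegrallyClosed A] {C D Cs Ds C' D' : Scheme.{u}} (φ : C ⟶ Spec (CommRingCat.of A))
    (i : D ⟶ C)
    (haff : IsAffineHom φ) (hC : SSMod.IsMPCurve φ i)
    (fC : Cs ⟶ C) (is : Ds ⟶ Cs) (fD : Ds ⟶ D) (hf : is ≫ fC = fD ≫ i) (hs : PreSS (fC ≫ φ) is)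
    (gC : C' ⟶ C) (i' : D' ⟶ C') (gD : D' ⟶ D) (hg : i' ≫ gC = gD ≫ i) (hs' : PreSS (gC ≫ φ) i')
    (hfp : IsProper fC) (hgp : IsProper gC) :
    ∃ (S₁ : Scheme.{u}) (_ : AlgebraicGeometry.IsIntegral S₁)
      (_ : AlgebraicGeometry.IsNoetherian S₁) (_ : Pi1.IsNormalScheme S₁)
      (t : Spec (CommRingCat.of A) ⟶ S₁),
      t (genericPoint (Spec (CommRingCat.of A))) = genericPoint S₁ ∧
      Nonempty (Model φ i fC is fD gC i' gD S₁ t) := by
  obtain ⟨k, hk⟩ := Spread.exists_stage (c := NormLim.cone A) (NormLim.isLimit A) φ i haff hC fC is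
    fD hf hs gC i' gD hg hs'
  exact ⟨(NormLim.D A).obj k, NormLim.isIntegral_obj A k, NormLim.isNoetherian_obj A k,
    NormLim.isNormalScheme_obj A k, (NormLim.cone A).π.app k, NormLim.map_genericPoint A k, hk⟩

end K971.Spread
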