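import Groth.Agent.SSMod.K971.DvrHomOf
import Groth.Agent.SSMod.K971.SpreadNorm
import Groth.Agent.SSMod.K971.Core

/-!
# Factorization through the stable modification: affine normal base, affine curve
-/

set_option autoImplicit false
universe u
open CategoryTheory CategoryTheory.Limits AlgebraicGeometry TopologicalSpace

namespace K971.AffCase

open K971.SSRestrict K971.Exc K971.EtaDesc K971.Spread

theorem exists_factorization (H : SSUses.FacDVR.{u}) (A : Type u) [CommRing A] [IsDomain A]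
    [IsIntegrallyClosed A] {C D Cs Ds C' D' : Scheme.{u}} [IsAffine C]
    (φ : C ⟶ Spec (CommRingCat.of A)) (i : D ⟶ C) (hC : SSMod.IsMPCurve φ i)
    (is : Ds ⟶ Cs) (fC : Cs ⟶ C) (fD : Ds ⟶ D)
    (hst : SSMod.IsStableModification φ i is fC fD) (hη : SSMod.IsEtaIso φ fC)
    (hηD : SSMod.IsEtaIso (i ≫ φ) fD) (i' : D' ⟶ C') (gC : C' ⟶ C) (gD : D' ⟶ D)
    (hss : SSMod.IsSemistableModification φ i i' gC gD)
    (hη' : SSMod.IsEtaIso φ gC) (hηD' : SSMod.IsEtaIso (i ≫ φ) gD) :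
    ∃ hC' : C' ⟶ Cs, hC' ≫ fC = gC := by
  have p1 : IsProper fC := hst.1.1.2.2.1.1
  have p2 : IsProper gC := hss.1.2.2.1.1
  have haff : IsAffineHom φ := inferInstance
  obtain ⟨S₁, _, _, hS₁, t, ht, ⟨m⟩⟩ := Spread.exists_normal_model A φ i haff hC fC is fD
    hst.1.1.1 ⟨hst.1.2.1, hst.1.2.2.1, hst.1.2.2.2.1⟩ gC i' gD hss.1.1
    ⟨hss.2.1, hss.2.2.1, hss.2.2.2.1⟩ p1 p2
  have a1 : LocallyOfFinitePresentation m.φ₁ := m.mp.2.1
  have a2 : QuasiCompact m.φ₁ := m.mp.2.2.1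
  have a3 : QuasiSeparated m.φ₁ := m.mp.2.2.2.1
  have a4 : IsProper m.f₁ := m.pf
  have a5 : IsProper m.g₁ := m.pg
  have c1 : Flat (m.g₁ ≫ m.φ₁) := m.ssg.1.1
  have e1 := isEtaIso_descend ht m.sq m.sqf hη
  have e3 := isEtaIso_descend ht m.sq m.sqg hη'
  have hfl : Flat (gC ≫ φ) := hss.2.1.1
  refine exists_glue φ gC fC hη fun x => ?_
  have hD := DvrHomOf.dvrHom_of_model H ht m hst hη hηD hss hη' hηD' ((gC ≫ φ) x)
  have hx : (m.g₁ ≫ m.φ₁) (m.p' x) = t ((gC ≫ φ) x) := by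
    rw [← Scheme.Hom.comp_apply, ← Scheme.Hom.comp_apply, (m.sqg.paste_vert m.sq).w]
  obtain ⟨V, hxV, h, hh⟩ := Core.exists_local_hom hS₁ m.φ₁ m.g₁ m.f₁
    (fun y => geomAt_of_isNodalFamily m.ssg.2.1 y) m.ssg.1.2.2.2.2.1 m.ssf.1.2.2.2.2.1 e3 e1 _ hD
    (m.p' x) hx
  refine ⟨m.p' ⁻¹ᵁ V, hxV, m.sqf.lift ((m.p' ∣_ V) ≫ h) ((m.p' ⁻¹ᵁ V).ι ≫ gC) ?_,
    m.sqf.lift_snd _ _ _⟩
  rw [Category.assoc, hh, ← Category.assoc, morphismRestrict_ι, Category.assoc, m.sqg.w,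
    Category.assoc]

end K971.AffCase
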