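import Groth.Agent.S0388
import Groth.Agent.Ega3B.NormalBirational
import Groth.Prelude.Def_Pi1

/-!
# Geometric fibres of proper birational morphisms to normal schemes are connected
-/

set_option autoImplicit false
universe u
open CategoryTheory CategoryTheory.Limits AlgebraicGeometry TopologicalSpace

namespace K971.ConnFib

theorem map_genericPoint {S S' : Scheme.{u}} [IsIntegral S] [IsIntegral S'] (b : S' ⟶ S)
    (U : S.Opens) (hU : genericPoint S ∈ U) [IsIso (b ∣_ U)] :
    b (genericPoint S') = genericPoint S ∧ IsIso (b.stalkMap (genericPoint S')) := by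
  have hne : Nonempty ↥(U : Scheme.{u}) := ⟨⟨_, hU⟩⟩
  have hne' : Nonempty ↥((b ⁻¹ᵁ U : S'.Opens) : Scheme.{u}) :=
    ⟨(inv (b ∣_ U)) (Classical.arbitrary _)⟩
  have h1 : (b ⁻¹ᵁ U).ι (genericPoint (b ⁻¹ᵁ U : S'.Opens)) = genericPoint S' :=
    genericPoint_eq_of_isOpenImmersion _
  have h2 : U.ι (genericPoint (U : S.Opens)) = genericPoint S :=
    genericPoint_eq_of_isOpenImmersion _
  have h3 : (b ∣_ U) (genericPoint (b ⁻¹ᵁ U : S'.Opens)) = genericPoint (U : S.Opens) :=
    genericPoint_eq_of_isOpenImmersion _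
  have h4 : b (genericPoint S') = genericPoint S := by
    rw [← h1, ← h2, ← h3, ← Scheme.Hom.comp_apply, ← Scheme.Hom.comp_apply, morphismRestrict_ι]
  refine ⟨h4, ?_⟩
  have h5 := morphismRestrictStalkMap b U (genericPoint (b ⁻¹ᵁ U : S'.Opens))
  have h6 : genericPoint S' = (b ⁻¹ᵁ U).ι (genericPoint (b ⁻¹ᵁ U : S'.Opens)) := h1.symm
  rw [h6]
  exact ((MorphismProperty.isomorphisms CommRingCat).arrow_mk_iso_iff h5).1
    (inferInstanceAs (IsIso ((b ∣_ U).stalkMap _)))

theorem geometricallyConnected {S S' : Scheme.{u}} [IsIntegral S] [IsIntegral S']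
    (hS : Pi1.IsNormalScheme S) (b : S' ⟶ S) [IsProper b] (U : S.Opens) (hU : genericPoint S ∈ U)
    [IsIso (b ∣_ U)] : GeometricallyConnected b := by
  obtain ⟨h1, h2⟩ := map_genericPoint b U hU
  have h3 : IsIso b.fromNormalization :=
    Groth.Agent.Ega3B.NormalBirational.isIso_fromNormalization (fun y => (hS y).2) b h1 h2
  have h4 := (Groth.Agent.S0388.result b).1
  rw [← b.toNormalization_fromNormalization]
  have h5 : IsPullback (𝟙 S') (b.toNormalization ≫ b.fromNormalization) b.toNormalization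
      (inv b.fromNormalization) := by
    refine IsPullback.of_horiz_isIso ⟨?_⟩
    simp
  exact MorphismProperty.of_isPullback h5 h4

theorem connectedSpace {S S' : Scheme.{u}} [IsIntegral S] [IsIntegral S']
    (hS : Pi1.IsNormalScheme S) (b : S' ⟶ S) [IsProper b] (U : S.Opens) (hU : genericPoint S ∈ U)
    [IsIso (b ∣_ U)] {K : Type u} [Field K] (s : Spec (CommRingCat.of K) ⟶ S) :
    ConnectedSpace ↥(pullback b s) := by
  have h1 := geometricallyConnected hS b U hU
  exact h1.geometrically_connectedSpace s _ _ (IsPullback.of_hasPullback b s)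

end K971.ConnFib
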