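import Groth.Agent.SSMod.K971.StableBC
import Groth.Agent.FlatMor.K263.IsoDescend
import Groth.Agent.FlatMor.K265.GenIso
import Groth.Agent.S2351

/-!
# Descending liftings from the normalization to a finite modification of the base

* `exists_lift_descent`
* `exists_lift_closed`: the marked part of a factorization.
-/

set_option autoImplicit false
universe u
open CategoryTheory CategoryTheory.Limits AlgebraicGeometry TopologicalSpace Opposite

namespace K971.SSDescend

open K263.IsoDescend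

theorem exists_lift_descent {S C C₂ Y N : Scheme.{u}} [IsIntegral S] [CompactSpace S]
    [QuasiSeparatedSpace S] [IsIntegral N] (n : N ⟶ S) [IsIntegralHom n]
    (hn : n (genericPoint N) = genericPoint S)
    (hres : Function.Bijective (n.residueFieldMap (genericPoint N)).hom)
    (ψ : Y ⟶ S) [QuasiCompact ψ] [QuasiSeparated ψ] (y : Y ⟶ C) (f₂ : C₂ ⟶ C)
    [LocallyOfFinitePresentation f₂] (a : pullback ψ n ⟶ C₂) (ha : a ≫ f₂ = pullback.fst ψ n ≫ y) :
    ∃ (S' : Scheme.{u}) (_ : IsIntegral S') (g : S' ⟶ S) (V : S.Opens), IsFinite g ∧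
      g (genericPoint S') = genericPoint S ∧ (V : Set S).Nonempty ∧ IsIso (g ∣_ V) ∧
      ∃ a' : pullback ψ g ⟶ C₂, a' ≫ f₂ = pullback.fst ψ g ≫ y := by
  obtain ⟨I, _, _, _, D, c, hc, hD, ⟨ec⟩⟩ := Groth.Agent.S7382.result n
  let E : Iᵒᵖ ⥤ Scheme.{u} := D ⋙ Over.forget S
  let cE : Cone E := (Over.forget S).mapCone c
  have hcE : IsLimit cE := isLimitOfPreserves (Over.forget S) hc
  let t : ∀ i, E.obj i ⟶ S := fun i => (D.obj i).hom
  have ht : ∀ {i j : Iᵒᵖ} (a : i ⟶ j), E.map a ≫ t j = t i := fun a => Over.w (D.map a)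
  have hp : ∀ j, cE.π.app j ≫ t j = c.pt.hom := fun j => Over.w (c.π.app j)
  have hX : IsPullback (pullback.fst ψ c.pt.hom) (pullback.snd ψ c.pt.hom) ψ c.pt.hom :=
    IsPullback.of_hasPullback _ _
  have hfin : ∀ i, IsFinite (t i) := fun i => (hD i).1
  have haff : ∀ {i j : Iᵒᵖ} (a : i ⟶ j), IsAffineHom (E.map a) := fun {i j} a => by
    have : IsAffineHom (E.map a ≫ t j) := by rw [ht]; infer_instance
    exact IsAffineHom.of_comp (E.map a) (t j)
  have hcomp : ∀ i, CompactSpace (E.obj i) := fun i => QuasiCompact.compactSpace_of_compactSpace (t i)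
  have hqs : ∀ i, QuasiSeparatedSpace (E.obj i) := fun i => quasiSeparatedSpace_of_quasiSeparated (t i)
  have : IsCofiltered Iᵒᵖ := inferInstance
  -- the lifting over the limit
  let l : pullback ψ c.pt.hom ⟶ pullback ψ n :=
    pullback.lift (pullback.fst ψ c.pt.hom) (pullback.snd ψ c.pt.hom ≫ ec.hom.left) (by
      rw [Category.assoc, pullback.condition]
      congr 1
      exact (Over.w ec.hom).symm)
  have hl : l ≫ pullback.fst ψ n = pullback.fst ψ c.pt.hom := pullback.lift_fst _ _ _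
  let P := Groth.Agent.Ega43.LimitDescend.pbDiagram t ht ψ
  let cP : Cone P := Groth.Agent.Ega43.LimitDescend.pbCone t ht ψ cE c.pt.hom hp _ _ hX
  have hcP : IsLimit cP :=
    Groth.Agent.Ega43.LimitDescend.isLimitPbCone t ht ψ cE c.pt.hom hp _ _ hX hcE
  have haffP : ∀ {i j : Iᵒᵖ} (a : i ⟶ j), IsAffineHom (P.map a) := fun {i j} a =>
    Groth.Agent.Ega43.LimitDescend.isAffineHom_pbDiagram_map t ht ψ a
  have hcompP : ∀ i, CompactSpace (P.obj i) := fun i =>
    Groth.Agent.Ega43.LimitDescend.compactSpace_pbDiagram_obj t ht ψ i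
  have hqsP : ∀ i, QuasiSeparatedSpace (P.obj i) := fun i =>
    Groth.Agent.Ega43.LimitDescend.quasiSeparatedSpace_pbDiagram_obj t ht ψ i
  let tP : P ⟶ (Functor.const Iᵒᵖ).obj C :=
    { app := fun j => pullback.fst ψ (t j) ≫ y
      naturality := fun i j a => by
        have h1 := Groth.Agent.Ega43.LimitDescend.pbDiagram_map_fst t ht ψ a
        exact ((Category.assoc _ _ _).symm.trans (congrArg (· ≫ y) h1)).trans
          (Category.comp_id _).symm }
  obtain ⟨j, aj, haj'⟩ : ∃ (j : Iᵒᵖ) (aj : pullback ψ (t j) ⟶ C₂),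
      aj ≫ f₂ = pullback.fst ψ (t j) ≫ y := by
    obtain ⟨j, aj, -, haj⟩ := Scheme.exists_π_app_comp_eq_of_locallyOfFinitePresentation P tP f₂
      cP hcP (l ≫ a) (by
        ext j : 2
        have h1 := Groth.Agent.Ega43.LimitDescend.pbCone_π_fst t ht ψ cE c.pt.hom hp _ _ hX j
        have h2 : (l ≫ a) ≫ f₂ = pullback.fst ψ c.pt.hom ≫ y := by
          rw [Category.assoc, ha, ← Category.assoc, hl]
        exact ((Category.assoc _ _ _).symm.trans (congrArg (· ≫ y) h1)).trans h2.symm)
    exact ⟨j, aj, haj⟩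
  -- the schematic image
  let m₀ : N ⟶ cE.pt := ec.inv.left
  let m : N ⟶ E.obj j := m₀ ≫ cE.π.app j
  have hm : m ≫ t j = n := by
    have h2 : m₀ ≫ c.pt.hom = n := Over.w ec.inv
    simp only [m, Category.assoc]
    rw [hp j, h2]
  have hmqc : QuasiCompact m := by
    have : QuasiCompact (m ≫ t j) := by rw [hm]; infer_instance
    exact QuasiCompact.of_comp m (t j)
  have hdom : IsSchemeTheoreticallyDominant m.toImage :=
    K263.ToImage.isSchemeTheoreticallyDominant_toImage m
  have hqc' : QuasiCompact m.toImage := by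
    have : QuasiCompact (m.toImage ≫ m.imageι) := by rw [Scheme.Hom.toImage_imageι]; exact hmqc
    exact QuasiCompact.of_comp m.toImage m.imageι
  have hint : IsIntegral m.image := isIntegral_of_dominant m.toImage
  have hgm : m.toImage ≫ m.imageι ≫ t j = n := by rw [← Category.assoc, Scheme.Hom.toImage_imageι, hm]
  have hgen : m.toImage (genericPoint N) = genericPoint m.image := apply_genericPoint_of_dominant m.toImage
  have hgen' : (m.imageι ≫ t j) (genericPoint m.image) = genericPoint S := by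
    rw [← hgen, ← Scheme.Hom.comp_apply, hgm, hn]
  have hfing : IsFinite (m.imageι ≫ t j) := inferInstance
  have hb : ∀ x, x = m.toImage (genericPoint N) →
      Function.Bijective ((m.imageι ≫ t j).residueFieldMap x).hom := by
    rintro _ rfl
    refine ⟨RingHom.injective _, ?_⟩
    have h1 := Scheme.residueFieldMap_comp m.toImage (m.imageι ≫ t j) (genericPoint N)
    have h2 : ∀ (n' : N ⟶ S) (_ : n' = n), Function.Surjective (n'.residueFieldMap (genericPoint N)).hom := by
      rintro _ rfl; exact hres.2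
    have h3 := h2 _ hgm
    have h4 : ⇑((m.toImage ≫ m.imageι ≫ t j).residueFieldMap (genericPoint N)).hom =
        ⇑(m.toImage.residueFieldMap (genericPoint N)).hom ∘
          ⇑((m.imageι ≫ t j).residueFieldMap (m.toImage (genericPoint N))).hom := by
      rw [h1]; rfl
    rw [h4] at h3
    exact Function.Surjective.of_comp_left h3 (RingHom.injective _)
  obtain ⟨V, hV, hVi⟩ := exists_isIso_restrict (m.imageι ≫ t j) hgen' (hb _ hgen.symm)
  let r : pullback ψ (m.imageι ≫ t j) ⟶ pullback ψ (t j) :=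
    pullback.lift (pullback.fst ψ (m.imageι ≫ t j)) (pullback.snd ψ (m.imageι ≫ t j) ≫ m.imageι) (by
      rw [Category.assoc, pullback.condition])
  have hr : r ≫ pullback.fst ψ (t j) = pullback.fst ψ (m.imageι ≫ t j) := pullback.lift_fst _ _ _
  refine ⟨m.image, hint, m.imageι ≫ t j, V, hfing, hgen', hV, hVi, r ≫ aj, ?_⟩
  rw [Category.assoc, haj', ← Category.assoc, hr]

/-- the marked part of a factorization through a modification -/
theorem exists_lift_closed {S S' C D Cst Dst Y : Scheme.{u}} [IsIntegral S] [IsIntegral S']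
    {φ : C ⟶ S} {i : D ⟶ C} [Mono i] {ist : Dst ⟶ Cst} [IsClosedImmersion ist] {fC : Cst ⟶ C}
    {fD : Dst ⟶ D} (w : ist ≫ fC = fD ≫ i) (hη : SSMod.IsEtaIso φ fC)
    (hηD : SSMod.IsEtaIso (i ≫ φ) fD) (g : S' ⟶ S) (hg : g (genericPoint S') = genericPoint S)
    (y : Y ⟶ S') [Flat y] (b : Y ⟶ D) (hb : b ≫ i ≫ φ = y ≫ g) (c : Y ⟶ Cst)
    (hc : c ≫ fC = b ≫ i) : ∃ d : Y ⟶ Dst, d ≫ ist = c ∧ d ≫ fD = b := by
  obtain ⟨m, hm⟩ := K263.EtaUniq.exists_fibre_hom (i ≫ φ) g hg y b hb
  let a := pullback.fst y (S'.fromSpecStalk (genericPoint S'))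
  have hdom : IsSchemeTheoreticallyDominant a :=
    K263.GenFibre.dominant_of_flat (IsPullback.of_hasPullback _ _)
  have hi : IsIso (pullback.snd fD (pullback.fst (i ≫ φ) (S.fromSpecStalk (genericPoint S)))) := hηD
  let dη : pullback y (S'.fromSpecStalk (genericPoint S')) ⟶ Dst := m ≫ inv (pullback.snd fD
    (pullback.fst (i ≫ φ) (S.fromSpecStalk (genericPoint S)))) ≫ pullback.fst fD _
  have hdη : dη ≫ fD = a ≫ b := by
    simp only [dη, Category.assoc]
    rw [pullback.condition, IsIso.inv_hom_id_assoc, hm]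
  have hkey : dη ≫ ist = a ≫ c := by
    have h1 : (dη ≫ ist) ≫ fC = (a ≫ c) ≫ fC := by
      rw [Category.assoc, w, ← Category.assoc, hdη, Category.assoc, Category.assoc, hc]
    have h2 : IsIso (pullback.snd fC ((a ≫ c) ≫ fC)) := by
      refine SSBasic.isIso_of_isEtaIso hη (IsPullback.of_hasPullback _ _)
        (m ≫ pullback.snd _ _) ?_
      calc ((a ≫ c) ≫ fC) ≫ φ = a ≫ (c ≫ fC) ≫ φ := by simp only [Category.assoc]
        _ = (a ≫ b) ≫ i ≫ φ := by rw [hc]; simp only [Category.assoc]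
        _ = (m ≫ pullback.fst (i ≫ φ) _) ≫ i ≫ φ := by rw [hm]
        _ = _ := by rw [Category.assoc, Category.assoc, pullback.condition]
    have h3 : ∀ u : pullback y (S'.fromSpecStalk (genericPoint S')) ⟶ Cst,
        u ≫ fC = (a ≫ c) ≫ fC → u = inv (pullback.snd fC ((a ≫ c) ≫ fC)) ≫ pullback.fst _ _ := by
      intro u hu
      let lu : pullback y (S'.fromSpecStalk (genericPoint S')) ⟶ pullback fC ((a ≫ c) ≫ fC) :=
        pullback.lift u (𝟙 _) (by rw [hu, Category.id_comp])
      have h4 : lu ≫ pullback.snd fC ((a ≫ c) ≫ fC) = 𝟙 _ := pullback.lift_snd _ _ _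
      have h5 : lu ≫ pullback.fst fC ((a ≫ c) ≫ fC) = u := pullback.lift_fst _ _ _
      have h6 : lu = inv (pullback.snd fC ((a ≫ c) ≫ fC)) := by
        rw [← cancel_mono (pullback.snd fC ((a ≫ c) ≫ fC)), h4, IsIso.inv_hom_id]
      rw [← h6, h5]
    rw [h3 _ h1, ← h3 _ rfl]
  have h7 : IsIso (pullback.fst c ist) :=
    K265.GenIso.isIso_of_factor (pullback.fst c ist) a (pullback.lift a dη hkey.symm)
      (pullback.lift_fst _ _ _)
  refine ⟨inv (pullback.fst c ist) ≫ pullback.snd c ist, ?_, ?_⟩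
  · rw [Category.assoc, ← pullback.condition, IsIso.inv_hom_id_assoc]
  · rw [← cancel_mono i, Category.assoc, Category.assoc, ← w, ← pullback.condition_assoc,
      IsIso.inv_hom_id_assoc, hc]

end K971.SSDescend
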