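import Groth.Agent.Ega43.DvrScheme
import Groth.Agent.EGA43.K891.CplDvrExt
import Mathlib.RingTheory.PowerSeries.Inverse
import Mathlib.AlgebraicGeometry.FunctionField

/-!
# Complete discrete valuation rings centred at a given point of an integral locally Noetherian scheme
-/

set_option autoImplicit false
universe u
open CategoryTheory CategoryTheory.Limits AlgebraicGeometry TopologicalSpace IsLocalRing

namespace K971.DvrPt

theorem exists_dvr_aux {Y : Scheme.{u}} [IsIntegral Y] [IsLocallyNoetherian Y] (y : Y) :
    ∃ (R : Type u) (_ : CommRing R) (_ : IsDomain R) (_ : IsDiscreteValuationRing R)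
      (g : Spec (CommRingCat.of R) ⟶ Y), g (closedPoint R) = y ∧
        g (⟨⊥, Ideal.isPrime_bot⟩ : PrimeSpectrum R) = genericPoint Y := by
  by_cases hy : genericPoint Y = y
  · subst hy
    let K := Y.residueField (genericPoint Y)
    have hR : ∀ z : Spec (CommRingCat.of (PowerSeries K)),
        (Spec.map (CommRingCat.ofHom (PowerSeries.C (R := K))) ≫
          Y.fromSpecResidueField (genericPoint Y)) z = genericPoint Y := by
      intro z
      rw [Scheme.Hom.comp_apply]
      exact Scheme.fromSpecResidueField_apply _ _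
    exact ⟨PowerSeries K, inferInstance, inferInstance, inferInstance,
      Spec.map (CommRingCat.ofHom (PowerSeries.C (R := K))) ≫
        Y.fromSpecResidueField (genericPoint Y), hR _, hR _⟩
  · have hs : genericPoint Y ⤳ y := genericPoint_specializes y
    obtain ⟨R, i1, i2, i3, i4, i5, g, hg1, hg2⟩ :=
      Groth.Agent.Ega43.DvrScheme.exists_dvr_of_specializes hs hy
        (Y.residueField (genericPoint Y)) (𝟙 _) (by
          rw [CommRingCat.hom_id]
          exact RingHom.FiniteType.essFiniteType (RingHom.FiniteType.id _))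
    refine ⟨R, i1, i2, i3, g, hg1, ?_⟩
    have h1 := congrArg (fun f : Spec (CommRingCat.of (Y.residueField (genericPoint Y))) ⟶ Y =>
      f (closedPoint (Y.residueField (genericPoint Y)))) hg2
    have h2 : (Spec.map (CommRingCat.ofHom (algebraMap R (Y.residueField (genericPoint Y)))) ≫ g)
        (closedPoint (Y.residueField (genericPoint Y))) =
        g (⟨⊥, Ideal.isPrime_bot⟩ : PrimeSpectrum R) := by
      rw [Scheme.Hom.comp_apply]
      congr 1
      apply PrimeSpectrum.ext
      change (maximalIdeal _).comap (algebraMap R (Y.residueField (genericPoint Y))) = ⊥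
      rw [IsLocalRing.maximalIdeal_eq_bot, ← RingHom.ker_eq_comap_bot,
        (RingHom.injective_iff_ker_eq_bot _).1 (IsFractionRing.injective R _)]
    rw [← h2]
    refine h1.trans ?_
    dsimp only
    rw [Scheme.Hom.comp_apply]
    exact Scheme.fromSpecResidueField_apply _ _

theorem exists_dvr {Y : Scheme.{u}} [IsIntegral Y] [IsLocallyNoetherian Y] (y : Y) :
    ∃ (R : Type u) (_ : CommRing R) (_ : IsDomain R) (_ : IsDiscreteValuationRing R)
      (g : Spec (CommRingCat.of R) ⟶ Y), IsAdicComplete (maximalIdeal R) R ∧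
        IsAlgClosed (ResidueField R) ∧ g (closedPoint R) = y ∧
        g (genericPoint (Spec (CommRingCat.of R))) = genericPoint Y := by
  obtain ⟨A, _, _, _, h, h1, h2⟩ := exists_dvr_aux y
  obtain ⟨B, _, _, _, φ, e, hc, ha, hi, he⟩ :=
    K891.CplDvrExt.exists_complete A (ResidueField A) (RingHom.id _)
  refine ⟨B, _, ‹_›, ‹_›, Spec.map (CommRingCat.ofHom φ) ≫ h, hc, ha, ?_, ?_⟩
  · have hl : IsLocalHom φ := by
      rw [((local_hom_TFAE φ).out 0 2 : IsLocalHom φ ↔ _)]
      rw [Ideal.map_le_iff_le_comap]
      intro a ha'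
      have h3 := congrArg (fun f : A →+* ResidueField B => f a) he
      have h4 : residue A a = 0 := (residue_eq_zero_iff a).2 ha'
      simp only [RingHom.comp_apply, h4, map_zero] at h3
      exact (residue_eq_zero_iff _).1 h3.symm
    rw [Scheme.Hom.comp_apply, ← h1]
    congr 1
    exact IsLocalRing.comap_closedPoint φ
  · rw [Scheme.Hom.comp_apply, ← h2]
    congr 1
    have h5 : genericPoint (Spec (CommRingCat.of B)) = (⟨⊥, Ideal.isPrime_bot⟩ : PrimeSpectrum B) :=
      AlgebraicGeometry.genericPoint_eq_bot_of_affine (CommRingCat.of B)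
    rw [h5]
    apply PrimeSpectrum.ext
    change (⊥ : Ideal B).comap φ = ⊥
    rw [← RingHom.ker_eq_comap_bot, (RingHom.injective_iff_ker_eq_bot _).1 hi]

end K971.DvrPt
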