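import Groth.Agent.SSMod.K971.EtaDesc
import Groth.Agent.SSMod.K971.Spread
import Groth.Agent.SSMod.K971.DvrGraph
import Groth.Agent.SSMod.K971.FacDVR
import Groth.Agent.S2155

/-!
# The hypothesis on discrete valuation rings over a model
-/

set_option autoImplicit false
universe u
open CategoryTheory CategoryTheory.Limits AlgebraicGeometry TopologicalSpace

namespace K971.DvrHomOf

open K971.SSRestrict K971.Exc K971.EtaDesc K971.Spread

theorem mem_nonsmoothPts_iff {S T X XT : Scheme.{u}} {φ : X ⟶ S} [Flat φ]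
    [LocallyOfFinitePresentation φ] {t : T ⟶ S} {p : XT ⟶ X} {φT : XT ⟶ T}
    (sq : IsPullback p φT φ t) (x : XT) :
    x ∈ DualGr.nonsmoothPts φT ↔ p x ∈ DualGr.nonsmoothPts φ := by
  have h1 : LocallyOfFinitePresentation φT := MorphismProperty.of_isPullback sq ‹_›
  have h2 := Groth.Agent.S2155.result φ t φT p sq (Or.inl ‹_›)
  have h3 : x ∈ φT.smoothLocus ↔ p x ∈ φ.smoothLocus := by rw [h2]; rfl
  exact not_congr h3

theorem disjoint_of_points {S S₁ T X D X₁ D₁ XT DT : Scheme.{u}} {φ : X ⟶ S} {i : D ⟶ X}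
    {φ₁ : X₁ ⟶ S₁} {i₁ : D₁ ⟶ X₁} {t : S ⟶ S₁} [Flat φ₁] [LocallyOfFinitePresentation φ₁]
    {p : X ⟶ X₁} {pD : D ⟶ D₁} (sq : IsPullback p φ φ₁ t) (sqD : IsPullback pD i i₁ p)
    (h : Disjoint (Set.range i.base) (DualGr.nonsmoothPts φ)) {g : T ⟶ S₁}
    (hg : ∀ z, ∃ s, t s = g z) {φT : XT ⟶ T} {iT : DT ⟶ XT} {q : XT ⟶ X₁} {qD : DT ⟶ D₁}
    (sqT : IsPullback q φT φ₁ g) (sqDT : IsPullback qD iT i₁ q) :
    Disjoint (Set.range iT.base) (DualGr.nonsmoothPts φT) := by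
  rw [Set.disjoint_left]
  rintro _ ⟨d, rfl⟩ hd
  have h1 : q (iT d) ∈ DualGr.nonsmoothPts φ₁ := (mem_nonsmoothPts_iff sqT _).1 hd
  have h2 : q (iT d) = i₁ (qD d) := by
    rw [← Scheme.Hom.comp_apply, ← Scheme.Hom.comp_apply, sqDT.w]
  obtain ⟨s, hs⟩ := hg (φT (iT d))
  have h3 : (i₁ ≫ φ₁) (qD d) = t s := by
    rw [hs, Scheme.Hom.comp_apply, ← h2, ← Scheme.Hom.comp_apply q, sqT.w, Scheme.Hom.comp_apply φT]
  obtain ⟨d', hd1, -⟩ := Scheme.exists_preimage_of_isPullback (sqD.paste_vert sq) (qD d) s h3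
  refine Set.disjoint_left.1 h ⟨d', rfl⟩ ((mem_nonsmoothPts_iff sq _).2 ?_)
  have h4 : p (i d') = i₁ (pD d') := by
    rw [← Scheme.Hom.comp_apply, ← Scheme.Hom.comp_apply, sqD.w]
  have h5 : p (i d') = i₁ (qD d) := h4.trans (congrArg i₁ hd1)
  change p (i d') ∈ _
  rw [h5, ← h2]
  exact h1

theorem exists_half {S₁ T C₁ D₁ Cs₁ Ds₁ CT DT CsT DsT : Scheme.{u}} [IsIntegral S₁]
    [IsNoetherian S₁] [IsIntegral T] {φ₁ : C₁ ⟶ S₁} {i₁ : D₁ ⟶ C₁} {f₁ : Cs₁ ⟶ C₁} {is₁ : Ds₁ ⟶ Cs₁}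
    {fD₁ : Ds₁ ⟶ D₁} (wf : is₁ ≫ f₁ = fD₁ ≫ i₁) (mp : SSMod.IsMPCurve φ₁ i₁)
    (ss : PreSS (f₁ ≫ φ₁) is₁) [IsProper f₁] (hη : SSMod.IsEtaIso φ₁ f₁)
    (hηD : SSMod.IsEtaIso (i₁ ≫ φ₁) fD₁) {g : T ⟶ S₁}
    (hg : g (genericPoint T) = genericPoint S₁) {φT : CT ⟶ T} {q : CT ⟶ C₁}
    (sq : IsPullback q φT φ₁ g) {iT : DT ⟶ CT} {qD : DT ⟶ D₁} (sqD : IsPullback qD iT i₁ q)
    {fT : CsT ⟶ CT} {qs : CsT ⟶ Cs₁} (sqf : IsPullback qs fT f₁ q) {isT : DsT ⟶ CsT}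
    {qDs : DsT ⟶ Ds₁} (sqis : IsPullback qDs isT is₁ qs)
    (disj : Disjoint (Set.range isT.base) (DualGr.nonsmoothPts (fT ≫ φT))) :
    ∃ fDT : DsT ⟶ DT, SSMod.IsSemistableModification φT iT isT fT fDT ∧ SSMod.IsEtaIso φT fT ∧
      SSMod.IsEtaIso (iT ≫ φT) fDT := by
  have a1 : Flat φ₁ := mp.1
  have a2 : LocallyOfFinitePresentation φ₁ := mp.2.1
  have a4 : IsClosedImmersion i₁ := mp.2.2.2.2.2.1
  have a5 : Flat (i₁ ≫ φ₁) := mp.2.2.2.2.2.2.1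
  have b1 : Flat (f₁ ≫ φ₁) := ss.1.1
  have b4 : IsClosedImmersion is₁ := ss.1.2.2.2.2.2.1
  have b5 : Flat (is₁ ≫ f₁ ≫ φ₁) := ss.1.2.2.2.2.2.2.1
  have iC : IsLocallyNoetherian C₁ := LocallyOfFiniteType.isLocallyNoetherian φ₁
  have iD : IsLocallyNoetherian D₁ := LocallyOfFiniteType.isLocallyNoetherian (i₁ ≫ φ₁)
  have hfD : IsProper fD₁ := by
    have h1 : IsProper (fD₁ ≫ i₁) := by rw [← wf]; infer_instance
    exact MorphismProperty.of_postcomp @IsProper (W' := @IsSeparated) fD₁ i₁ inferInstance h1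
  have b6 : Flat (fD₁ ≫ i₁ ≫ φ₁) := by
    rw [← Category.assoc, ← wf, Category.assoc]
    exact b5
  have w : (qDs ≫ fD₁) ≫ i₁ = (isT ≫ fT) ≫ q := by
    rw [Category.assoc, ← wf, ← Category.assoc, sqis.w, Category.assoc, sqf.w, Category.assoc]
  let fDT : DsT ⟶ DT := sqD.lift (qDs ≫ fD₁) (isT ≫ fT) w
  have h1 : fDT ≫ qD = qDs ≫ fD₁ := sqD.lift_fst _ _ _
  have h2 : fDT ≫ iT = isT ≫ fT := sqD.lift_snd _ _ _
  have sqfD : IsPullback qDs fDT fD₁ qD := by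
    refine IsPullback.of_bot (t := sqD) ?_ h1.symm
    rw [h2, ← wf]
    exact sqis.paste_vert sqf
  have hm1 : SSMod.IsModification fT := EtaNbhd.isModification_baseChange hη hg sq sqf
  have hm2 : SSMod.IsModification fDT :=
    EtaNbhd.isModification_baseChange (φ := i₁ ≫ φ₁) hηD hg (sqD.paste_vert sq) sqfD
  have hMP : SSMod.IsMPCurve (fT ≫ φT) isT :=
    SSBaseChange.isMPCurve_of_isPullback ss.1 (sqf.paste_vert sq) sqis
  refine ⟨fDT, ⟨⟨h2.symm, hMP, hm1, hm2⟩, ⟨hMP, ?_, ?_, disj⟩⟩, ?_, ?_⟩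
  · exact Groth.Agent.Sga7.H734.NodalBC.isNodalFamily_of_isPullback (sqf.paste_vert sq) ss.2.1
  · exact MorphismProperty.of_isPullback (sqis.paste_vert (sqf.paste_vert sq)) ss.2.2
  · exact SSBaseChange.isEtaIso_baseChange hη hg sq.w sqf
  · exact SSBaseChange.isEtaIso_baseChange (φ := i₁ ≫ φ₁) hηD hg (sqD.paste_vert sq).w sqfD

theorem eq_or_eq (R : Type u) [CommRing R] [IsDomain R] [IsDiscreteValuationRing R]
    (z : Spec (CommRingCat.of R)) : z = IsLocalRing.closedPoint R ∨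
      z = genericPoint (Spec (CommRingCat.of R)) := by
  have h : genericPoint (Spec (CommRingCat.of R)) = (⟨⊥, Ideal.isPrime_bot⟩ : PrimeSpectrum R) :=
    genericPoint_eq_bot_of_affine (CommRingCat.of R)
  rw [h]
  let z' : PrimeSpectrum R := z
  have hz : z'.asIdeal.IsPrime := z'.isPrime
  by_cases h0 : z'.asIdeal = ⊥
  · exact Or.inr (PrimeSpectrum.ext h0)
  · left
    have h1 : z'.asIdeal.IsMaximal := hz.isMaximal h0
    exact PrimeSpectrum.ext (IsLocalRing.eq_maximalIdeal h1)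

theorem dvrHom_of_model (H : SSUses.FacDVR.{u}) {S S₁ C D Cs Ds C' D' : Scheme.{u}} [IsIntegral S]
    [IsIntegral S₁] [IsNoetherian S₁] {φ : C ⟶ S} {i : D ⟶ C} {fC : Cs ⟶ C} {is : Ds ⟶ Cs}
    {fD : Ds ⟶ D} {gC : C' ⟶ C} {i' : D' ⟶ C'} {gD : D' ⟶ D} {t : S ⟶ S₁}
    (ht : t (genericPoint S) = genericPoint S₁) (m : Model φ i fC is fD gC i' gD S₁ t)
    (hst : SSMod.IsStableModification φ i is fC fD) (hη : SSMod.IsEtaIso φ fC)
    (hηD : SSMod.IsEtaIso (i ≫ φ) fD) (hss : SSMod.IsSemistableModification φ i i' gC gD)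
    (hη' : SSMod.IsEtaIso φ gC) (hηD' : SSMod.IsEtaIso (i ≫ φ) gD) (s : S) :
    DvrGraph.DvrHom m.φ₁ m.g₁ m.f₁ (t s) := by
  intro R _ _ _ _ _ g hg0 hg1
  have hgz : ∀ z : Spec (CommRingCat.of R), ∃ s', t s' = g z := by
    intro z
    rcases eq_or_eq R z with rfl | rfl
    · exact ⟨s, hg0.symm⟩
    · exact ⟨genericPoint S, ht.trans hg1.symm⟩
  have a1 : LocallyOfFinitePresentation m.φ₁ := m.mp.2.1
  have a3 : IsProper m.f₁ := m.pf
  have a4 : IsProper m.g₁ := m.pg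
  have a5 : IsAffineHom m.φ₁ := m.aff
  have a6 : IsClosedImmersion m.is₁ := m.ssf.1.2.2.2.2.2.1
  have b1 : Flat (m.f₁ ≫ m.φ₁) := m.ssf.1.1
  have b2 : LocallyOfFinitePresentation (m.f₁ ≫ m.φ₁) := m.ssf.1.2.1
  have c1 : Flat (m.g₁ ≫ m.φ₁) := m.ssg.1.1
  have c2 : LocallyOfFinitePresentation (m.g₁ ≫ m.φ₁) := m.ssg.1.2.1
  have e1 := isEtaIso_descend ht m.sq m.sqf hη
  have e2 := isEtaIso_descend ht (m.sqi.paste_vert m.sq) m.sqfD hηD
  have e3 := isEtaIso_descend ht m.sq m.sqg hη'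
  have e4 := isEtaIso_descend ht (m.sqi.paste_vert m.sq) m.sqgD hηD'
  -- base change to `R`
  let q := pullback.fst m.φ₁ g
  let φT := pullback.snd m.φ₁ g
  have sq : IsPullback q φT m.φ₁ g := IsPullback.of_hasPullback _ _
  let iT := pullback.snd m.i₁ q
  have sqi : IsPullback (pullback.fst m.i₁ q) iT m.i₁ q := IsPullback.of_hasPullback _ _
  let fT := pullback.snd m.f₁ q
  have sqf : IsPullback (pullback.fst m.f₁ q) fT m.f₁ q := IsPullback.of_hasPullback _ _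
  let isT := pullback.snd m.is₁ (pullback.fst m.f₁ q)
  have sqis : IsPullback (pullback.fst m.is₁ (pullback.fst m.f₁ q)) isT m.is₁
      (pullback.fst m.f₁ q) := IsPullback.of_hasPullback _ _
  let gT := pullback.snd m.g₁ q
  have sqg : IsPullback (pullback.fst m.g₁ q) gT m.g₁ q := IsPullback.of_hasPullback _ _
  let iT' := pullback.snd m.i₁' (pullback.fst m.g₁ q)
  have sqi' : IsPullback (pullback.fst m.i₁' (pullback.fst m.g₁ q)) iT' m.i₁'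
      (pullback.fst m.g₁ q) := IsPullback.of_hasPullback _ _
  have hmp : SSMod.IsMPCurve φT iT := SSBaseChange.isMPCurve_of_isPullback m.mp sq sqi
  obtain ⟨fDT, h1, h2, h3⟩ := exists_half m.wf m.mp m.ssf e1 e2 hg1 sq sqi sqf sqis
    (disjoint_of_points (m.sqf.paste_vert m.sq) m.sqis hst.1.2.2.2.2 hgz (sqf.paste_vert sq) sqis)
  obtain ⟨gDT, h1', h2', h3'⟩ := exists_half m.wg m.mp m.ssg e3 e4 hg1 sq sqi sqg sqi'
    (disjoint_of_points (m.sqg.paste_vert m.sq) m.sqi' hss.2.2.2.2 hgz (sqg.paste_vert sq) sqi')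
  have hno : SSMod.NoExcComp φT isT fT := by
    rw [noExcComp_iff]
    intro z
    rcases eq_or_eq R z with rfl | rfl
    · refine noExcAt_baseChange sq sqf (SSRestrict.range_of_isPullback sqis.flip) _ ?_
      rw [hg0]
      refine noExcAt_map m.sq m.sqf ?_ m.is₁.isClosedEmbedding.isClosed_range s
        ((noExcComp_iff _ _ _).1 hst.2 s)
      rintro _ ⟨d, rfl⟩
      refine ⟨m.pDs d, ?_⟩
      rw [← Scheme.Hom.comp_apply, ← Scheme.Hom.comp_apply, m.sqis.w]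
    · intro Ω _ _ g' hg' Z _
      apply not_isExcComp_of_isoOver
      obtain ⟨k, hk⟩ := EtaNbhd.exists_fac_fromSpecStalk g' _ hg'
      rw [← hk]
      exact IsoOver.comp (show IsoOver fT φT _ from h2) k
  have haff : IsAffine (pullback m.φ₁ g) := isAffine_of_isAffineHom (pullback.snd m.φ₁ g)
  obtain ⟨hC', hh⟩ := H R φT iT hmp isT fT fDT ⟨h1, hno⟩ h2 h3 iT' gT gDT h1' h2' h3'
  let l₀ : pullback (m.g₁ ≫ m.φ₁) g ⟶ pullback m.φ₁ g :=
    pullback.lift (pullback.fst _ _ ≫ m.g₁) (pullback.snd _ _) (by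
      rw [Category.assoc, pullback.condition])
  have hl₀ : l₀ ≫ q = pullback.fst _ _ ≫ m.g₁ := pullback.lift_fst _ _ _
  let l : pullback (m.g₁ ≫ m.φ₁) g ⟶ pullback m.g₁ q := pullback.lift (pullback.fst _ _) l₀ hl₀.symm
  have hl1 : l ≫ pullback.fst m.g₁ q = pullback.fst _ _ := pullback.lift_fst _ _ _
  refine ⟨l ≫ hC' ≫ pullback.fst m.f₁ q, ?_⟩
  calc (l ≫ hC' ≫ pullback.fst m.f₁ q) ≫ m.f₁ = l ≫ hC' ≫ pullback.fst m.f₁ q ≫ m.f₁ := by
        simp only [Category.assoc]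
    _ = l ≫ hC' ≫ fT ≫ q := by rw [sqf.w]
    _ = l ≫ (hC' ≫ fT) ≫ q := by rw [Category.assoc]
    _ = l ≫ gT ≫ q := by rw [hh]
    _ = l ≫ pullback.fst m.g₁ q ≫ m.g₁ := by rw [sqg.w]
    _ = (l ≫ pullback.fst m.g₁ q) ≫ m.g₁ := by rw [Category.assoc]
    _ = _ := by rw [hl1]

end K971.DvrHomOf
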