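import Groth.Agent.FlatMor.K115.MdlProp
import Groth.Agent.Subtr.K835.Ref
import Groth.Agent.S9196
import Groth.Agent.Cyc.K308.Split
import Groth.Agent.Cyc.K306.RelDimIso
import Groth.Agent.Synt.K563.NodLim

/-!
# Eventual properties of finitely presented models
-/

set_option autoImplicit false
set_option backward.isDefEq.respectTransparency false
set_option backward.defeqAttrib.useBackward true
set_option linter.unusedSectionVars false
universe u v w
open CategoryTheory AlgebraicGeometry Limits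

namespace K971.Evt

open Groth.Agent Groth.Agent.CalgA.LimFP Groth.Agent.Ega43.LimitDescend Groth.Agent.Ega43.LimRed
  K115.MdlProp

/-- `P` holds at some stage, and passes to later stages. -/
structure Ev {J : Type v} [Category.{w} J] (P : J → Prop) : Prop where
  ex : ∃ j, P j
  mono : ∀ {i j : J} (_ : j ⟶ i), P i → P j

theorem Ev.and {J : Type v} [Category.{w} J] [IsCofiltered J] {P Q : J → Prop} (hP : Ev P)
    (hQ : Ev Q) : Ev (fun j => P j ∧ Q j) where
  ex := by
    obtain ⟨i, hi⟩ := hP.ex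
    obtain ⟨j, hj⟩ := hQ.ex
    obtain ⟨k, a, b, -⟩ := IsCofilteredOrEmpty.cone_objs i j
    exact ⟨k, hP.mono a hi, hQ.mono b hj⟩
  mono a h := ⟨hP.mono a h.1, hQ.mono a h.2⟩

variable {I : Type u} [SmallCategory I] [IsCofiltered I] {D : I ⥤ Scheme.{u}} {c : Cone D}
  [∀ (i j : I) (f : i ⟶ j), IsAffineHom (D.map f)]
  [∀ i, CompactSpace (D.obj i)] [∀ i, QuasiSeparatedSpace (D.obj i)]
  {A' B' : Scheme.{u}} {f' : A' ⟶ c.pt} {g' : B' ⟶ c.pt}

theorem ev_mdl (hc : IsLimit c) {A' : Scheme.{u}} (f' : A' ⟶ c.pt) [LocallyOfFinitePresentation f']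
    [QuasiCompact f'] [QuasiSeparated f'] : Ev (fun i => Nonempty (Mdl f' i)) where
  ex := Mdl.exists_model hc f'
  mono := fun a ⟨M⟩ => ⟨M.bc a⟩

theorem ev_hom (hc : IsLimit c) {i : I} (M : Mdl f' i) (N : Mdl g' i) (φ' : A' ⟶ B')
    (w' : φ' ≫ g' = f') :
    Ev (fun j : Over i => Nonempty (Mdl.Hom φ' (M.bc j.hom) (N.bc j.hom))) where
  ex := by
    obtain ⟨j, a, h⟩ := Mdl.exists_hom hc M N φ' w'
    exact ⟨Over.mk a, h⟩
  mono := by
    rintro j k m ⟨u⟩
    obtain ⟨-, s, -⟩ := M.exists_bc_bc j.hom m.left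
    obtain ⟨r, -⟩ := N.exists_bc_bc j.hom m.left
    have h : k.hom = m.left ≫ j.hom := (Over.w m).symm
    rw [h]
    exact ⟨((s.comp (u.bc m.left)).comp r).cast (by simp)⟩

section

variable {i : I} {φ' : A' ⟶ B'} {M : Mdl f' i} {N : Mdl g' i} (u v : Mdl.Hom φ' M N)

theorem mono_hom {P : MorphismProperty Scheme.{u}} [P.IsStableUnderBaseChange] {j k : Over i}
    (m : k ⟶ j) (h : P (u.bc j.hom).φ) : P (u.bc k.hom).φ := by
  obtain ⟨t, -, -, ht⟩ := exists_isPullback_bc N j.hom m.left k.hom (Over.w m)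
  exact K835.Ref.of_isPullback_of_isPullback (u.isPullback_bc j.hom) (u.isPullback_bc k.hom) t ht h

theorem ev_prop_hom (hc : IsLimit c) {P : MorphismProperty Scheme.{u}} [P.IsStableUnderBaseChange]
    (hP : DescendsLim P) (h : P φ') : Ev (fun j : Over i => P (u.bc j.hom).φ) where
  ex := by
    obtain ⟨j, a, h⟩ := Hom.exists_prop hP hc u h
    exact ⟨Over.mk a, h⟩
  mono m h := mono_hom u m h

theorem ev_eq (hc : IsLimit c) : Ev (fun j : Over i => (u.bc j.hom).φ = (v.bc j.hom).φ) where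
  ex := by
    obtain ⟨j, a, h⟩ := Mdl.exists_hom_eq hc u v
    exact ⟨Over.mk a, congrArg (fun w => w.φ) h⟩
  mono := by
    intro j k m h
    obtain ⟨t, -, -, ht⟩ := exists_isPullback_bc M j.hom m.left k.hom (Over.w m)
    apply pullback.hom_ext
    · rw [← (u.isPullback_bc k.hom).w, ← (v.isPullback_bc k.hom).w, ← ht, Category.assoc,
        Category.assoc, (u.isPullback_bc j.hom).w, (v.isPullback_bc j.hom).w, h]
    · exact (u.bc k.hom).w.trans (v.bc k.hom).w.symm

end

theorem mono_mdl {P : MorphismProperty Scheme.{u}} [P.IsStableUnderBaseChange] {i : I}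
    (M : Mdl f' i) {j k : Over i} (m : k ⟶ j) (h : P (M.bc j.hom).f) : P (M.bc k.hom).f := by
  obtain ⟨t, h1, -, -⟩ := exists_isPullback_bc M j.hom m.left k.hom (Over.w m)
  exact P.of_isPullback h1 h

theorem ev_prop_mdl (hc : IsLimit c) {P : MorphismProperty Scheme.{u}} [P.IsStableUnderBaseChange]
    (hP : DescendsLim P) {i : I} (M : Mdl f' i) (h : P f') : Ev (fun j : Over i => P (M.bc j.hom).f) where
  ex := by
    obtain ⟨j, a, h⟩ := Mdl.exists_prop hP hc M h
    exact ⟨Over.mk a, h⟩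
  mono m h := mono_mdl M m h

theorem ev_prop_one (hc : IsLimit c) {P : MorphismProperty Scheme.{u}} [P.IsStableUnderBaseChange]
    (hP : DescendsOne @LocallyOfFinitePresentation P) {i : I} (M : Mdl f' i) (h : P f') :
    Ev (fun j : Over i => P (M.bc j.hom).f) where
  ex := by
    have h1 := M.lfp
    have h2 := M.qc
    have h3 := M.qs
    obtain ⟨j, a, h⟩ := hP D c hc i M.f h1 (by
      rw [← M.h.isoPullback_inv_snd]
      exact (P.cancel_left_of_respectsIso _ _).2 h)
    exact ⟨Over.mk a, h⟩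
  mono m h := mono_mdl M m h

/-- Morphisms locally of finite type of relative dimension `d`. -/
def RelDim (d : ℕ) : MorphismProperty Scheme.{u} := fun _ _ f =>
  LocallyOfFiniteType f ∧ Cyc.HasRelDim f d

instance (d : ℕ) : (RelDim.{u} d).IsStableUnderBaseChange :=
  ⟨fun {_ _ _ _ _ _ _ _} sq h => by
    have := h.1
    exact ⟨MorphismProperty.of_isPullback sq h.1, K308.Grp.hasRelDim_of_isPullback sq.flip h.2⟩⟩

theorem descendsOne_relDim (d : ℕ) : DescendsOne @LocallyOfFinitePresentation.{u} (RelDim d) := by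
  intro I _ _ D c hc _ _ _ i₀ X₀ f₀ hf₀ _ _ hP
  have : LocallyOfFinitePresentation f₀ := hf₀
  have h1 : CompactSpace X₀ := QuasiCompact.compactSpace_of_compactSpace f₀
  have h2 : QuasiSeparatedSpace X₀ := quasiSeparatedSpace_of_quasiSeparated f₀
  obtain ⟨i, φ, Xi, Yi, fi, gi, pY, pX, hY, hX, hd⟩ := Groth.Agent.S9196.result D c hc i₀ f₀ (𝟙 _) d
    (pullback.snd f₀ (c.π.app i₀)) (𝟙 _) (c.π.app i₀) (pullback.fst _ _)
    (IsPullback.of_vert_isIso (by simp)) (IsPullback.of_hasPullback _ _) hP.2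
  refine ⟨i, φ, ?_⟩
  have h3 : (RelDim d) fi := ⟨MorphismProperty.of_isPullback hX inferInstance, hd⟩
  have h4 : IsIso gi := hY.isIso_snd_of_isIso
  have h5 : inv gi ≫ pY = D.map φ := by
    rw [IsIso.inv_comp_eq, ← hY.w, Category.comp_id]
  exact K835.Ref.of_isPullback_of_isPullback hX (IsPullback.of_hasPullback f₀ (D.map φ)) (inv gi) h5 h3

end K971.Evt
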