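import Groth.Agent.SSMod.K971.AffCase
import Groth.Agent.SSMod.K971.Mono
import Groth.Agent.SSMod.K971.Descend
import Groth.Agent.Ega3B.NormalBirational

/-!
# S15273 from the case of complete discrete valuation rings
-/

set_option autoImplicit false
universe u
open CategoryTheory CategoryTheory.Limits AlgebraicGeometry TopologicalSpace

namespace K971.FacOfDVR

open K971.SSRestrict K971.SSUses

theorem local_case (H : FacDVR.{u}) {S C D Cst Dst C' D' : Scheme.{u}} [IsIntegral S]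
    [CompactSpace S] [QuasiSeparatedSpace S]
    (φ : C ⟶ S) (i : D ⟶ C) (hC : SSMod.IsMPCurve φ i)
    (ist : Dst ⟶ Cst) (fC : Cst ⟶ C) (fD : Dst ⟶ D) (hst : SSMod.IsStableModification φ i ist fC fD)
    (hη : SSMod.IsEtaIso φ fC) (hηD : SSMod.IsEtaIso (i ≫ φ) fD)
    (i' : D' ⟶ C') (gC : C' ⟶ C) (gD : D' ⟶ D) (hss : SSMod.IsSemistableModification φ i i' gC gD)
    (hη' : SSMod.IsEtaIso φ gC) (hηD' : SSMod.IsEtaIso (i ≫ φ) gD)
    (A : Type u) [CommRing A] [IsDomain A] [IsIntegrallyClosed A]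
    (j : Spec (CommRingCat.of A) ⟶ S) [IsOpenImmersion j] {U : Scheme.{u}} [IsAffine U]
    (k : U ⟶ C) [IsOpenImmersion k] (a : U ⟶ Spec (CommRingCat.of A)) (w : a ≫ j = k ≫ φ) :
    ∃ h : pullback gC k ⟶ Cst, h ≫ fC = pullback.fst gC k ≫ gC := by
  have hj := genericPoint_eq_of_isOpenImmersion j
  have hc : QuasiCompact (k ≫ φ) := inferInstance
  have hs : QuasiSeparated (k ≫ φ) := inferInstance
  have hlf : LocallyOfFinitePresentation φ := hC.2.1
  have sq := IsPullback.of_hasPullback i k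
  have sqf := IsPullback.of_hasPullback fC k
  have sqg := IsPullback.of_hasPullback gC k
  have sqfD := IsPullback.of_hasPullback fD (pullback.fst i k)
  have sqgD := IsPullback.of_hasPullback gD (pullback.fst i k)
  obtain ⟨is, h1⟩ := exists_restrict_isStableModification hC hst hc hs sq sqf sqfD
  obtain ⟨i₁, h2⟩ := SSMono.exists_restrict_isSemistableModification hss hc hs sq sqg sqgD
  have h0 := isMPCurve_restrict hC sq hc hs
  have e1 := SSBasic.isEtaIso_of_isPullback hη sqf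
  have e2 := SSBasic.isEtaIso_of_isPullback hηD sqfD
  have e3 := SSBasic.isEtaIso_of_isPullback hη' sqg
  have e4 := SSBasic.isEtaIso_of_isPullback hηD' sqgD
  rw [← Category.assoc, sq.w, Category.assoc] at e2 e4
  have hlf1 : LocallyOfFiniteType (k ≫ φ) := inferInstance
  rw [← w] at h0 h1 h2 e1 e2 e3 e4 hlf1
  rw [← Category.assoc] at e2 e4
  obtain ⟨h, hh⟩ := AffCase.exists_factorization H A a (pullback.snd i k)
    (SSMono.isMPCurve_of_comp h0) is _ _ (SSMono.isStableModification_of_comp h1)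
    (SSMono.isEtaIso_of_comp hj e1) (SSMono.isEtaIso_of_comp hj e2) i₁ _ _
    (SSMono.isSemistableModification_of_comp h2) (SSMono.isEtaIso_of_comp hj e3)
    (SSMono.isEtaIso_of_comp hj e4)
  refine ⟨h ≫ pullback.fst fC k, ?_⟩
  rw [Category.assoc, pullback.condition, ← Category.assoc, hh, pullback.condition]

theorem exists_factorization (H : FacDVR.{u}) {S C D Cst Dst C' D' : Scheme.{u}} [IsIntegral S]
    [CompactSpace S] [QuasiSeparatedSpace S] (hS : Pi1.IsNormalScheme S)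
    (φ : C ⟶ S) (i : D ⟶ C) (hC : SSMod.IsMPCurve φ i)
    (ist : Dst ⟶ Cst) (fC : Cst ⟶ C) (fD : Dst ⟶ D) (hst : SSMod.IsStableModification φ i ist fC fD)
    (hη : SSMod.IsEtaIso φ fC) (hηD : SSMod.IsEtaIso (i ≫ φ) fD)
    (i' : D' ⟶ C') (gC : C' ⟶ C) (gD : D' ⟶ D) (hss : SSMod.IsSemistableModification φ i i' gC gD)
    (hη' : SSMod.IsEtaIso φ gC) (hηD' : SSMod.IsEtaIso (i ≫ φ) gD) :
    ∃ h : C' ⟶ Cst, h ≫ fC = gC := by
  have p1 : IsProper fC := hst.1.1.2.2.1.1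
  have hfl : Flat (gC ≫ φ) := hss.2.1.1
  refine EtaDesc.exists_glue φ gC fC hη fun x => ?_
  obtain ⟨S₀, hS₀, hx₀, -⟩ := exists_isAffineOpen_mem_and_subset (x := φ (gC x)) (U := ⊤) trivial
  obtain ⟨U, hU, hxU, hUS⟩ := exists_isAffineOpen_mem_and_subset (x := gC x) (U := φ ⁻¹ᵁ S₀) hx₀
  have : Nonempty S₀ := ⟨⟨_, hx₀⟩⟩
  have hUa : IsAffine U := hU
  have hic : IsIntegrallyClosed Γ(S, S₀) :=
    Groth.Agent.Ega3B.NormalBirational.isIntegrallyClosed_section (fun y => (hS y).2) S₀ hS₀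
  let j : Spec (CommRingCat.of Γ(S, S₀)) ⟶ S := hS₀.fromSpec
  have hj : IsOpenImmersion j := inferInstanceAs (IsOpenImmersion hS₀.fromSpec)
  have hr : Set.range (U.ι ≫ φ).base ⊆ Set.range j.base := by
    change _ ⊆ Set.range hS₀.fromSpec
    rw [hS₀.range_fromSpec]
    rintro _ ⟨z, rfl⟩
    exact hUS z.2
  obtain ⟨h, hh⟩ := local_case H φ i hC ist fC fD hst hη hηD i' gC gD hss hη' hηD' Γ(S, S₀) j U.ι
    (IsOpenImmersion.lift j (U.ι ≫ φ) hr) (IsOpenImmersion.lift_fac _ _ _)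
  refine ⟨gC ⁻¹ᵁ U, hxU, pullback.lift (gC ⁻¹ᵁ U).ι (gC ∣_ U) (morphismRestrict_ι gC U).symm ≫ h, ?_⟩
  rw [Category.assoc, hh, pullback.lift_fst_assoc]

theorem fac_of_facDVR (H : FacDVR.{u}) : Fac.{u} := by
  intro S C D Cst Dst C' D' _ _ _ hS φ i hC ist fC fD hst hη hηD i' gC gD hss hη' hηD'
  have hcl : IsClosedImmersion ist := hst.1.1.2.1.2.2.2.2.2.1
  have hcli : IsClosedImmersion i := hC.2.2.2.2.2.1
  have hpr : IsProper fC := hst.1.1.2.2.1.1
  have hfl : Flat (gC ≫ φ) := hss.2.1.1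
  have hflD : Flat (i' ≫ gC ≫ φ) := hss.2.1.2.2.2.2.2.2.1
  obtain ⟨c, hc⟩ := exists_factorization H hS φ i hC ist fC fD hst hη hηD i' gC gD hss hη' hηD'
  have hw := hss.1.1
  obtain ⟨d, hd1, hd2⟩ := SSDescend.exists_lift_closed hst.1.1.1 hη hηD (𝟙 S) rfl
    (i' ≫ gC ≫ φ) gD (by rw [Category.comp_id, ← Category.assoc, ← hw, Category.assoc]) (i' ≫ c)
    (by rw [Category.assoc, hc, hw])
  refine ⟨c, d, ⟨hd1.symm, hc, hd2⟩, ?_⟩
  intro kC kD hk1 hk2 hk3
  have hη₁ : Mono (pullback.snd fC (pullback.fst φ (S.fromSpecStalk (genericPoint S)))) := by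
    have : IsIso (pullback.snd fC (pullback.fst φ (S.fromSpecStalk (genericPoint S)))) := hη
    infer_instance
  have hkC : kC = c := K263.EtaUniq.hom_ext φ fC hη₁ (𝟙 S) rfl (gC ≫ φ) gC
    (by rw [Category.comp_id]) _ _ hk2 hc
  refine ⟨hkC, ?_⟩
  rw [← cancel_mono ist, ← hk1, hkC, hd1]

end K971.FacOfDVR
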