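import Groth.Agent.SSMod.K971.Basic
import Groth.Agent.SSMod.K971.Restrict
import Groth.Agent.S0388
import Groth.Agent.S1297
import Groth.Agent.S9389

/-!
# No connected component of a geometric fibre is contracted

`K971.NoContr.eq_empty`: `S` integral, `C` locally Noetherian over `S`, `g : C' ⟶ C` proper, an isomorphism on
generic fibres, with `C' ⟶ S` flat of pure relative dimension one.  Then no nonempty open and closed subset of a
fibre of `C' ⟶ S` over a field-valued point is mapped to a single point of the fibre of `C`.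
-/

set_option autoImplicit false
universe u
open CategoryTheory CategoryTheory.Limits AlgebraicGeometry TopologicalSpace

namespace K971.NoContr

/-- The topological input: a closed surjective map with connected fibres, followed by a map with finite discrete
fibres. -/
theorem exists_isOpen_singleton {X N C : Type*} [TopologicalSpace X] [TopologicalSpace N]
    [TopologicalSpace C] (a : X → N) (b : N → C) (hcl : IsClosedMap a)
    (hs : Function.Surjective a) (hconn : ∀ n, IsPreconnected (a ⁻¹' {n})) (y : C)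
    (hfin : (b ⁻¹' {y}).Finite) (hcp : ∀ n ∈ b ⁻¹' {y}, ∀ m ∈ b ⁻¹' {y}, n ⤳ m → n = m)
    (T : Set X) (hT : IsClopen T) (hy : ∀ x ∈ T, b (a x) = y) (x : X) (hx : x ∈ T) :
    IsOpen ({a x} : Set N) := by
  have hsat : ∀ x ∈ T, ∀ x', a x' = a x → x' ∈ T := fun x hx x' hx' =>
    (hconn (a x)).subset_isClopen hT ⟨x, rfl, hx⟩ (show x' ∈ a ⁻¹' {a x} from hx')
  have hopen : IsOpen (a '' T) := by
    rw [← isClosed_compl_iff]
    have : (a '' T)ᶜ = a '' Tᶜ := by
      ext n
      constructor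
      · intro hn
        obtain ⟨z, rfl⟩ := hs n
        exact ⟨z, fun hz => hn ⟨z, hz, rfl⟩, rfl⟩
      · rintro ⟨z, hz, rfl⟩ ⟨w, hw, hwz⟩
        exact hz (hsat w hw z hwz.symm)
    rw [this]
    exact hcl _ hT.isOpen.isClosed_compl
  have hsub : a '' T ⊆ b ⁻¹' {y} := by
    rintro _ ⟨z, hz, rfl⟩
    exact hy z hz
  have hfT : (a '' T).Finite := hfin.subset hsub
  -- the complement of `a x` in `a '' T` is closed in `a '' T`
  have hcl2 : IsClosed (closure (a '' T \ {a x})) := isClosed_closure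
  have heq : ({a x} : Set N) = a '' T ∩ (closure (a '' T \ {a x}))ᶜ := by
    ext n
    constructor
    · rintro rfl
      refine ⟨⟨x, hx, rfl⟩, fun h => ?_⟩
      have hf : (a '' T \ {a x}).Finite := hfT.subset Set.sdiff_subset
      rw [← Set.biUnion_of_singleton (a '' T \ {a x}), hf.closure_biUnion] at h
      simp only [Set.mem_iUnion] at h
      obtain ⟨m, hm, hm'⟩ := h
      have h1 : m ⤳ a x := specializes_iff_mem_closure.2 hm'
      exact hm.2 (hcp m (hsub hm.1) (a x) (hsub ⟨x, hx, rfl⟩) h1)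
    · rintro ⟨h1, h2⟩
      by_contra h3
      exact h2 (subset_closure ⟨h1, h3⟩)
  rw [heq]
  exact hopen.inter hcl2.isOpen_compl

section Main

variable {S C C' N : Scheme.{u}}

theorem eq_of_specializes_of_isFinite {X Y : Scheme.{u}} (b : X ⟶ Y) [LocallyQuasiFinite b] {y : Y}
    {n m : X} (hn : b n = y) (hm : b m = y) (h : n ⤳ m) : n = m := by
  have hd := b.isDiscrete_preimage_singleton y
  rw [isDiscrete_iff_discreteTopology] at hd
  have hn' : n ∈ b ⁻¹' {y} := hn
  have hm' : m ∈ b ⁻¹' {y} := hm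
  have h1 : (⟨n, hn'⟩ : (b ⁻¹' {y} : Set X)) ⤳ ⟨m, hm'⟩ :=
    Topology.IsInducing.subtypeVal.specializes_iff.1 h
  exact congrArg Subtype.val h1.eq

theorem eq_empty_aux [IsIntegral S] (φ : C ⟶ S) [LocallyOfFiniteType φ] (a : C' ⟶ N) (b : N ⟶ C)
    [IsProper a] [GeometricallyConnected a] [IsFinite b] [Flat ((a ≫ b) ≫ φ)]
    [LocallyOfFinitePresentation ((a ≫ b) ≫ φ)] (hd : Cyc.HasRelDim ((a ≫ b) ≫ φ) 1)
    (hη : SSMod.IsEtaIso φ (a ≫ b)) {T : Scheme.{u}} (t : T ⟶ S)
    (Z : Set ↥(pullback ((a ≫ b) ≫ φ) t)) (hZ : IsClopen Z) (y : ↥(pullback φ t))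
    (hy : ∀ x ∈ Z, (CInt.baseChangeOver (a ≫ b) φ t) x = y) : Z = ∅ := by
  by_contra hne
  obtain ⟨x, hx⟩ := Set.nonempty_iff_ne_empty.2 hne
  let p := pullback.fst ((a ≫ b) ≫ φ) t
  let at' : pullback ((a ≫ b) ≫ φ) t ⟶ pullback (b ≫ φ) t :=
    pullback.lift (pullback.fst _ _ ≫ a) (pullback.snd _ _) (by
      rw [← pullback.condition, Category.assoc, Category.assoc])
  have hat1 : at' ≫ pullback.fst (b ≫ φ) t = p ≫ a := pullback.lift_fst _ _ _
  have hat2 : at' ≫ pullback.snd (b ≫ φ) t = pullback.snd _ _ := pullback.lift_snd _ _ _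
  have sqa : IsPullback p at' a (pullback.fst (b ≫ φ) t) := by
    refine IsPullback.of_bot ?_ hat1.symm (IsPullback.of_hasPullback (b ≫ φ) t)
    rw [hat2, ← Category.assoc]
    exact IsPullback.of_hasPullback _ _
  have sqb := SSRestrict.isPullback_baseChangeOver b φ t
  have hcomp : at' ≫ CInt.baseChangeOver b φ t = CInt.baseChangeOver (a ≫ b) φ t := by
    apply pullback.hom_ext
    · calc (at' ≫ CInt.baseChangeOver b φ t) ≫ pullback.fst φ t
          = at' ≫ CInt.baseChangeOver b φ t ≫ pullback.fst φ t := Category.assoc _ _ _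
        _ = at' ≫ pullback.fst (b ≫ φ) t ≫ b :=
          congrArg (at' ≫ ·) (SSRestrict.baseChangeOver_fst b φ t)
        _ = (p ≫ a) ≫ b := by rw [← Category.assoc, hat1]
        _ = p ≫ a ≫ b := Category.assoc _ _ _
        _ = _ := (SSRestrict.baseChangeOver_fst (a ≫ b) φ t).symm
    · calc (at' ≫ CInt.baseChangeOver b φ t) ≫ pullback.snd φ t
          = at' ≫ CInt.baseChangeOver b φ t ≫ pullback.snd φ t := Category.assoc _ _ _
        _ = at' ≫ pullback.snd (b ≫ φ) t :=
          congrArg (at' ≫ ·) (SSRestrict.baseChangeOver_snd b φ t)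
        _ = _ := hat2
        _ = _ := (SSRestrict.baseChangeOver_snd (a ≫ b) φ t).symm
  have iap : IsProper at' := MorphismProperty.of_isPullback sqa ‹_›
  have iag : GeometricallyConnected at' := MorphismProperty.of_isPullback sqa ‹_›
  have ibf : IsFinite (CInt.baseChangeOver b φ t) := MorphismProperty.of_isPullback sqb ‹_›
  have hopen : IsOpen ({at' x} : Set ↥(pullback (b ≫ φ) t)) := by
    refine exists_isOpen_singleton at' (CInt.baseChangeOver b φ t)
      at'.isClosedMap at'.surjective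
      (fun n => (at'.isConnected_preimage_singleton n).isPreconnected) y
      ((CInt.baseChangeOver b φ t).finite_preimage_singleton y)
      (fun n hn m hm h => eq_of_specializes_of_isFinite _ hn hm h) Z hZ (fun z hz => ?_) x hx
    rw [← Scheme.Hom.comp_apply, hcomp]
    exact hy z hz
  have hb1 : LocallyOfFiniteType (b ≫ φ) := inferInstance
  have hqf : (pullback.snd (b ≫ φ) t).QuasiFiniteAt (at' x) := by
    rw [Scheme.Hom.quasiFiniteAt_iff_isOpen_singleton_asFiber]
    have h1 := hopen.preimage ((pullback.snd (b ≫ φ) t).fiberι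
      ((pullback.snd (b ≫ φ) t) (at' x))).continuous
    convert h1 using 1
    ext z
    simp only [Set.mem_singleton_iff, Set.mem_preimage]
    constructor
    · rintro rfl
      exact Scheme.Hom.fiberι_asFiber _ _
    · intro h
      apply ((pullback.snd (b ≫ φ) t).fiberι ((pullback.snd (b ≫ φ) t) (at' x))).isEmbedding.injective
      rw [h]
      exact (Scheme.Hom.fiberι_asFiber _ _).symm
  have hq2 : (b ≫ φ).QuasiFiniteAt (pullback.fst (b ≫ φ) t (at' x)) := by
    have h1 := Groth.Agent.S9389.result (b ≫ φ) t _ _ (IsPullback.of_hasPullback (b ≫ φ) t)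
    have h2 : at' x ∈ {x' : ↥(pullback (b ≫ φ) t) | (pullback.snd (b ≫ φ) t).QuasiFiniteAt x'} := hqf
    rw [h1] at h2
    exact h2
  -- the open locus
  let V : C'.Opens := a ⁻¹ᵁ (b ≫ φ).quasiFiniteLocus
  have hxV : p x ∈ V := by
    have h3 : a (p x) = pullback.fst (b ≫ φ) t (at' x) := by
      rw [← Scheme.Hom.comp_apply, ← Scheme.Hom.comp_apply, hat1]
    change a (p x) ∈ (b ≫ φ).quasiFiniteLocus
    rw [h3]
    exact hq2
  have himg : IsOpen (((a ≫ b) ≫ φ) '' (V : Set C')) := ((a ≫ b) ≫ φ).isOpenMap _ V.2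
  obtain ⟨v, hvV, hv⟩ : genericPoint S ∈ ((a ≫ b) ≫ φ) '' (V : Set C') :=
    (genericPoint_spec S).mem_open_set_iff himg |>.2 ⟨_, ⟨trivial, ⟨_, hxV, rfl⟩⟩⟩
  -- `a ≫ b` is quasi-finite at `v`
  have hq3 : (a ≫ b).QuasiFiniteAt v := by
    rw [Scheme.Hom.quasiFiniteAt_iff_isOpen_singleton_asFiber]
    have hφv : φ ((a ≫ b) v) = genericPoint S := by
      rw [← Scheme.Hom.comp_apply]
      exact hv
    have hsq := IsPullback.of_hasPullback (a ≫ b) (C.fromSpecResidueField ((a ≫ b) v))
    obtain ⟨w, hw⟩ : ∃ w : Spec (C.residueField ((a ≫ b) v)) ⟶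
        Spec (S.presheaf.stalk (genericPoint S)),
        C.fromSpecResidueField ((a ≫ b) v) ≫ φ = w ≫ S.fromSpecStalk (genericPoint S) := by
      rw [← hφv]
      refine ⟨Spec.map (φ.residueFieldMap ((a ≫ b) v)) ≫ Spec.map (S.residue _), ?_⟩
      rw [Category.assoc]
      change _ = Spec.map (φ.residueFieldMap ((a ≫ b) v)) ≫ S.fromSpecResidueField _
      rw [Scheme.Hom.SpecMap_residueFieldMap_fromSpecResidueField]
    have hi : IsIso ((a ≫ b).fiberToSpecResidueField ((a ≫ b) v)) :=
      SSBasic.isIso_of_isEtaIso hη hsq w hw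
    have : Subsingleton ↥((a ≫ b).fiber ((a ≫ b) v)) :=
      ((a ≫ b).fiberToSpecResidueField ((a ≫ b) v)).homeomorph.injective.subsingleton
    have h4 : ({(a ≫ b).asFiber v} : Set ↥((a ≫ b).fiber ((a ≫ b) v))) = Set.univ :=
      Set.eq_univ_of_forall fun z => Subsingleton.elim _ _
    rw [h4]
    exact isOpen_univ
  have hq4 : a.QuasiFiniteAt v := Scheme.Hom.quasiFiniteAt_comp_iff.1 hq3
  have hq5 : (a ≫ b ≫ φ).QuasiFiniteAt v := by
    have h5 : (b ≫ φ).QuasiFiniteAt (a v) := hvV
    have h6 : ((a ≫ b ≫ φ).stalkMap v).hom =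
        (a.stalkMap v).hom.comp ((b ≫ φ).stalkMap (a v)).hom :=
      congrArg CommRingCat.Hom.hom (Scheme.Hom.stalkMap_comp a (b ≫ φ) v)
    change ((a ≫ b ≫ φ).stalkMap v).hom.QuasiFinite
    rw [h6]
    exact RingHom.QuasiFinite.comp hq4 h5
  have hq6 : ((a ≫ b) ≫ φ).QuasiFiniteAt v := by rw [Category.assoc]; exact hq5
  have hclo := hq6.isClopen_singleton_asFiber
  have hcomp : ({((a ≫ b) ≫ φ).asFiber v} : Set _) ∈
      irreducibleComponents ↥(((a ≫ b) ≫ φ).fiber (((a ≫ b) ≫ φ) v)) := by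
    refine ⟨isIrreducible_singleton, fun W hW hle => ?_⟩
    have h7 : ((a ≫ b) ≫ φ).asFiber v ∈ W := hle rfl
    have h8 := hW.isPreirreducible.isPreconnected.subset_isClopen hclo ⟨_, h7, rfl⟩
    exact h8
  have hdim := hd _ _ hcomp
  have h9 : topologicalKrullDim ({((a ≫ b) ≫ φ).asFiber v} :
      Set ↥(((a ≫ b) ≫ φ).fiber (((a ≫ b) ≫ φ) v))) ≤ 0 := by
    exact topologicalKrullDim_zero_of_discreteTopology _
  rw [hdim] at h9
  norm_num at h9

/-- `S` integral, `C` locally Noetherian and locally of finite type over `S`, `g : C' ⟶ C` proper and an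
isomorphism on generic fibres, `C' ⟶ S` flat of pure relative dimension one.  No nonempty open and closed subset
of `C' ×_S T` (`T` arbitrary) is mapped to a single point of `C ×_S T`. -/
theorem eq_empty [IsIntegral S] [IsLocallyNoetherian C] (φ : C ⟶ S) [LocallyOfFiniteType φ]
    (g : C' ⟶ C) [IsProper g] [Flat (g ≫ φ)] [LocallyOfFinitePresentation (g ≫ φ)]
    (hd : Cyc.HasRelDim (g ≫ φ) 1) (hη : SSMod.IsEtaIso φ g) {T : Scheme.{u}} (t : T ⟶ S)
    (Z : Set ↥(pullback (g ≫ φ) t)) (hZ : IsClopen Z) (y : ↥(pullback φ t))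
    (hy : ∀ x ∈ Z, (CInt.baseChangeOver g φ t) x = y) : Z = ∅ := by
  obtain ⟨N, a, b, rfl, ha, hb⟩ : ∃ (N : Scheme.{u}) (a : C' ⟶ N) (b : N ⟶ C), a ≫ b = g ∧
      GeometricallyConnected a ∧ IsFinite b :=
    ⟨g.normalization, g.toNormalization, g.fromNormalization,
      g.toNormalization_fromNormalization, (Groth.Agent.S0388.result g).1,
      Groth.Agent.S1297.result g⟩
  have : IsProper a := MorphismProperty.of_postcomp @IsProper (W' := @IsSeparated) a b
    inferInstance inferInstance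
  exact eq_empty_aux φ a b hd hη t Z hZ y hy

end Main

end K971.NoContr
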