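import Groth.Agent.SSMod.K971.Restrict
import Groth.Agent.S5985
import Groth.Agent.S9335
import Mathlib.AlgebraicGeometry.AlgClosed.Basic

/-!
# A rigidity lemma

`K971.Rigid.isClopen_finite`: `Ω` algebraically closed, `X`, `T` locally of finite type over `Ω`, `T` connected,
`q : W ⟶ X` proper and `r : X × T ⟶ W` a surjective morphism over `X`.  The set of points of `X` over which `q` has
finite fibres is open and closed.
-/

set_option autoImplicit false
universe u
open CategoryTheory CategoryTheory.Limits AlgebraicGeometry TopologicalSpace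

namespace K971.Rigid

theorem finite_iff {W X : Scheme.{u}} (q : W ⟶ X) [LocallyOfFiniteType q] [QuasiCompact q] (x : X) :
    (q ⁻¹' {x}).Finite ↔ ∀ w, q w = x → q.QuasiFiniteAt w := by
  constructor
  · rintro h w rfl
    exact Groth.Agent.S5985.quasiFiniteAt_of_finite q w h
  · intro h
    refine (Groth.Agent.S9335.result q x).subset ?_
    intro w hw
    exact ⟨hw, h w hw⟩

theorem isOpen_finite {W X : Scheme.{u}} (q : W ⟶ X) [IsProper q] :
    IsOpen {x : X | (q ⁻¹' {x}).Finite} := by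
  have h1 : {x : X | (q ⁻¹' {x}).Finite} = (q '' {w | q.QuasiFiniteAt w}ᶜ)ᶜ := by
    ext x
    rw [Set.mem_ofPred_eq, finite_iff]
    constructor
    · rintro h ⟨w, hw, rfl⟩
      exact hw (h w rfl)
    · intro h w hw
      by_contra h'
      exact h ⟨w, h', hw⟩
  rw [h1]
  exact (q.isClosedMap _ q.isOpen_quasiFiniteAt.isClosed_compl).isOpen_compl

/-- A connected finite fibre is a single point. -/
theorem subsingleton_of_finite {W X : Scheme.{u}} (q : W ⟶ X) [LocallyOfFiniteType q]
    [QuasiCompact q] (x : X) (h : (q ⁻¹' {x}).Finite) (hc : _root_.IsPreconnected (q ⁻¹' {x})) :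
    (q ⁻¹' {x}).Subsingleton := by
  have h1 := (finite_iff q x).1 h
  have : DiscreteTopology (q ⁻¹' {x} : Set W) := by
    rw [discreteTopology_iff_isOpen_singleton]
    rintro ⟨w, hw'⟩
    have hw : q w = x := hw'
    subst hw
    have h2 := Scheme.Hom.quasiFiniteAt_iff_isOpen_singleton_asFiber.1 (h1 w rfl)
    have h3 := (q.fiberHomeo (q w)).isOpenMap _ h2
    rw [Set.image_singleton] at h3
    have h4 : (q.fiberHomeo (q w)) (q.asFiber w) = ⟨w, hw'⟩ :=
      (q.fiberHomeo (q w)).apply_symm_apply _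
    rw [h4] at h3
    exact h3
  exact hc.isDiscrete_iff_subsingleton.1 (isDiscrete_iff_discreteTopology.2 this)

section Alg

variable {Ω : Type u} [Field Ω] {X T V W : Scheme.{u}}
  {sX : X ⟶ Spec (CommRingCat.of Ω)} {sT : T ⟶ Spec (CommRingCat.of Ω)} {v : V ⟶ X} {τ : V ⟶ T}

/-- the slice `T ⟶ X × T` over a rational point of `X` -/
theorem exists_slice (sq : IsPullback v τ sX sT) (x : Spec (CommRingCat.of Ω) ⟶ X)
    (hx : x ≫ sX = 𝟙 _) : ∃ i : T ⟶ V, i ≫ v = sT ≫ x ∧ i ≫ τ = 𝟙 T ∧
      Set.range i = v ⁻¹' {x (IsLocalRing.closedPoint Ω)} := by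
  have hw : (sT ≫ x) ≫ sX = 𝟙 T ≫ sT := by
    rw [Category.assoc, hx, Category.comp_id, Category.id_comp]
  have h1 : sq.lift (sT ≫ x) (𝟙 T) hw ≫ v = sT ≫ x := sq.lift_fst _ _ _
  have h2 : sq.lift (sT ≫ x) (𝟙 T) hw ≫ τ = 𝟙 T := sq.lift_snd _ _ _
  refine ⟨sq.lift (sT ≫ x) (𝟙 T) hw, h1, h2, ?_⟩
  have h3 : IsPullback sT (sq.lift (sT ≫ x) (𝟙 T) hw) x v := by
    refine IsPullback.of_bot (v₂₁ := τ) (v₂₂ := sX) (h₃₁ := sT) ?_ h1.symm sq
    rw [h2, hx]
    exact IsPullback.id_vert sT
  have h4 := SSRestrict.range_of_isPullback h3.flip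
  refine h4.trans ?_
  congr 1
  ext z
  constructor
  · rintro ⟨a, rfl⟩
    exact congrArg x (Subsingleton.elim a _)
  · rintro rfl
    exact ⟨_, rfl⟩

/-- the coincidence locus of two sections of a separated morphism -/
theorem isClosed_eqLocus (q : W ⟶ X) [IsSeparated q] (a b : X ⟶ W) (ha : a ≫ q = 𝟙 X)
    (hb : b ≫ q = 𝟙 X) : ∃ C : Set X, IsClosed C ∧ (∀ x ∈ C, a x = b x) ∧
      ∀ (Z : Scheme.{u}) (z : Z ⟶ X), z ≫ a = z ≫ b → Set.range z ⊆ C := by
  let l : X ⟶ pullback q q := pullback.lift a b (by rw [ha, hb])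
  have hl1 : l ≫ pullback.fst q q = a := pullback.lift_fst _ _ _
  have hl2 : l ≫ pullback.snd q q = b := pullback.lift_snd _ _ _
  refine ⟨l ⁻¹' Set.range (pullback.diagonal q), ?_, ?_, ?_⟩
  · exact (pullback.diagonal q).isClosedEmbedding.isClosed_range.preimage l.continuous
  · rintro x ⟨w, hw⟩
    rw [← hl1, ← hl2, Scheme.Hom.comp_apply, Scheme.Hom.comp_apply, ← hw,
      ← Scheme.Hom.comp_apply, ← Scheme.Hom.comp_apply, pullback.diagonal_fst,
      pullback.diagonal_snd]
  · rintro Z z hz _ ⟨t, rfl⟩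
    refine ⟨(z ≫ a) t, ?_⟩
    have h1 : (z ≫ a) ≫ pullback.diagonal q = z ≫ l := by
      apply pullback.hom_ext
      · rw [Category.assoc, pullback.diagonal_fst, Category.comp_id, Category.assoc, hl1]
      · rw [Category.assoc, pullback.diagonal_snd, Category.comp_id, Category.assoc, hl2, hz]
    rw [← Scheme.Hom.comp_apply, h1, Scheme.Hom.comp_apply]

variable [IsAlgClosed Ω]

theorem isClopen_finite [LocallyOfFiniteType sX] [LocallyOfFiniteType sT] [ConnectedSpace T]
    (sq : IsPullback v τ sX sT) (q : W ⟶ X) [IsProper q] (r : V ⟶ W) [Surjective r]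
    (hr : r ≫ q = v) : IsClopen {x : X | (q ⁻¹' {x}).Finite} := by
  let o := IsLocalRing.closedPoint Ω
  have iXJ : JacobsonSpace X := LocallyOfFiniteType.jacobsonSpace sX
  have iTJ : JacobsonSpace T := LocallyOfFiniteType.jacobsonSpace sT
  have iWJ : JacobsonSpace W := LocallyOfFiniteType.jacobsonSpace (q ≫ sX)
  -- the sections
  have hσ : ∀ t : {t : Spec (CommRingCat.of Ω) ⟶ T // t ≫ sT = 𝟙 _}, ∃ σ : X ⟶ W, σ ≫ q = 𝟙 X ∧
      ∀ (x : Spec (CommRingCat.of Ω) ⟶ X) (_ : x ≫ sX = 𝟙 _) (i : T ⟶ V), i ≫ v = sT ≫ x →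
        i ≫ τ = 𝟙 T → x ≫ σ = t.1 ≫ i ≫ r := by
    rintro ⟨t, ht⟩
    have hw : 𝟙 X ≫ sX = (sX ≫ t) ≫ sT := by
      rw [Category.assoc, ht, Category.comp_id, Category.id_comp]
    have h1 : sq.lift (𝟙 X) (sX ≫ t) hw ≫ v = 𝟙 X := sq.lift_fst _ _ _
    have h2 : sq.lift (𝟙 X) (sX ≫ t) hw ≫ τ = sX ≫ t := sq.lift_snd _ _ _
    refine ⟨sq.lift (𝟙 X) (sX ≫ t) hw ≫ r, by rw [Category.assoc, hr, h1], ?_⟩
    intro x hx i hi1 hi2
    rw [← Category.assoc, ← Category.assoc t]
    congr 1
    apply sq.hom_ext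
    · rw [Category.assoc, h1, Category.comp_id, Category.assoc, hi1, ← Category.assoc, ht,
        Category.id_comp]
    · rw [Category.assoc, h2, Category.assoc, hi2, Category.comp_id, ← Category.assoc, hx,
        Category.id_comp]
  choose σ hσ1 hσ2 using hσ
  choose C hC1 hC2 hC3 using fun (t t' : {t : Spec (CommRingCat.of Ω) ⟶ T // t ≫ sT = 𝟙 _}) =>
    isClosed_eqLocus q (σ t) (σ t') (hσ1 t) (hσ1 t')
  let E : Set X := ⋂ (t) (t'), C t t'
  have hE : IsClosed E := isClosed_iInter fun t => isClosed_iInter fun t' => hC1 t t'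
  let K : Set X := {x : X | (q ⁻¹' {x}).Finite}
  have hK : IsOpen K := isOpen_finite q
  -- the key equivalence at closed points
  have key1 : ∀ x ∈ K, IsClosed ({x} : Set X) → x ∈ E := by
    intro x hxK hxc
    let x' := pointOfClosedPoint sX x hxc
    have hx' : x' ≫ sX = 𝟙 _ := pointOfClosedPoint_comp sX x hxc
    have hx'o : x' o = x := pointOfClosedPoint_apply sX x hxc _
    obtain ⟨i, hi1, hi2, hi3⟩ := exists_slice sq x' hx'
    have hcon : _root_.IsPreconnected (q ⁻¹' {x}) := by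
      have h1 : q ⁻¹' {x} = Set.range (i ≫ r) := by
        have h2 : v = r ≫ q := hr.symm
        ext w
        obtain ⟨z, rfl⟩ := r.surjective w
        have h3 : q (r z) = v z := by rw [← Scheme.Hom.comp_apply, hr]
        constructor
        · intro hz
          have h4 : z ∈ Set.range i := by
            rw [hi3]
            change v z = x' o
            rw [← h3, hx'o]
            exact hz
          obtain ⟨y, rfl⟩ := h4
          exact ⟨y, Scheme.Hom.comp_apply _ _ _⟩
        · rintro ⟨y, hy⟩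
          change q (r z) = x
          rw [← hy, ← Scheme.Hom.comp_apply, Category.assoc, hr, hi1, Scheme.Hom.comp_apply, ← hx'o]
          exact congrArg x' (Subsingleton.elim _ _)
      rw [h1]
      exact isPreconnected_range (i ≫ r).continuous
    have hsub := subsingleton_of_finite q x hxK hcon
    simp only [E, Set.mem_iInter]
    intro t t'
    have h5 : x' ≫ σ t = x' ≫ σ t' := by
      refine ext_of_apply_closedPoint_eq (q ≫ sX) ?_ ?_ ?_
      · rw [Category.assoc, ← Category.assoc (σ t), hσ1 t, Category.id_comp, hx']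
      · rw [Category.assoc, ← Category.assoc (σ t'), hσ1 t', Category.id_comp, hx']
      · have h6 : ∀ s, q ((x' ≫ σ s) o) = x := by
          intro s
          rw [← Scheme.Hom.comp_apply, Category.assoc, hσ1 s, Category.comp_id, hx'o]
        exact hsub (h6 t) (h6 t')
    exact hC3 t t' _ x' h5 ⟨o, hx'o⟩
  have key2 : ∀ x ∈ E, IsClosed ({x} : Set X) → x ∈ K := by
    intro x hxE hxc
    let x' := pointOfClosedPoint sX x hxc
    have hx' : x' ≫ sX = 𝟙 _ := pointOfClosedPoint_comp sX x hxc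
    have hx'o : x' o = x := pointOfClosedPoint_apply sX x hxc _
    obtain ⟨i, hi1, hi2, hi3⟩ := exists_slice sq x' hx'
    -- closed points of the fibre
    have hcl : ∀ w : W, q w = x → IsClosed ({w} : Set W) →
        ∃ t, w = σ t x := by
      intro w hw hwc
      have h1 : (Set.range i ∩ r ⁻¹' {w}).Nonempty := by
        obtain ⟨z, hz⟩ := r.surjective w
        refine ⟨z, ?_, hz⟩
        rw [hi3]
        change v z = x' o
        rw [hx'o, ← hr, Scheme.Hom.comp_apply, hz, hw]
      obtain ⟨_, ⟨y, rfl⟩, hy⟩ := h1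
      have h2 : ((i ≫ r) ⁻¹' {w}).Nonempty := ⟨y, by
        change (i ≫ r) y = w
        rw [Scheme.Hom.comp_apply]
        exact hy⟩
      obtain ⟨t₀, ht₀, ht₀c⟩ := nonempty_inter_closedPoints h2
        (hwc.preimage (i ≫ r).continuous).isLocallyClosed
      refine ⟨⟨pointOfClosedPoint sT t₀ ht₀c, pointOfClosedPoint_comp sT t₀ ht₀c⟩, ?_⟩
      have h3 := hσ2 ⟨pointOfClosedPoint sT t₀ ht₀c, pointOfClosedPoint_comp sT t₀ ht₀c⟩ x' hx' i
        hi1 hi2
      have h4 := congrArg (fun f : Spec (CommRingCat.of Ω) ⟶ W => f o) h3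
      dsimp only at h4
      rw [Scheme.Hom.comp_apply, hx'o, Scheme.Hom.comp_apply, pointOfClosedPoint_apply] at h4
      rw [h4]
      exact ht₀.symm
    have hsing : ∀ w w' : W, q w = x → q w' = x → IsClosed ({w} : Set W) →
        IsClosed ({w'} : Set W) → w = w' := by
      intro w w' hw hw' hwc hwc'
      obtain ⟨t, rfl⟩ := hcl w hw hwc
      obtain ⟨t', rfl⟩ := hcl w' hw' hwc'
      simp only [E, Set.mem_iInter] at hxE
      exact hC2 t t' x (hxE t t')
    have hFc : IsClosed (q ⁻¹' {x}) := hxc.preimage q.continuous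
    have h5 := JacobsonSpace.closure_inter_closedPoints_eq_closure hFc.isLocallyClosed
    rw [hFc.closure_eq] at h5
    by_cases hne : (q ⁻¹' {x} ∩ closedPoints W).Nonempty
    · obtain ⟨w, hw, hwc⟩ := hne
      have h6 : q ⁻¹' {x} ∩ closedPoints W = {w} := by
        ext w'
        constructor
        · rintro ⟨h7, h8⟩
          exact hsing _ _ h7 hw h8 hwc
        · rintro rfl
          exact ⟨hw, hwc⟩
      rw [h6, (show IsClosed ({w} : Set W) from hwc).closure_eq] at h5
      change (q ⁻¹' {x}).Finite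
      rw [← h5]
      exact Set.finite_singleton w
    · rw [Set.not_nonempty_iff_eq_empty] at hne
      rw [hne, closure_empty] at h5
      change (q ⁻¹' {x}).Finite
      rw [← h5]
      exact Set.finite_empty
  have hKE : K = E := by
    apply Set.Subset.antisymm
    · intro x hx
      by_contra hxE
      obtain ⟨y, ⟨hy1, hy2⟩, hyc⟩ := nonempty_inter_closedPoints
        (Z := K ∩ Eᶜ) ⟨x, hx, hxE⟩ (hK.inter hE.isOpen_compl).isLocallyClosed
      exact hy2 (key1 y hy1 hyc)
    · intro x hx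
      by_contra hxK
      obtain ⟨y, ⟨hy1, hy2⟩, hyc⟩ := nonempty_inter_closedPoints
        (Z := E ∩ Kᶜ) ⟨x, hx, hxK⟩ (hE.inter hK.isClosed_compl).isLocallyClosed
      exact hy2 (key2 y hy1 hyc)
  refine ⟨?_, hK⟩
  change IsClosed K
  rw [hKE]
  exact hE

end Alg

end K971.Rigid
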