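import Groth.Agent.SSMod.K971.DvrGraph
import Groth.Agent.SSMod.K971.ConnFib
import Groth.Agent.SSMod.K971.Rigid
import Groth.Agent.SSMod.K971.FinFib
import Groth.Agent.SSMod.K971.NoContr
import Groth.Agent.SSMod.K971.StableBC

/-!
# The closure of the graph is quasi-finite over `C'`
-/

set_option autoImplicit false
universe u
open CategoryTheory CategoryTheory.Limits AlgebraicGeometry TopologicalSpace

namespace K971.FinFibres

open K971.SSRestrict K971.DvrGraph

theorem finite_fibres {S C C' Cst S' W W₀ : Scheme.{u}} [IsIntegral S] [IsNoetherian S]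
    (hS : Pi1.IsNormalScheme S) (φ : C ⟶ S) [LocallyOfFiniteType φ] [QuasiCompact φ]
    (gC : C' ⟶ C) (fC : Cst ⟶ C) [IsProper gC] [IsProper fC] [Flat (gC ≫ φ)]
    (hgeom : ∀ x, Groth.Agent.Ega43.GeomAt.GeomAt (fun R _ => _root_.IsReduced R) (gC ≫ φ) x)
    (hd : Cyc.HasRelDim (gC ≫ φ) 1) (hdst : Cyc.HasRelDim (fC ≫ φ) 1)
    (hη : SSMod.IsEtaIso φ gC) [IsIntegral S'] (b : S' ⟶ S) [IsProper b] (U : S.Opens)
    (hU : genericPoint S ∈ U) [IsIso (b ∣_ U)]
    (j : W ⟶ pullback (pullback.fst gC fC ≫ gC ≫ φ) b) [IsClosedImmersion j]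
    (hfl : Flat (j ≫ pullback.snd (pullback.fst gC fC ≫ gC ≫ φ) b))
    (hlf : LocallyOfFinitePresentation (j ≫ pullback.snd (pullback.fst gC fC ≫ gC ≫ φ) b))
    (hj : SSMod.IsEtaIso (pullback.snd (pullback.fst gC fC ≫ gC ≫ φ) b) j)
    (hq : SSMod.IsEtaIso (pullback.snd (gC ≫ φ) b) (toFst φ gC fC b j))
    (ι₀ : W₀ ⟶ pullback gC fC) [IsClosedImmersion ι₀] (r : W ⟶ W₀) [Surjective r]
    (hr : r ≫ ι₀ = j ≫ pullback.fst (pullback.fst gC fC ≫ gC ≫ φ) b)
    (s₀ : S) (H : DvrHom φ gC fC s₀) (x : C') (hx : (gC ≫ φ) x = s₀) :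
    ((ι₀ ≫ pullback.fst gC fC) ⁻¹' {x}).Finite := by
  have iC : IsLocallyNoetherian C := LocallyOfFiniteType.isLocallyNoetherian φ
  have iC' : IsLocallyNoetherian C' := LocallyOfFiniteType.isLocallyNoetherian gC
  have iS' : IsLocallyNoetherian S' := LocallyOfFiniteType.isLocallyNoetherian b
  have ilf : LocallyOfFinitePresentation (gC ≫ φ) := inferInstance
  have hb := (ConnFib.map_genericPoint b U hU).1
  let Ω := AlgebraicClosure (S.residueField s₀)
  let s : Spec (CommRingCat.of Ω) ⟶ S :=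
    Spec.map (CommRingCat.ofHom (algebraMap (S.residueField s₀) Ω)) ≫ S.fromSpecResidueField s₀
  have hs : ∀ y, s y = s₀ := fun y => by
    change (Spec.map _ ≫ S.fromSpecResidueField s₀) y = s₀
    rw [Scheme.Hom.comp_apply]
    exact Scheme.fromSpecResidueField_apply _ _
  let T := pullback b s
  let t : T ⟶ S' := pullback.fst b s
  let sT : T ⟶ Spec (CommRingCat.of Ω) := pullback.snd b s
  have hT : ConnectedSpace ↥T := ConnFib.connectedSpace hS b U hU s
  have h1 : IsoOver (toFst φ gC fC b j) (pullback.snd (gC ≫ φ) b) t := by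
    refine isoOver_of_map_eq φ gC fC b j hj hq hfl hlf hgeom hb s₀ H t fun y => ?_
    rw [← Scheme.Hom.comp_apply, show t ≫ b = sT ≫ s from pullback.condition,
      Scheme.Hom.comp_apply]
    exact hs _
  let q₀ : W₀ ⟶ C' := ι₀ ≫ pullback.fst gC fC
  let X := pullback (gC ≫ φ) s
  let sX : X ⟶ Spec (CommRingCat.of Ω) := pullback.snd (gC ≫ φ) s
  let WΩ := pullback (q₀ ≫ gC ≫ φ) s
  let q : WΩ ⟶ X := CInt.baseChangeOver q₀ (gC ≫ φ) s
  -- `Y' = C' ×_S T`
  let Y' := pullback (pullback.snd (gC ≫ φ) b) t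
  have s0 : IsPullback (pullback.fst (gC ≫ φ) b) (pullback.snd (gC ≫ φ) b) (gC ≫ φ) b :=
    IsPullback.of_hasPullback _ _
  have s1 : IsPullback (pullback.fst (pullback.snd (gC ≫ φ) b) t)
      (pullback.snd (pullback.snd (gC ≫ φ) b) t) (pullback.snd (gC ≫ φ) b) t :=
    IsPullback.of_hasPullback _ _
  have s2 : IsPullback (pullback.fst (pullback.snd (gC ≫ φ) b) t ≫ pullback.fst (gC ≫ φ) b)
      (pullback.snd (pullback.snd (gC ≫ φ) b) t) (gC ≫ φ) (sT ≫ s) := by
    rw [show sT ≫ s = t ≫ b from pullback.condition.symm]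
    exact (s1.flip.paste_vert s0.flip).flip
  have sX' : IsPullback (pullback.fst (gC ≫ φ) s) sX (gC ≫ φ) s := IsPullback.of_hasPullback _ _
  let yX : Y' ⟶ X := pullback.lift
    (pullback.fst (pullback.snd (gC ≫ φ) b) t ≫ pullback.fst (gC ≫ φ) b)
    (pullback.snd (pullback.snd (gC ≫ φ) b) t ≫ sT) (by rw [s2.w, Category.assoc])
  have hyX1 : yX ≫ pullback.fst (gC ≫ φ) s =
    pullback.fst (pullback.snd (gC ≫ φ) b) t ≫ pullback.fst (gC ≫ φ) b := pullback.lift_fst _ _ _
  have hyX2 : yX ≫ sX = pullback.snd (pullback.snd (gC ≫ φ) b) t ≫ sT := pullback.lift_snd _ _ _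
  have s3 : IsPullback yX (pullback.snd (pullback.snd (gC ≫ φ) b) t) sX sT := by
    refine (IsPullback.of_bot (t := sX'.flip) ?_ hyX2.symm).flip
    rw [hyX1]
    exact s2.flip
  -- `V = W ×_{S'} T`
  let q' := toFst φ gC fC b j
  let V := pullback q' (pullback.fst (pullback.snd (gC ≫ φ) b) t)
  let vY : V ⟶ Y' := pullback.snd q' (pullback.fst (pullback.snd (gC ≫ φ) b) t)
  have hvY : IsIso vY := h1
  have s4 : IsPullback (pullback.fst q' (pullback.fst (pullback.snd (gC ≫ φ) b) t)) vY q'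
      (pullback.fst (pullback.snd (gC ≫ φ) b) t) := IsPullback.of_hasPullback _ _
  have s5 : IsPullback (vY ≫ yX) (vY ≫ pullback.snd (pullback.snd (gC ≫ φ) b) t) sX sT := by
    have h2 : IsPullback vY (vY ≫ pullback.snd (pullback.snd (gC ≫ φ) b) t)
        (pullback.snd (pullback.snd (gC ≫ φ) b) t) (𝟙 T) :=
      IsPullback.of_horiz_isIso ⟨by simp⟩
    have h3 := h2.paste_horiz s3
    rwa [Category.id_comp] at h3
  -- `V = W ×_S Ω`
  have s6 := (s4.flip.paste_horiz s1.flip).flip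
  have sT' : IsPullback t sT b s := IsPullback.of_hasPullback _ _
  have s7 := s6.paste_vert sT'
  have hw : (q' ≫ pullback.snd (gC ≫ φ) b) ≫ b = r ≫ q₀ ≫ gC ≫ φ := by
    rw [show q' ≫ pullback.snd (gC ≫ φ) b = _ from toFst_snd φ gC fC b j, Category.assoc,
      ← pullback.condition, ← Category.assoc j, ← hr, Category.assoc]
    simp only [q₀, Category.assoc]
  rw [hw] at s7
  have sW : IsPullback (pullback.fst (q₀ ≫ gC ≫ φ) s) (pullback.snd (q₀ ≫ gC ≫ φ) s)
    (q₀ ≫ gC ≫ φ) s := IsPullback.of_hasPullback _ _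
  let r' : V ⟶ WΩ := pullback.lift
    (pullback.fst q' (pullback.fst (pullback.snd (gC ≫ φ) b) t) ≫ r)
    ((vY ≫ pullback.snd (pullback.snd (gC ≫ φ) b) t) ≫ sT) (by rw [Category.assoc]; exact s7.w)
  have hr1 : r' ≫ pullback.fst (q₀ ≫ gC ≫ φ) s =
    pullback.fst q' (pullback.fst (pullback.snd (gC ≫ φ) b) t) ≫ r := pullback.lift_fst _ _ _
  have hr2 : r' ≫ pullback.snd (q₀ ≫ gC ≫ φ) s =
    (vY ≫ pullback.snd (pullback.snd (gC ≫ φ) b) t) ≫ sT := pullback.lift_snd _ _ _
  have s8 : IsPullback (pullback.fst q' (pullback.fst (pullback.snd (gC ≫ φ) b) t)) r' r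
      (pullback.fst (q₀ ≫ gC ≫ φ) s) := by
    refine IsPullback.of_bot (t := sW) ?_ hr1.symm
    rw [hr2]
    exact s7
  have hr's : Surjective r' := MorphismProperty.of_isPullback s8 ‹Surjective r›
  have hq1 : q ≫ pullback.fst (gC ≫ φ) s = pullback.fst (q₀ ≫ gC ≫ φ) s ≫ q₀ :=
    baseChangeOver_fst _ _ _
  have hq2 : q ≫ sX = pullback.snd (q₀ ≫ gC ≫ φ) s := baseChangeOver_snd _ _ _
  have hr'q : r' ≫ q = vY ≫ yX := by
    apply pullback.hom_ext
    · rw [Category.assoc, hq1, ← Category.assoc, hr1, Category.assoc, Category.assoc, hyX1,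
        ← Category.assoc vY, ← s4.w, Category.assoc,
        show q' ≫ pullback.fst (gC ≫ φ) b = _ from toFst_fst φ gC fC b j,
        ← Category.assoc j, ← hr, Category.assoc]
    · rw [Category.assoc, show q ≫ pullback.snd (gC ≫ φ) s = _ from hq2, hr2, Category.assoc,
        Category.assoc, show yX ≫ pullback.snd (gC ≫ φ) s = _ from hyX2]
  have sq : IsPullback (pullback.fst (q₀ ≫ gC ≫ φ) s) q q₀ (pullback.fst (gC ≫ φ) s) :=
    isPullback_baseChangeOver q₀ (gC ≫ φ) s
  have hqp : IsProper q := MorphismProperty.of_isPullback sq (inferInstanceAs (IsProper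
    (ι₀ ≫ pullback.fst gC fC)))
  have hK : IsClopen {x : X | (q ⁻¹' {x}).Finite} := Rigid.isClopen_finite s5 q r' hr'q
  -- the fibre of `Cst`
  let Y := pullback φ s
  let Z := pullback (fC ≫ φ) s
  let g : X ⟶ Y := CInt.baseChangeOver gC φ s
  let f : Z ⟶ Y := CInt.baseChangeOver fC φ s
  have sg : IsPullback (pullback.fst (gC ≫ φ) s) g gC (pullback.fst φ s) :=
    isPullback_baseChangeOver gC φ s
  have sf : IsPullback (pullback.fst (fC ≫ φ) s) f fC (pullback.fst φ s) :=
    isPullback_baseChangeOver fC φ s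
  have sgf : IsPullback (pullback.fst g f) (pullback.snd g f) g f := IsPullback.of_hasPullback _ _
  have sP : IsPullback (pullback.fst gC fC) (pullback.snd gC fC) gC fC :=
    IsPullback.of_hasPullback _ _
  have s9 := sgf.flip.paste_horiz sf
  rw [← sg.w] at s9
  let p : pullback g f ⟶ pullback gC fC := pullback.lift (pullback.fst g f ≫ pullback.fst (gC ≫ φ) s)
    (pullback.snd g f ≫ pullback.fst (fC ≫ φ) s) (by rw [Category.assoc]; exact s9.w.symm)
  have hp1 : p ≫ pullback.fst gC fC = pullback.fst g f ≫ pullback.fst (gC ≫ φ) s :=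
    pullback.lift_fst _ _ _
  have hp2 : p ≫ pullback.snd gC fC = pullback.snd g f ≫ pullback.fst (fC ≫ φ) s :=
    pullback.lift_snd _ _ _
  have s10 : IsPullback p (pullback.fst g f) (pullback.fst gC fC) (pullback.fst (gC ≫ φ) s) := by
    refine IsPullback.of_right (t := sP.flip) ?_ hp1
    rw [hp2]
    exact s9
  have hf2 : f ≫ pullback.snd φ s = pullback.snd (fC ≫ φ) s := baseChangeOver_snd _ _ _
  have hg2 : g ≫ pullback.snd φ s = sX := baseChangeOver_snd _ _ _
  let k : WΩ ⟶ Z := pullback.lift (pullback.fst (q₀ ≫ gC ≫ φ) s ≫ ι₀ ≫ pullback.snd gC fC)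
    (pullback.snd (q₀ ≫ gC ≫ φ) s) (by
      have h5 : (ι₀ ≫ pullback.snd gC fC) ≫ fC ≫ φ = q₀ ≫ gC ≫ φ := by
        simp only [q₀, Category.assoc]
        rw [pullback.condition_assoc]
      rw [Category.assoc, h5, pullback.condition])
  have hk1 : k ≫ pullback.fst (fC ≫ φ) s =
    pullback.fst (q₀ ≫ gC ≫ φ) s ≫ ι₀ ≫ pullback.snd gC fC := pullback.lift_fst _ _ _
  have hk2 : k ≫ pullback.snd (fC ≫ φ) s = pullback.snd (q₀ ≫ gC ≫ φ) s := pullback.lift_snd _ _ _
  have hqk : q ≫ g = k ≫ f := by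
    apply pullback.hom_ext
    · rw [Category.assoc, Category.assoc, ← sf.w, ← sg.w, ← Category.assoc, hq1, ← Category.assoc k,
        hk1]
      simp only [q₀, Category.assoc]
      rw [pullback.condition]
    · rw [Category.assoc, Category.assoc, hg2, hf2, hq2, hk2]
  let i : WΩ ⟶ pullback g f := pullback.lift q k hqk
  have hi1 : i ≫ pullback.fst g f = q := pullback.lift_fst _ _ _
  have hi2 : i ≫ pullback.snd g f = k := pullback.lift_snd _ _ _
  have s11 : IsPullback i (pullback.fst (q₀ ≫ gC ≫ φ) s) p ι₀ := by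
    refine IsPullback.of_right (t := s10.flip) ?_ ?_
    · rw [hi1]
      exact sq.flip
    · apply pullback.hom_ext
      · rw [Category.assoc, hp1, ← Category.assoc, hi1, hq1]
        exact (Category.assoc _ _ _).symm
      · rw [Category.assoc, hp2, ← Category.assoc, hi2, hk1]
        exact (Category.assoc _ _ _).symm
  have hi : IsClosedImmersion i := MorphismProperty.of_isPullback s11.flip ‹IsClosedImmersion ι₀›
  have hfp : IsProper f := MorphismProperty.of_isPullback sf ‹IsProper fC›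
  have hYn : IsNoetherian Y := by
    have h6 : IsLocallyNoetherian Y := LocallyOfFiniteType.isLocallyNoetherian (pullback.snd φ s)
    have h7 : CompactSpace Y := QuasiCompact.compactSpace_of_compactSpace (pullback.snd φ s)
    exact {}
  have hZn : IsNoetherian Z := by
    have h6 : IsLocallyNoetherian Z := LocallyOfFiniteType.isLocallyNoetherian f
    have h7 : CompactSpace Z := QuasiCompact.compactSpace_of_compactSpace f
    exact {}
  have hZd : Cyc.HasRelDim (f ≫ pullback.snd φ s) 1 := by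
    rw [hf2]
    exact K308.Grp.hasRelDim_of_isPullback (IsPullback.of_hasPullback (fC ≫ φ) s).flip hdst
  have key := FinFib.finite_everywhere (pullback.snd φ s) g f hZd i (by rw [hi1]; exact hK)
    (fun A hA y hy => NoContr.eq_empty φ gC hd hη s A hA y hy)
  -- conclusion
  obtain ⟨x', hx'1, -⟩ := Scheme.Pullback.exists_preimage_pullback (f := gC ≫ φ) (g := s) x
    (IsLocalRing.closedPoint Ω) (by rw [hx]; exact (hs _).symm)
  have h12 := key x'
  rw [hi1] at h12
  refine (h12.image (pullback.fst (q₀ ≫ gC ≫ φ) s)).subset ?_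
  intro w hw
  have hw' : q₀ w = x := hw
  obtain ⟨w', hw1, hw2⟩ := Scheme.exists_preimage_of_isPullback sq w x' (by rw [hw', hx'1])
  exact ⟨w', hw2, hw1⟩

end K971.FinFibres
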